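import Cfsg.Agent.DS.Cl.Defs

/-!
# S5881, classical groups: tools for the models (helper12)

* `model_of` : a model from an embedding of a group `K` onto the commutator group of the isometry group;
* `HF K V` : non-degenerate reflexive sesquilinear forms; `h.EB` : the endomorphism ring with the adjoint involution;
* `HF.ss`, `HF.span_top`, `HF.semi` : star-simplicity, generation by rank one maps, semisimilitudes.
-/

set_option autoImplicit false

namespace Cfsg.Agent.DS.Cl.Fwd

open Cfsg Cfsg.Agent.DS.Cl

section general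

variable {A : Type} [Ring A] [StarRing A]

theorem mem_Aut_max {F : FR A} (hF : F.L = Lmax A) {γ : RingAut A} (hγ : γ ∈ SAut A) : γ ∈ F.Aut := by
  refine ⟨hγ, ?_⟩
  rw [hF]
  show star (γ F.l - F.l) = -(γ F.l - F.l)
  have h1 : star F.l = 1 - F.l := by rw [← F.l_add]; abel
  rw [star_sub, ← hγ, h1, map_sub, map_one]
  abel

theorem mem_Iso_max {F : FR A} (hF : F.L = Lmax A) {u : Aˣ} (hu : (u : A) * star (u : A) = 1) : u ∈ F.Iso := by
  refine ⟨hu, ?_⟩
  rw [hF]
  show star ((u : A) * F.l * star (u : A) - F.l) = -((u : A) * F.l * star (u : A) - F.l)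
  have h1 : star F.l = 1 - F.l := by rw [← F.l_add]; abel
  rw [star_sub, star_mul, star_mul, star_star, h1, sub_mul, one_mul, mul_sub, hu, ← mul_assoc]
  abel

/-- **a model from an embedding** -/
theorem model_of [Finite A] (F : FR A) (hss : SS A) (hspan : F.Span) {K : Type} [Group K] (φ : K →* Aˣ)
    (hinj : Function.Injective φ) (hr : φ.range = ⁅F.Iso, F.Iso⁆) (Γ : Set (MulAut (K ⧸ Subgroup.center K)))
    (hΓ : ∀ β ∈ Γ, ∃ γ ∈ F.Aut, ∀ k : K, ∃ k' : K,
      β (QuotientGroup.mk k) = QuotientGroup.mk k' ∧ γ (φ k : A) = φ k') :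
    Model (K ⧸ Subgroup.center K) Γ := by
  have hmem : ∀ k : K, cj A (φ k) ∈ F.S := fun k => ⟨φ k, by rw [← hr]; exact ⟨k, rfl⟩, rfl⟩
  let f : K →* F.S := ((cj A).comp φ).codRestrict F.S hmem
  have hf : Function.Surjective f := by
    rintro ⟨_, u, hu, rfl⟩
    rw [← hr] at hu
    obtain ⟨k, rfl⟩ := hu
    exact ⟨k, rfl⟩
  have hker : Subgroup.center K = f.ker := by
    ext k
    rw [MonoidHom.mem_ker, Subgroup.mem_center_iff]
    constructor
    · intro hk
      apply Subtype.ext
      change cj A (φ k) = 1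
      have h1 : ∀ x : A, (φ k : A) * x = x * φ k := by
        intro x
        have hx : x ∈ Subring.closure ((Subring.center A : Set A) ∪
            ((fun u : Aˣ => (u : A)) '' (⁅F.Iso, F.Iso⁆ : Subgroup Aˣ))) := by
          rw [hspan]; trivial
        have h2 : Subring.closure ((Subring.center A : Set A) ∪
            ((fun u : Aˣ => (u : A)) '' (⁅F.Iso, F.Iso⁆ : Subgroup Aˣ))) ≤ Subring.centralizer {(φ k : A)} := by
          rw [Subring.closure_le]
          rintro y (hy | ⟨u, hu, rfl⟩)
          · intro z hz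
            rw [Set.mem_singleton_iff.1 hz]
            exact (Subring.mem_center_iff.1 hy) _
          · intro z hz
            rw [Set.mem_singleton_iff.1 hz]
            rw [← hr] at hu
            obtain ⟨g, rfl⟩ := hu
            rw [← Units.val_mul, ← Units.val_mul, ← map_mul, ← map_mul, hk g]
        exact h2 hx _ rfl
      ext x
      rw [cj_apply, h1, mul_assoc, Units.mul_inv, mul_one]
      rfl
    · intro hk g
      have h1 : cj A (φ k) = 1 := congrArg Subtype.val hk
      have h2 : (φ k : A) * φ g * ((φ k)⁻¹ : Aˣ) = φ g := by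
        rw [← cj_apply, h1]
        rfl
      apply hinj
      apply Units.ext
      rw [map_mul, map_mul, Units.val_mul, Units.val_mul]
      calc (φ g : A) * φ k = (φ k : A) * φ g * ((φ k)⁻¹ : Aˣ) * φ k := by rw [h2]
        _ = φ k * φ g := by rw [mul_assoc, Units.inv_mul, mul_one]
  let e : (K ⧸ Subgroup.center K) ≃* F.S :=
    (QuotientGroup.quotientMulEquivOfEq hker).trans (QuotientGroup.quotientKerEquivOfSurjective f hf)
  have he : ∀ k : K, e.symm (f k) = QuotientGroup.mk k := fun k => by
    rw [MulEquiv.symm_apply_eq]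
    rfl
  refine ⟨A, inferInstance, inferInstance, inferInstance, F, e.symm, hss, hspan, fun β hβ => ?_⟩
  obtain ⟨γ, hγ, h⟩ := hΓ β hβ
  refine ⟨γ, hγ, fun s t hst => ?_⟩
  obtain ⟨k, rfl⟩ := hf s
  obtain ⟨k', h1, h2⟩ := h k
  have h3 : t = f k' := by
    apply Subtype.ext
    rw [hst]
    change γ * cj A (φ k) * γ⁻¹ = cj A (φ k')
    ext x
    have h4 : γ (((φ k)⁻¹ : Aˣ) : A) = ((φ k')⁻¹ : Aˣ) := by
      have h5 : (φ k' : A) * γ (((φ k)⁻¹ : Aˣ) : A) = 1 := by
        rw [← h2, ← map_mul, Units.mul_inv, map_one]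
      exact (Units.eq_inv_of_mul_eq_one_left h5)
    change γ (cj A (φ k) (γ.symm x)) = _
    rw [cj_apply, cj_apply, map_mul, map_mul, h2, h4, RingEquiv.apply_symm_apply]
  rw [h3, he, he, h1]

/-- the commutator group of the range -/
theorem comm_range {H B : Type*} [Group H] [Group B] (ψ : H →* B) :
    ⁅ψ.range, ψ.range⁆ = (commutator H).map ψ := by
  rw [commutator_def, Subgroup.map_commutator, ← MonoidHom.range_eq_map]

end general

/-- a non-degenerate reflexive sesquilinear form, linear in the first variable -/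
structure HF (K V : Type) [Field K] [AddCommGroup V] [Module K V] where
  /-- the involution of the field -/
  τ : K →+* K
  /-- the sign -/
  ε : K
  /-- the form -/
  b : V → V → K
  add_left : ∀ u u' v, b (u + u') v = b u v + b u' v
  smul_left : ∀ (c : K) u v, b (c • u) v = c * b u v
  swap : ∀ u v, b v u = ε * τ (b u v)
  τ_τ : ∀ c, τ (τ c) = c
  nondeg : ∀ v, (∀ u, b u v = 0) → v = 0

namespace HF

variable {K V : Type} [Field K] [AddCommGroup V] [Module K V] (h : HF K V)

theorem add_right (u v v' : V) : h.b u (v + v') = h.b u v + h.b u v' := by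
  rw [h.swap (v + v') u, h.swap v u, h.swap v' u, h.add_left, map_add, mul_add]

theorem smul_right (c : K) (u v : V) : h.b u (c • v) = h.τ c * h.b u v := by
  rw [h.swap (c • v) u, h.swap v u, h.smul_left, map_mul]
  ring

theorem zero_left (v : V) : h.b 0 v = 0 := by
  have := h.smul_left 0 0 v
  rwa [zero_smul, zero_mul] at this

theorem zero_right (v : V) : h.b v 0 = 0 := by
  rw [h.swap 0 v, h.zero_left, map_zero, mul_zero]

theorem sub_left (u u' v : V) : h.b (u - u') v = h.b u v - h.b u' v := by
  rw [eq_sub_iff_add_eq, ← h.add_left, sub_add_cancel]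

theorem sub_right (u v v' : V) : h.b u (v - v') = h.b u v - h.b u v' := by
  rw [eq_sub_iff_add_eq, ← h.add_right, sub_add_cancel]

theorem ext_right {v v' : V} (H : ∀ u, h.b u v = h.b u v') : v = v' := by
  rw [← sub_eq_zero]
  exact h.nondeg _ fun u => by rw [h.sub_right, H, sub_self]

theorem exists_ne {v : V} (hv : v ≠ 0) : ∃ u, h.b u v ≠ 0 := by
  by_contra H
  push Not at H
  exact hv (h.nondeg v H)

theorem ne_swap {u v : V} (H : h.b u v ≠ 0) : h.b v u ≠ 0 := by
  intro h0
  apply H
  rw [h.swap v u, h0, map_zero, mul_zero]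

/-- the linear form of a vector -/
def lin (w : V) : V →ₗ[K] K where
  toFun u := h.b u w
  map_add' u u' := h.add_left u u' w
  map_smul' c u := h.smul_left c u w

/-- the rank one maps -/
def ro (u v : V) : Module.End K V := (h.lin v).smulRight u

theorem ro_apply (u v x : V) : h.ro u v x = h.b x v • u := rfl

theorem ro_mul (u v u' v' : V) : h.ro u v * h.ro u' v' = h.b u' v • h.ro u v' := by
  ext x
  rw [Module.End.mul_apply, ro_apply, ro_apply, LinearMap.smul_apply, ro_apply, h.smul_left, smul_smul, mul_comm]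

variable [Finite K] [Finite V]

theorem exists_rep (f : V →ₗ[K] K) : ∃ w, ∀ u, h.b u w = f u := by
  have : Module.Finite K V := Module.Finite.of_finite
  have hfin : Finite (Module.Dual K V) := Finite.of_injective _ DFunLike.coe_injective
  have hinj : Function.Injective (h.lin : V → Module.Dual K V) := fun v v' H =>
    h.ext_right fun u => LinearMap.congr_fun H u
  have hcard : Nat.card (Module.Dual K V) ≤ Nat.card V := by
    rw [Module.natCard_eq_pow_finrank (K := K) (V := Module.Dual K V), Module.natCard_eq_pow_finrank (K := K) (V := V),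
      Subspace.dual_finrank_eq]
  obtain ⟨w, hw⟩ := (hinj.bijective_of_nat_card_le hcard).2 f
  exact ⟨w, fun u => LinearMap.congr_fun hw u⟩

/-- the rank one maps span -/
theorem eq_top_of_ro (S : AddSubgroup (Module.End K V)) (H : ∀ u v, h.ro u v ∈ S) (a : Module.End K V) : a ∈ S := by
  have : Module.Finite K V := Module.Finite.of_finite
  let e := Module.finBasis K V
  choose f hf using fun i => h.exists_rep (e.coord i)
  have h1 : a = ∑ i, h.ro (a (e i)) (f i) := by
    ext x
    rw [LinearMap.sum_apply]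
    conv_lhs => rw [← e.sum_repr x, map_sum]
    refine Finset.sum_congr rfl fun i _ => ?_
    rw [ro_apply, hf, map_smul]
    rfl
  rw [h1]
  exact S.sum_mem fun i _ => H _ _

/-- the adjoint -/
noncomputable def adj (a : Module.End K V) : Module.End K V where
  toFun y := (h.exists_rep ((h.lin y).comp a)).choose
  map_add' y y' := h.ext_right fun u => by
    rw [h.add_right, (h.exists_rep _).choose_spec, (h.exists_rep _).choose_spec, (h.exists_rep _).choose_spec]
    exact h.add_right _ _ _
  map_smul' c y := h.ext_right fun u => by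
    rw [RingHom.id_apply, h.smul_right, (h.exists_rep _).choose_spec, (h.exists_rep _).choose_spec]
    exact h.smul_right _ _ _

theorem b_adj (a : Module.End K V) (u y : V) : h.b u (h.adj a y) = h.b (a u) y :=
  (h.exists_rep ((h.lin y).comp a)).choose_spec u

theorem adj_b (a : Module.End K V) (u y : V) : h.b (h.adj a u) y = h.b u (a y) := by
  rw [h.swap y (h.adj a u), h.b_adj, ← h.swap]

theorem adj_adj (a : Module.End K V) : h.adj (h.adj a) = a :=
  LinearMap.ext fun y => h.ext_right fun u => by rw [h.b_adj, h.adj_b]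

theorem adj_mul (a a' : Module.End K V) : h.adj (a * a') = h.adj a' * h.adj a :=
  LinearMap.ext fun y => h.ext_right fun u => by
    rw [Module.End.mul_apply, h.b_adj, h.b_adj, h.b_adj, Module.End.mul_apply]

theorem adj_add (a a' : Module.End K V) : h.adj (a + a') = h.adj a + h.adj a' :=
  LinearMap.ext fun y => h.ext_right fun u => by
    rw [LinearMap.add_apply, h.add_right, h.b_adj, h.b_adj, h.b_adj, LinearMap.add_apply, h.add_left]

/-- the endomorphism ring with the adjoint involution -/
def EB (_h : HF K V) : Type := Module.End K V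

instance EB.instRingFwd : Ring h.EB := inferInstanceAs (Ring (Module.End K V))

instance EB.instFiniteFwd : Finite h.EB :=
  (Finite.of_injective (fun a : Module.End K V => (a : V → V)) DFunLike.coe_injective : Finite (Module.End K V))

noncomputable instance EB.instStarRingFwd : StarRing h.EB where
  star a := h.adj a
  star_involutive a := h.adj_adj a
  star_mul a a' := h.adj_mul a a'
  star_add a a' := h.adj_add a a'

/-- the element of `h.EB` of an endomorphism -/
def eb (a : Module.End K V) : h.EB := a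

/-- the endomorphism of an element of `h.EB` -/
def ap (a : h.EB) : Module.End K V := a

omit [Finite K] [Finite V] in
theorem ap_eb (a : Module.End K V) : h.ap (h.eb a) = a := rfl

omit [Finite K] [Finite V] in
theorem ap_mul (a a' : h.EB) (v : V) : h.ap (a * a') v = h.ap a (h.ap a' v) := rfl

omit [Finite K] [Finite V] in
theorem ap_one (v : V) : h.ap 1 v = v := rfl

omit [Finite K] [Finite V] in
theorem ap_add (a a' : h.EB) (v : V) : h.ap (a + a') v = h.ap a v + h.ap a' v := rfl

omit [Finite K] [Finite V] in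
theorem ap_sub (a a' : h.EB) (v : V) : h.ap (a - a') v = h.ap a v - h.ap a' v := rfl

omit [Finite K] [Finite V] in
theorem ap_ext {a a' : h.EB} (H : ∀ v, h.ap a v = h.ap a' v) : a = a' := LinearMap.ext H

theorem b_star (a : h.EB) (u y : V) : h.b u (h.ap (star a) y) = h.b (h.ap a u) y := h.b_adj a u y

theorem star_b (a : h.EB) (u y : V) : h.b (h.ap (star a) u) y = h.b u (h.ap a y) := h.adj_b a u y

omit [Finite K] [Finite V] in
theorem smul_mem_center (c : K) : h.eb (c • 1) ∈ Subring.center h.EB := by
  rw [Subring.mem_center_iff]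
  intro g
  apply h.ap_ext
  intro v
  rw [ap_mul, ap_mul, ap_eb, LinearMap.smul_apply, LinearMap.smul_apply, map_smul]
  rfl

omit [Finite K] [Finite V] in
theorem eb_smul (c : K) (a : Module.End K V) : h.eb (c • a) = h.eb (c • 1) * h.eb a := rfl

/-- star-simplicity -/
theorem ss [Nontrivial V] : SS h.EB := by
  refine ⟨inferInstanceAs (Nontrivial (Module.End K V)), fun I hI _ => ?_⟩
  by_cases h0 : I = ⊥
  · exact Or.inl h0
  right
  obtain ⟨x, hx, hx0⟩ := Submodule.exists_mem_ne_zero_of_ne_bot h0
  obtain ⟨v, hv⟩ : ∃ v, h.ap x v ≠ 0 := by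
    by_contra H
    push Not at H
    exact hx0 (h.ap_ext H)
  obtain ⟨w, hw⟩ := h.exists_ne hv
  have hw' := h.ne_swap hw
  rw [Ideal.eq_top_iff_one]
  refine h.eq_top_of_ro I.toAddSubgroup (fun u y => ?_) 1
  have h1 := hI _ (I.mul_mem_left (h.eb ((h.b (h.ap x v) w)⁻¹ • h.ro u w)) hx) (h.eb (h.ro v y))
  have h2 : h.eb ((h.b (h.ap x v) w)⁻¹ • h.ro u w) * x * h.eb (h.ro v y) = h.eb (h.ro u y) := by
    apply h.ap_ext
    intro z
    rw [ap_mul, ap_mul, ap_eb, ap_eb, ap_eb, ro_apply, ro_apply, map_smul, LinearMap.smul_apply, ro_apply,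
      h.smul_left, smul_smul]
    congr 1
    field_simp
  rw [h2] at h1
  exact h1

/-- generation by rank one maps -/
theorem span_top (R : Subring h.EB) (hc : ∀ c : K, h.eb (c • 1) ∈ R) (X : Set V) (hne : X.Nonempty)
    (h0 : ∀ x ∈ X, x ≠ 0) (hro : ∀ x ∈ X, h.eb (h.ro x x) ∈ R)
    (hX : ∀ x ∈ X, ∀ v, h.b v x ≠ 0 → ∃ c : K, v + c • x ∈ X ∧ h.b (v + c • x) x ≠ 0) : R = ⊤ := by
  have hsm : ∀ (c : K) (a : Module.End K V), h.eb a ∈ R → h.eb (c • a) ∈ R := fun c a ha => by
    rw [eb_smul]
    exact R.mul_mem (hc c) ha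
  -- a subspace containing `x` and the `y ∈ X` not orthogonal to `x` is everything
  have key : ∀ x ∈ X, ∀ P : V → Prop, (∀ u v, P u → P v → P (u - v)) → (∀ c : K, P (c • x)) →
      (∀ y ∈ X, h.b y x ≠ 0 → P y) → ∀ v, P v := by
    intro x hx P hsub hPx hP
    have h1 : ∀ v, h.b v x ≠ 0 → P v := by
      intro v hv
      obtain ⟨c, hc1, hc2⟩ := hX x hx v hv
      have := hsub _ _ (hP _ hc1 hc2) (hPx c)
      rwa [add_sub_cancel_right] at this
    intro v
    by_cases hv : h.b v x = 0
    · obtain ⟨w, hw⟩ := h.exists_ne (h0 x hx)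
      have := hsub _ _ (h1 (v + w) (by rwa [h.add_left, hv, zero_add])) (h1 w hw)
      rwa [add_sub_cancel_right] at this
    · exact h1 v hv
  have h2 : ∀ x ∈ X, ∀ v, h.eb (h.ro x v) ∈ R := by
    intro x hx
    refine key x hx _ (fun u v hu hv => ?_) (fun c => ?_) (fun y hy hyx => ?_)
    · have e : h.eb (h.ro x (u - v)) = h.eb (h.ro x u) - h.eb (h.ro x v) := by
        apply h.ap_ext
        intro z
        rw [ap_sub, ap_eb, ap_eb, ap_eb, ro_apply, ro_apply, ro_apply, h.sub_right, sub_smul]
      rw [e]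
      exact R.sub_mem hu hv
    · have e : h.ro x (c • x) = h.τ c • h.ro x x := by
        ext z
        rw [LinearMap.smul_apply, ro_apply, ro_apply, h.smul_right, smul_smul]
      rw [e]
      exact hsm _ _ (hro x hx)
    · have e : h.ro x y = (h.b y x)⁻¹ • (h.ro x x * h.ro y y) := by
        rw [ro_mul, smul_smul, inv_mul_cancel₀ hyx, one_smul]
      rw [e]
      exact hsm _ _ (R.mul_mem (hro x hx) (hro y hy))
  obtain ⟨x, hx⟩ := hne
  have h3 : ∀ v u, h.eb (h.ro u v) ∈ R := by
    intro v
    refine key x hx _ (fun u u' hu hu' => ?_) (fun c => ?_) (fun y hy _ => h2 y hy v)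
    · have e : h.eb (h.ro (u - u') v) = h.eb (h.ro u v) - h.eb (h.ro u' v) := by
        apply h.ap_ext
        intro z
        rw [ap_sub, ap_eb, ap_eb, ap_eb, ro_apply, ro_apply, ro_apply, smul_sub]
      rw [e]
      exact R.sub_mem hu hu'
    · have e : h.ro (c • x) v = c • h.ro x v := by
        ext z
        rw [LinearMap.smul_apply, ro_apply, ro_apply, smul_comm]
      rw [e]
      exact hsm _ _ (h2 x hx v)
  rw [eq_top_iff]
  intro a _
  exact h.eq_top_of_ro R.toAddSubgroup (fun u v => h3 v u) a

/-- unitary elements are isometries -/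
theorem unit_iff (u : h.EBˣ) : (u : h.EB) * star (u : h.EB) = 1 ↔
    ∀ x y, h.b (h.ap u x) (h.ap u y) = h.b x y := by
  constructor
  · intro H x y
    have h1 : star (u : h.EB) * u = 1 := by
      have h2 : star (u : h.EB) = (u⁻¹ : h.EBˣ) := Units.eq_inv_of_mul_eq_one_left H
      rw [h2, Units.inv_mul]
    rw [← h.b_star, ← ap_mul, h1, ap_one]
  · intro H
    have h1 : star (u : h.EB) * u = 1 := h.ap_ext fun y => h.ext_right fun x => by
      rw [ap_mul, h.b_star, H, ap_one]
    have h2 : star (u : h.EB) = (u⁻¹ : h.EBˣ) := Units.eq_inv_of_mul_eq_one_right h1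
    rw [h2, Units.mul_inv]

omit [Finite K] [Finite V] in
/-- conjugation by a semilinear bijection -/
def conjE (g : Equiv.Perm V) (σ : K ≃+* K) (ha : ∀ u v, g (u + v) = g u + g v)
    (hs : ∀ (c : K) v, g (c • v) = σ c • g v) (a : Module.End K V) : Module.End K V where
  toFun v := g (a (g.symm v))
  map_add' u v := by
    have e : g.symm (u + v) = g.symm u + g.symm v := g.injective (by
      rw [ha, g.apply_symm_apply, g.apply_symm_apply, g.apply_symm_apply])
    rw [e, map_add, ha]
  map_smul' c v := by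
    have e : g.symm (c • v) = σ.symm c • g.symm v := g.injective (by
      rw [hs, g.apply_symm_apply, g.apply_symm_apply, σ.apply_symm_apply])
    rw [e, map_smul, hs, σ.apply_symm_apply]
    rfl

omit [Finite K] [Finite V] in
/-- the ring automorphism of a semilinear bijection -/
def semiAut (g : Equiv.Perm V) (σ : K ≃+* K) (ha : ∀ u v, g (u + v) = g u + g v)
    (hs : ∀ (c : K) v, g (c • v) = σ c • g v) : RingAut h.EB where
  toFun a := h.eb (conjE g σ ha hs (h.ap a))
  invFun a := h.eb (conjE g.symm σ.symm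
    (fun u v => g.injective (by rw [ha, g.apply_symm_apply, g.apply_symm_apply, g.apply_symm_apply]))
    (fun c v => g.injective (by rw [hs, g.apply_symm_apply, g.apply_symm_apply, σ.apply_symm_apply])) (h.ap a))
  left_inv a := h.ap_ext fun v => by
    change g.symm (g (h.ap a (g.symm (g v)))) = _
    rw [g.symm_apply_apply, g.symm_apply_apply]
  right_inv a := h.ap_ext fun v => by
    change g (g.symm (h.ap a (g (g.symm v)))) = _
    rw [g.apply_symm_apply, g.apply_symm_apply]
  map_mul' a a' := h.ap_ext fun v => by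
    change g (h.ap a (h.ap a' (g.symm v))) = g (h.ap a (g.symm (g (h.ap a' (g.symm v)))))
    rw [g.symm_apply_apply]
  map_add' a a' := h.ap_ext fun v => ha _ _

omit [Finite K] [Finite V] in
theorem ap_semiAut (g : Equiv.Perm V) (σ : K ≃+* K) (ha : ∀ u v, g (u + v) = g u + g v)
    (hs : ∀ (c : K) v, g (c • v) = σ c • g v) (a : h.EB) (v : V) :
    h.ap (h.semiAut g σ ha hs a) (g v) = g (h.ap a v) := by
  change g (h.ap a (g.symm (g v))) = _
  rw [g.symm_apply_apply]

/-- semisimilitudes commute with the involution -/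
theorem semiAut_mem (g : Equiv.Perm V) (σ : K ≃+* K) (ha : ∀ u v, g (u + v) = g u + g v)
    (hs : ∀ (c : K) v, g (c • v) = σ c • g v) {c : K} (hb : ∀ u v, h.b (g u) (g v) = c * σ (h.b u v)) :
    h.semiAut g σ ha hs ∈ SAut h.EB := by
  intro a
  apply h.ap_ext
  intro v
  obtain ⟨v, rfl⟩ := g.surjective v
  apply h.ext_right
  intro u
  obtain ⟨u, rfl⟩ := g.surjective u
  rw [ap_semiAut, hb, h.b_star, h.b_star, ap_semiAut, hb]

/-- bilinear forms are represented -/
theorem exists_op (hτ : ∀ c, h.τ c = c) (β : V →ₗ[K] V →ₗ[K] K) : ∃ a : h.EB, ∀ u v, h.b u (h.ap a v) = β u v := by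
  choose f hf using fun v => h.exists_rep (β.flip v)
  refine ⟨h.eb ⟨⟨f, fun v v' => h.ext_right fun u => ?_⟩, fun c v => h.ext_right fun u => ?_⟩, fun u v => hf v u⟩
  · rw [h.add_right, hf, hf, hf, map_add, LinearMap.add_apply]
  · change h.b u (f (c • v)) = h.b u (c • f v)
    rw [h.smul_right, hτ, hf, hf, map_smul, LinearMap.smul_apply, smul_eq_mul]

end HF

/-- an alternating form is `β - βᵀ` -/
theorem exists_half {K V : Type} [Field K] [AddCommGroup V] [Module K V] [Module.Finite K V]
    (B : V →ₗ[K] V →ₗ[K] K) (hB : ∀ v, B v v = 0) : ∃ β : V →ₗ[K] V →ₗ[K] K, ∀ u v, β u v - β v u = B u v := by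
  let e := Module.finBasis K V
  let β : V →ₗ[K] V →ₗ[K] K := e.constr K fun i => e.constr K fun j => if i < j then B (e i) (e j) else 0
  have hβ : ∀ i j, β (e i) (e j) = if i < j then B (e i) (e j) else 0 := fun i j => by
    simp only [β, Module.Basis.constr_basis]
  have hsw : ∀ u v, B u v = -B v u := fun u v => by
    have h1 := hB (u + v)
    simp only [map_add, LinearMap.add_apply, hB] at h1
    linear_combination h1
  have h1 : β - β.flip = B := by
    refine e.ext fun i => e.ext fun j => ?_
    rw [LinearMap.sub_apply, LinearMap.sub_apply, LinearMap.flip_apply, hβ, hβ]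
    rcases lt_trichotomy i j with h | h | h
    · rw [if_pos h, if_neg h.not_gt, sub_zero]
    · rw [h, if_neg (lt_irrefl _), sub_zero, hB]
    · rw [if_neg h.not_gt, if_pos h, zero_sub, ← hsw]
  exact ⟨β, fun u v => by rw [← h1]; rfl⟩

end Cfsg.Agent.DS.Cl.Fwd
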