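import Cfsg.Agent.DS.Cl.Blk

/-!
# Invariant subrings of an irreducible group
-/

set_option autoImplicit false

namespace Cfsg.Agent.DS.Cl

open Cfsg Cfsg.Agent.H936 Cfsg.Agent.DS

theorem cen_idem_of_semisimple {R : Type} [Ring R] [IsSemisimpleRing R] {I : Ideal R} (hI : Two I) :
    ∃ e ∈ I, e ∈ Subring.center R ∧ e * e = e ∧ ∀ x ∈ I, x * e = x := by
  have key : ∀ J : Ideal R, ∃ e ∈ J, e * e = e ∧ ∀ x ∈ J, x * e = x := fun J => by
    obtain ⟨e, he, hJ⟩ := IsSemisimpleRing.ideal_eq_span_idempotent J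
    refine ⟨e, by rw [hJ]; exact Ideal.mem_span_singleton_self e, he.eq, fun x hx => ?_⟩
    rw [hJ] at hx
    obtain ⟨b, rfl⟩ := Ideal.mem_span_singleton'.1 hx
    rw [mul_assoc, he.eq]
  obtain ⟨e, he, hee, h2⟩ := key I
  refine ⟨e, he, ?_, hee, h2⟩
  have h3 : ∀ a, e * a * e = e * a := fun a => h2 _ (hI e he a)
  let N : Ideal R :=
    { carrier := {x | e * x = 0 ∧ x * e = x}
      add_mem' := by
        rintro a b ⟨ha, ha'⟩ ⟨hb, hb'⟩
        exact ⟨by rw [mul_add, ha, hb, add_zero], by rw [add_mul, ha', hb']⟩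
      zero_mem' := ⟨by simp, by simp⟩
      smul_mem' := by
        rintro c x ⟨hx, hx'⟩
        refine ⟨?_, by rw [smul_eq_mul, mul_assoc, hx']⟩
        rw [smul_eq_mul, ← mul_assoc, ← h3 c, mul_assoc, hx, mul_zero] }
  obtain ⟨f, ⟨hf1, hf2⟩, hff, h4⟩ := key N
  have hf0 : f = 0 := by rw [← hff]; nth_rewrite 1 [← hf2]; rw [mul_assoc, hf1, mul_zero]
  rw [Subring.mem_center_iff]
  intro g
  have h5 : g * e - e * g ∈ N := by
    refine ⟨by rw [mul_sub, ← mul_assoc, h3, ← mul_assoc, hee, sub_self], ?_⟩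
    rw [sub_mul, mul_assoc, hee, h3]
  have h6 := h4 _ h5
  rw [hf0, mul_zero, eq_comm, sub_eq_zero] at h6
  exact h6

variable {A : Type} [Ring A] [StarRing A] [Finite A]

/-- the atoms of the symmetric idempotents of a commutative subring form a frame -/
theorem exists_frame (Z : Subring A) (hc : ∀ x ∈ Z, ∀ y ∈ Z, x * y = y * x) {e : A} (he : e ∈ Z) (hs : star e = e)
    (hi : e * e = e) (h0 : e ≠ 0) (h1 : e ≠ 1) :
    ∃ D : Finset A, Fr D ∧ (∀ d ∈ D, d ∈ Z) ∧ ∀ M : Subgroup (RingAut A), M ≤ SAut A → Inv M Z → Inv M D := by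
  classical
  have := Fintype.ofFinite A
  let P : A → Prop := fun x => x ∈ Z ∧ star x = x ∧ x * x = x
  have hPmul : ∀ x y, P x → P y → P (x * y) := by
    rintro x y ⟨a1, a2, a3⟩ ⟨b1, b2, b3⟩
    refine ⟨Z.mul_mem a1 b1, by rw [star_mul, a2, b2, hc x a1 y b1], ?_⟩
    rw [mul_assoc, ← mul_assoc y, ← hc x a1 y b1, mul_assoc, b3, ← mul_assoc, a3]
  have hPc : ∀ x, P x → P (1 - x) := by
    rintro x ⟨a1, a2, a3⟩
    exact ⟨Z.sub_mem Z.one_mem a1, by rw [star_sub, star_one, a2], by rw [mul_sub, mul_one, sub_mul, one_mul, a3]; simp⟩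
  let At : A → Prop := fun x => P x ∧ x ≠ 0 ∧ ∀ y, P y → x * y = 0 ∨ x * y = x
  have hAt : ∀ x, P x → x ≠ 0 → ∃ f, At f ∧ f * x = f := by
    intro x hx hx0
    obtain ⟨f, hf⟩ := (Set.toFinite {f | P f ∧ f ≠ 0 ∧ f * x = f}).exists_minimalFor (fun f => {a | f * a = a}) _
      ⟨x, hx, hx0, hx.2.2⟩
    obtain ⟨⟨f1, f2, f3⟩, f4⟩ := hf
    refine ⟨f, ⟨f1, f2, fun y hy => ?_⟩, f3⟩
    by_cases hfy : f * y = 0
    · exact Or.inl hfy
    right
    have h5 := f4 (j := f * y) ⟨hPmul _ _ f1 hy, hfy, by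
      rw [mul_assoc, hc y hy.1 x hx.1, ← mul_assoc, f3]⟩ (fun a (ha : f * y * a = a) => by
        show f * a = a
        rw [← ha, ← mul_assoc, ← mul_assoc, f1.2.2])
    have h6 : f * y * f = f := h5 f1.2.2
    rwa [mul_assoc, hc y hy.1 f f1.1, ← mul_assoc, f1.2.2] at h6
  let D : Finset A := Finset.univ.filter At
  have hD : ∀ x, x ∈ D ↔ At x := fun x => by simp [D]
  have horth : ∀ x ∈ D, ∀ y ∈ D, x ≠ y → x * y = 0 := by
    intro x hx y hy hxy
    obtain ⟨x1, -, x3⟩ := (hD x).1 hx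
    obtain ⟨y1, -, y3⟩ := (hD y).1 hy
    rcases x3 y y1 with h | h
    · exact h
    rcases y3 x x1 with h' | h'
    · rw [hc x x1.1 y y1.1, h']
    · exact absurd (by rw [← h, hc x x1.1 y y1.1, h']) hxy
  have hmul : ∀ x ∈ D, x * ∑ y ∈ D, y = x := by
    intro x hx
    rw [Finset.mul_sum, Finset.sum_eq_single x (fun y hy hyx => horth x hx y hy hyx.symm) (fun h => absurd hx h)]
    exact ((hD x).1 hx).1.2.2
  refine ⟨D, ⟨?_, fun x hx => ((hD x).1 hx).2.1, fun x hx => ((hD x).1 hx).1.2.2, fun x hx => ((hD x).1 hx).1.2.1,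
    horth, ?_⟩, fun x hx => ((hD x).1 hx).1.1, ?_⟩
  · obtain ⟨f, hf, hfe⟩ := hAt e ⟨he, hs, hi⟩ h0
    obtain ⟨g, hg, hge⟩ := hAt (1 - e) (hPc e ⟨he, hs, hi⟩) (sub_ne_zero.2 h1.symm)
    refine Finset.one_lt_card.2 ⟨f, (hD f).2 hf, g, (hD g).2 hg, ?_⟩
    rintro rfl
    rw [mul_sub, mul_one, hfe, sub_self] at hge
    exact hf.2.1 hge.symm
  · by_contra hne
    have h2 : P (∑ y ∈ D, y) := by
      refine ⟨Z.sum_mem fun y hy => ((hD y).1 hy).1.1, ?_, ?_⟩
      · rw [star_sum]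
        exact Finset.sum_congr rfl fun y hy => ((hD y).1 hy).1.2.1
      · rw [Finset.sum_mul]
        exact Finset.sum_congr rfl hmul
    obtain ⟨f, hf, hfe⟩ := hAt _ (hPc _ h2) (sub_ne_zero.2 (Ne.symm hne))
    rw [mul_sub, mul_one, hmul f ((hD f).2 hf), sub_self] at hfe
    exact hf.2.1 hfe.symm
  · intro M hM hZ γ hγ x hx
    have hP : ∀ γ ∈ M, ∀ x, P x → P (γ x) := by
      rintro γ hγ x ⟨a1, a2, a3⟩
      exact ⟨hZ γ hγ x a1, by rw [← hM hγ, a2], by rw [← map_mul, a3]⟩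
    obtain ⟨x1, x2, x3⟩ := (hD x).1 hx
    refine (hD _).2 ⟨hP γ hγ x x1, by rwa [map_ne_zero_iff γ γ.injective], fun y hy => ?_⟩
    rcases x3 _ (hP _ (inv_mem hγ) y hy) with h | h
    · left
      rw [← ra_apply_inv γ y, ← map_mul, h, map_zero]
    · right
      conv_lhs => rw [← ra_apply_inv γ y, ← map_mul, h]

/-- a subring whose radical generates a two-sided ideal is semisimple -/
theorem semisimple_of_two (h : SS A) {B : Subring A} (hs : ∀ x ∈ B, star x ∈ B)
    (h0 : Two (Ideal.span ((Blk.ofSubring B hs).val '' (Ring.jacobson (Blk.ofSubring B hs).T)))) :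
    IsSemisimpleRing (Blk.ofSubring B hs).T := by
  set B' := Blk.ofSubring B hs
  rw [IsArtinianRing.isSemisimpleRing_iff_jacobson]
  set J := Ring.jacobson B'.T
  obtain ⟨n, hn⟩ := IsArtinianRing.isNilpotent_jacobson_bot (R := B'.T)
  rw [Ideal.jacobson_bot] at hn
  let I : ℕ → Ideal A := fun k => Ideal.span (B'.val '' (J ^ k : Ideal B'.T))
  have h1 : Two (I 1) := by
    simp only [I, Submodule.pow_one]
    exact h0
  have h2 : ∀ k, ∀ w ∈ I k, ∀ z ∈ I 1, z * w ∈ I (k + 1) := by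
    intro k w hw
    induction hw using Submodule.span_induction with
    | mem w hw =>
      obtain ⟨y, hy, rfl⟩ := hw
      intro z hz
      induction hz using Submodule.span_induction with
      | mem z hz =>
        obtain ⟨x, hx, rfl⟩ := hz
        refine Ideal.subset_span ⟨x * y, ?_, rfl⟩
        rw [Submodule.pow_one] at hx
        rw [Ideal.IsTwoSided.pow_succ]
        exact Ideal.mul_mem_mul hx hy
      | zero => rw [zero_mul]; exact (I _).zero_mem
      | add x y _ _ hx hy => rw [add_mul]; exact (I _).add_mem hx hy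
      | smul a x _ hx => rw [smul_eq_mul, mul_assoc]; exact (I _).mul_mem_left _ hx
    | zero => intro z _; rw [mul_zero]; exact (I _).zero_mem
    | add x y _ _ hx hy => intro z hz; rw [mul_add]; exact (I _).add_mem (hx z hz) (hy z hz)
    | smul a x _ hx => intro z hz; rw [smul_eq_mul, ← mul_assoc]; exact hx _ (h1 z hz a)
  have h3 : ∀ x ∈ I 1, ∀ k, x ^ k ∈ I k := by
    intro x hx k
    induction k with
    | zero =>
      refine Ideal.subset_span ⟨1, ?_, by rw [pow_zero]; rfl⟩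
      rw [Submodule.pow_zero, Ideal.one_eq_top]
      trivial
    | succ k ih => rw [pow_succ']; exact h2 k _ ih x hx
  have h4 : I 1 = ⊥ := h.nil_eq_bot h1 fun x hx => ⟨n, by
    have h5 := h3 x hx n
    have h6 : I n = ⊥ := by
      rw [Ideal.span_eq_bot]
      rintro _ ⟨y, hy, rfl⟩
      rw [hn] at hy
      rw [(Ideal.mem_bot).1 hy, map_zero]
    rwa [h6] at h5⟩
  rw [eq_bot_iff]
  intro y hy
  have h5 : B'.val y ∈ I 1 := Ideal.subset_span ⟨y, by rwa [Submodule.pow_one], rfl⟩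
  rw [h4] at h5
  exact B'.val_inj h5

/-- invariant subrings are semisimple -/
theorem semisimple_of_inv (h : SS A) {M : Subgroup (RingAut A)} (hI : Irr M) {B : Subring A}
    (hs : ∀ x ∈ B, star x ∈ B) (hB : Inv M B) : IsSemisimpleRing (Blk.ofSubring B hs).T := by
  refine semisimple_of_two h hs ?_
  set B' := Blk.ofSubring B hs
  have hst : M ≤ B'.stab := Blk.mem_stab hB
  refine hI _ fun γ hγ x hx => ?_
  induction hx using Submodule.span_induction with
  | mem x hx =>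
    obtain ⟨y, hy, rfl⟩ := hx
    exact Ideal.subset_span ⟨B'.res ⟨γ, hst hγ⟩ y,
      Ring.le_comap_jacobson (f := (B'.res ⟨γ, hst hγ⟩ : B'.T →+* B'.T)) hy, rfl⟩
  | zero => rw [map_zero]; exact Ideal.zero_mem _
  | add x y _ _ hx hy => rw [map_add]; exact Ideal.add_mem _ hx hy
  | smul a x _ hx => rw [smul_eq_mul, map_mul]; exact Ideal.mul_mem_left _ _ hx

/-- star-closed ideals of a semisimple ring -/
theorem ss_of_idem {R : Type} [Ring R] [StarRing R] [IsSemisimpleRing R] [Nontrivial R]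
    (h : ∀ e ∈ Subring.center R, star e = e → e * e = e → e = 0 ∨ e = 1) : SS R := by
  refine ⟨inferInstance, fun I hI2 hIs => ?_⟩
  obtain ⟨e, he, hc, hee, h2⟩ := cen_idem_of_semisimple (I := I) hI2
  have h3 : star e = e := by
    have h4 := h2 _ (hIs e he)
    have h5 := congrArg star h4
    rw [star_mul, star_star] at h5
    rw [← h4, h5]
  rcases h e hc h3 hee with h0 | h1
  · left
    rw [eq_bot_iff]
    intro x hx
    rw [← h2 x hx, h0, mul_zero]
    exact Ideal.zero_mem _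
  · right
    rw [Ideal.eq_top_iff_one, ← h1]
    exact he

/-- the centre of a subring -/
def cenOf {A : Type} [Ring A] (B : Subring A) : Subring A := B ⊓ Subring.centralizer (B : Set A)

omit [StarRing A] [Finite A] in
theorem mem_cenOf {B : Subring A} {x : A} : x ∈ cenOf B ↔ x ∈ B ∧ ∀ y ∈ B, y * x = x * y := Iff.rfl

omit [StarRing A] [Finite A] in
theorem inv_centralizer {M : Subgroup (RingAut A)} {X : Set A} (h : Inv M X) : Inv M (Subring.centralizer X) := by
  intro γ hγ x hx y hy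
  have h1 := congrArg γ (hx _ (h _ (inv_mem hγ) y hy))
  rwa [map_mul, map_mul, ra_apply_inv] at h1

omit [StarRing A] [Finite A] in
theorem inv_cenOf {M : Subgroup (RingAut A)} {B : Subring A} (h : Inv M B) : Inv M (cenOf B) := fun γ hγ x hx =>
  ⟨h γ hγ x hx.1, inv_centralizer h γ hγ x hx.2⟩

omit [Finite A] in
theorem star_centralizer {X : Set A} (hs : ∀ x ∈ X, star x ∈ X) :
    ∀ x ∈ Subring.centralizer X, star x ∈ Subring.centralizer X := by
  intro x hx y hy
  have h1 := congrArg star (hx _ (hs y hy))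
  rw [star_mul, star_mul, star_star] at h1
  exact h1.symm

/-- without invariant frame, invariant subrings are star-simple -/
theorem ss_of_inv (h : SS A) {M : Subgroup (RingAut A)} (hM : M ≤ SAut A) (hI : Irr M)
    (hD : ∀ D : Finset A, Fr D → ¬ Inv M D) {B : Subring A} (hs : ∀ x ∈ B, star x ∈ B) (hB : Inv M B) :
    SS (Blk.ofSubring B hs).T := by
  have := h.nontrivial
  have hss := semisimple_of_inv h hI hs hB
  set B' := Blk.ofSubring B hs
  have hnt : Nontrivial B'.T := ⟨⟨1, 0, fun h1 => one_ne_zero (congrArg B'.val h1)⟩⟩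
  refine ss_of_idem fun e hc h3 hee => ?_
  by_contra hcon
  obtain ⟨h0, h1⟩ := not_or.1 hcon
  obtain ⟨D, hD1, -, hD2⟩ := exists_frame (cenOf B) (fun x hx y hy => hy.2 x hx.1) (e := B'.val e)
    ⟨B'.val_mem e, B'.mem_center_iff.1 hc⟩ (congrArg B'.val h3) (congrArg B'.val hee)
    (fun h4 => h0 (B'.val_inj h4)) (fun h4 => h1 (B'.val_inj h4))
  exact hD D hD1 (hD2 M hM (inv_cenOf hB))

omit [Finite A] in
theorem Blk.isUnit_val {B : Subring A} {hs : ∀ x ∈ B, star x ∈ B} {x : (Blk.ofSubring B hs).T} (h : IsUnit x) :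
    ∃ y ∈ B, (Blk.ofSubring B hs).val x * y = 1 ∧ y * (Blk.ofSubring B hs).val x = 1 := by
  obtain ⟨u, rfl⟩ := h
  exact ⟨_, (Blk.ofSubring B hs).val_mem (u⁻¹ : (Blk.ofSubring B hs).Tˣ),
    congrArg (Blk.ofSubring B hs).val u.mul_inv, congrArg (Blk.ofSubring B hs).val u.inv_mul⟩

omit [Finite A] in
/-- a star-simple ring with a non-symmetric central element has a central element of trace one -/
theorem SS.exists_trace_one (h : SS A) {z : A} (hz : z ∈ Subring.center A) (hne : star z ≠ z) :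
    ∃ c ∈ Subring.center A, c + star c = 1 := by
  have ht : z - star z ∈ Subring.center A := Subring.sub_mem _ hz (star_cen hz)
  have hts : star (z - star z) = -(z - star z) := by rw [star_sub, star_star, neg_sub]
  have h0 : (z - star z) * (z - star z) ≠ 0 := by
    intro h1
    have h2 := h.nil_eq_bot (two_span_cen ht) fun x hx => by
      obtain ⟨b, rfl⟩ := Ideal.mem_span_singleton'.1 hx
      refine ⟨2, ?_⟩
      rw [pow_two, mul_assoc, ← mul_assoc (z - star z), ← cen_comm ht, mul_assoc, h1, mul_zero, mul_zero]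
    rw [Ideal.span_singleton_eq_bot, sub_eq_zero] at h2
    exact hne h2.symm
  obtain ⟨u, hu⟩ := h.isUnit_of_cen (Subring.mul_mem _ ht ht) (by rw [star_mul, hts, neg_mul_neg]) h0
  have hu' : (u : A) ∈ Subring.center A := hu ▸ Subring.mul_mem _ ht ht
  have hus : star (u : A) = u := by rw [hu, star_mul, hts, neg_mul_neg]
  have hus' : star ((u⁻¹ : Aˣ) : A) = (u⁻¹ : Aˣ) := by
    have h3 : star ((u⁻¹ : Aˣ) : A) * u = 1 := by rw [← hus, ← star_mul, Units.mul_inv, star_one]
    rw [← mul_one (star _), ← u.mul_inv, ← mul_assoc, h3, one_mul]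
  refine ⟨(u⁻¹ : Aˣ) * (z - star z) * z, Subring.mul_mem _ (Subring.mul_mem _ (inv_cen hu') ht) hz, ?_⟩
  rw [star_mul, star_mul, hus', hts, cen_comm (inv_cen hu'), cen_comm (Subring.mul_mem _ (inv_cen hu')
    (Subring.neg_mem _ ht)), mul_neg, neg_mul, ← sub_eq_add_neg, ← mul_sub, mul_assoc, ← hu, Units.inv_mul]

end Cfsg.Agent.DS.Cl
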