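import Cfsg.Agent.DS.Cl.Basic

/-!
# Blocks of a form ring, the transfer lemma and the Levi lemma
-/

set_option autoImplicit false

namespace Cfsg.Agent.DS.Cl

open Cfsg Cfsg.Agent.H936 Cfsg.Agent.DS

/-- a star-closed subring with its own identity element -/
structure Blk (A : Type) [Ring A] [StarRing A] where
  /-- the elements -/
  car : NonUnitalSubring A
  /-- the identity -/
  e : A
  e_mem : e ∈ car
  e_mul : ∀ x ∈ car, e * x = x
  mul_e : ∀ x ∈ car, x * e = x
  star_mem : ∀ x ∈ car, star x ∈ car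

variable {A : Type} [Ring A] [StarRing A]

namespace Blk

variable (B : Blk A)

theorem idem : B.e * B.e = B.e := B.e_mul _ B.e_mem

theorem star_e : star B.e = B.e := by
  have h1 := B.e_mul _ (B.star_mem _ B.e_mem)
  have h2 := congrArg star h1
  rw [star_mul, star_star] at h2
  rw [← h1, h2]

/-- the block as a ring -/
def T : Type := B.car

instance instRingT : Ring B.T where
  __ : NonUnitalRing B.T := inferInstanceAs (NonUnitalRing B.car)
  one := ⟨B.e, B.e_mem⟩
  one_mul x := Subtype.ext (B.e_mul x.1 x.2)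
  mul_one x := Subtype.ext (B.mul_e x.1 x.2)

instance instStarRingT : StarRing B.T where
  star x := ⟨star x.1, B.star_mem x.1 x.2⟩
  star_involutive x := Subtype.ext (star_star x.1)
  star_mul x y := Subtype.ext (star_mul x.1 y.1)
  star_add x y := Subtype.ext (star_add x.1 y.1)

instance instFiniteT [Finite A] : Finite B.T := inferInstanceAs (Finite B.car)

/-- the inclusion -/
def val : B.T →+ A where
  toFun x := x.1
  map_zero' := rfl
  map_add' _ _ := rfl

/-- an element of the block -/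
def mk' (x : A) (hx : x ∈ B.car) : B.T := ⟨x, hx⟩

theorem val_mk' (x : A) (hx : x ∈ B.car) : B.val (B.mk' x hx) = x := rfl

theorem val_mem (x : B.T) : B.val x ∈ B.car := x.2

theorem val_inj : Function.Injective B.val := Subtype.val_injective

theorem val_mul (x y : B.T) : B.val (x * y) = B.val x * B.val y := rfl

theorem val_one : B.val 1 = B.e := rfl

theorem val_star (x : B.T) : B.val (star x) = star (B.val x) := rfl

theorem mem_center_iff {x : B.T} : x ∈ Subring.center B.T ↔ ∀ y ∈ B.car, y * B.val x = B.val x * y := by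
  rw [Subring.mem_center_iff]
  exact ⟨fun h y hy => congrArg B.val (h (B.mk' y hy)), fun h y => B.val_inj (h _ y.2)⟩

/-- the stabilizer of the block -/
def stab : Subgroup (RingAut A) where
  carrier := {γ | ∀ x, x ∈ B.car ↔ γ x ∈ B.car}
  mul_mem' := fun {γ δ} hγ hδ x => (hδ x).trans (hγ _)
  one_mem' := fun _ => Iff.rfl
  inv_mem' := fun {γ} hγ x => by
    rw [hγ (γ⁻¹ x), ra_apply_inv]

variable {B}

theorem mem_stab {K : Subgroup (RingAut A)} (h : Inv K B.car) : K ≤ B.stab := fun γ hγ x =>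
  ⟨h γ hγ x, fun hx => by
    have h1 := h _ (inv_mem hγ) _ hx
    rwa [ra_inv_apply] at h1⟩

theorem stab_e {γ : RingAut A} (hγ : γ ∈ B.stab) : γ B.e = B.e := by
  have h1 : γ⁻¹ B.e ∈ B.car := ((inv_mem hγ) _).1 B.e_mem
  have h2 := congrArg γ (B.e_mul _ h1)
  rw [map_mul, ra_apply_inv, B.mul_e _ ((hγ _).1 B.e_mem)] at h2
  exact h2

variable (B)

/-- restriction of automorphisms -/
def res : B.stab →* RingAut B.T where
  toFun γ :=
    { toFun := fun x => ⟨γ.1 x.1, (γ.2 _).1 x.2⟩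
      invFun := fun x => ⟨γ.1⁻¹ x.1, ((inv_mem γ.2) _).1 x.2⟩
      left_inv := fun x => Subtype.ext (ra_inv_apply γ.1 x.1)
      right_inv := fun x => Subtype.ext (ra_apply_inv γ.1 x.1)
      map_mul' := fun x y => Subtype.ext (map_mul γ.1 x.1 y.1)
      map_add' := fun x y => Subtype.ext (map_add γ.1 x.1 y.1) }
  map_one' := rfl
  map_mul' _ _ := rfl

theorem val_res (γ : B.stab) (x : B.T) : B.val (B.res γ x) = γ.1 (B.val x) := rfl

theorem res_SAut {γ : B.stab} (h : γ.1 ∈ SAut A) : B.res γ ∈ SAut B.T := fun x => B.val_inj (h (B.val x))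

/-- star-simplicity of a block, in terms of the ambient ring -/
theorem ss_of (h0 : B.e ≠ 0) (h : ∀ I : AddSubgroup A, (∀ x ∈ I, x ∈ B.car) → (∀ x ∈ I, ∀ a ∈ B.car, a * x ∈ I) →
    (∀ x ∈ I, star x ∈ I) → I = ⊥ ∨ B.e ∈ I) : SS B.T := by
  refine ⟨⟨⟨1, 0, fun h1 => h0 (congrArg B.val h1)⟩⟩, fun I _ hs => ?_⟩
  rcases h (I.toAddSubgroup.map B.val) (by rintro _ ⟨x, -, rfl⟩; exact B.val_mem x)
    (by rintro _ ⟨x, hx, rfl⟩ a ha; exact ⟨B.mk' a ha * x, I.mul_mem_left _ hx, rfl⟩)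
    (by rintro _ ⟨x, hx, rfl⟩; exact ⟨star x, hs x hx, rfl⟩) with h1 | ⟨x, hx, h1⟩
  · left
    rw [eq_bot_iff]
    intro x hx
    have h2 : B.val x ∈ I.toAddSubgroup.map B.val := ⟨x, hx, rfl⟩
    rw [h1] at h2
    exact B.val_inj h2
  · right
    rw [Ideal.eq_top_iff_one, ← B.val_inj (h1.trans B.val_one.symm)]
    exact hx

theorem ss_elim (h : SS B.T) (I : AddSubgroup A) (h1 : ∀ x ∈ I, x ∈ B.car) (h2 : ∀ x ∈ I, ∀ a ∈ B.car, a * x ∈ I)
    (h3 : ∀ x ∈ I, star x ∈ I) : I = ⊥ ∨ B.e ∈ I := by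
  let J : Ideal B.T :=
    { carrier := {x | B.val x ∈ I}
      add_mem' := fun ha hb => I.add_mem ha hb
      zero_mem' := I.zero_mem
      smul_mem' := fun c x hx => h2 _ hx _ c.2 }
  rcases h.2 J (fun x hx a => by
      have h4 := h3 _ (h2 _ (h3 _ hx) _ (B.star_mem _ a.2))
      rw [star_mul, star_star, star_star] at h4
      exact h4) (fun x hx => h3 _ hx) with h4 | h4
  · left
    rw [eq_bot_iff]
    intro x hx
    have h5 : B.mk' x (h1 x hx) ∈ J := hx
    rw [h4] at h5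
    exact congrArg B.val h5
  · right
    have h5 : (1 : B.T) ∈ J := by rw [h4]; trivial
    exact h5

/-- a star-closed subring as a block -/
def ofSubring (Z : Subring A) (hs : ∀ x ∈ Z, star x ∈ Z) : Blk A where
  car := Z.toNonUnitalSubring
  e := 1
  e_mem := Z.one_mem
  e_mul x _ := one_mul x
  mul_e x _ := mul_one x
  star_mem := hs

theorem mem_ofSubring {Z : Subring A} {hs : ∀ x ∈ Z, star x ∈ Z} {x : A} : x ∈ (ofSubring Z hs).car ↔ x ∈ Z := Iff.rfl

/-- the corner of a symmetric idempotent -/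
def corner (f : A) (hf : f * f = f) (hs : star f = f) : Blk A where
  car :=
    { carrier := {x | f * x = x ∧ x * f = x}
      add_mem' := by
        rintro a b ⟨ha, ha'⟩ ⟨hb, hb'⟩
        exact ⟨by rw [mul_add, ha, hb], by rw [add_mul, ha', hb']⟩
      zero_mem' := ⟨mul_zero f, zero_mul f⟩
      mul_mem' := by
        rintro a b ⟨ha, -⟩ ⟨-, hb'⟩
        exact ⟨by rw [← mul_assoc, ha], by rw [mul_assoc, hb']⟩
      neg_mem' := by
        rintro a ⟨ha, ha'⟩
        exact ⟨by rw [mul_neg, ha], by rw [neg_mul, ha']⟩ }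
  e := f
  e_mem := ⟨hf, hf⟩
  e_mul _ hx := hx.1
  mul_e _ hx := hx.2
  star_mem := by
    rintro x ⟨h1, h2⟩
    exact ⟨by rw [← hs, ← star_mul, h2], by rw [← hs, ← star_mul, h1]⟩

theorem mem_corner {f : A} {hf : f * f = f} {hs : star f = f} {x : A} :
    x ∈ (corner f hf hs).car ↔ f * x = x ∧ x * f = x := Iff.rfl

theorem corner_mem {f : A} (hf : f * f = f) (hs : star f = f) (a : A) : f * a * f ∈ (corner f hf hs).car :=
  ⟨by rw [← mul_assoc, ← mul_assoc, hf], by rw [mul_assoc, hf]⟩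

theorem ss_corner (h : SS A) {f : A} (hf : f * f = f) (hs : star f = f) (h0 : f ≠ 0) : SS (corner f hf hs).T := by
  refine ss_of _ h0 fun I h1 h2 h3 => ?_
  have h2' : ∀ x ∈ I, ∀ a ∈ (corner f hf hs).car, x * a ∈ I := fun x hx a ha => by
    have h4 := h3 _ (h2 _ (h3 _ hx) _ ((corner f hf hs).star_mem _ ha))
    rwa [star_mul, star_star, star_star] at h4
  let J : Ideal A :=
    { carrier := {z | ∀ a b, f * a * z * b * f ∈ I}
      add_mem' := fun {x y} hx hy a b => by
        rw [mul_add, add_mul, add_mul]; exact I.add_mem (hx a b) (hy a b)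
      zero_mem' := fun a b => by simp
      smul_mem' := fun c x hx a b => by
        have h4 := hx (a * c) b
        simpa only [smul_eq_mul, mul_assoc] using h4 }
  rcases h.eq_bot_or_top (I := J) (fun x hx c a b => by
      have h4 := hx a (c * b)
      simpa only [mul_assoc] using h4) (fun x hx a b => by
      have h4 := h3 _ (hx (star b) (star a))
      simpa only [star_mul, star_star, hs, mul_assoc] using h4) with h4 | h4
  · left
    rw [eq_bot_iff]
    intro x hx
    have h5 : x ∈ J := fun a b => by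
      have h6 := h2' _ (h2 _ hx _ (corner_mem hf hs a)) _ (corner_mem hf hs b)
      obtain ⟨h7, h8⟩ := h1 x hx
      have e : f * a * f * x * (f * b * f) = f * a * (f * x * f) * b * f := by simp only [mul_assoc]
      rwa [e, h7, h8] at h6
    rw [h4] at h5
    exact h5
  · right
    have h5 : (1 : A) ∈ J := by rw [h4]; trivial
    have h6 := h5 1 1
    simp only [mul_one, hf] at h6
    exact h6

end Blk

/-- the automorphisms fixing a set pointwise -/
def Fix {A : Type} [Ring A] (X : Set A) : Subgroup (RingAut A) where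
  carrier := {γ | ∀ x ∈ X, γ x = x}
  mul_mem' := fun {γ δ} hγ hδ x hx => by rw [ra_mul, hδ x hx, hγ x hx]
  one_mem' := fun _ _ => rfl
  inv_mem' := fun {γ} hγ x hx => by
    apply γ.injective
    rw [ra_apply_inv, hγ x hx]

/-- a block with a form structure compatible with `F` -/
structure BD (F : FR A) extends Blk A where
  /-- the element of trace one of the block -/
  l : A
  l_mem : l ∈ car
  l_add : l + star l = e
  ret : F.L = Lmax A ∨ ∀ a, a - star a ∈ car → ∃ b ∈ car, a - star a = b - star b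
  ss : e = 0 ∨ SS toBlk.T

namespace BD

variable {F : FR A} (B : BD F)

/-- the form structure of the block -/
def fr : FR B.toBlk.T where
  l := B.toBlk.mk' B.l B.l_mem
  L := F.L.comap B.toBlk.val
  l_add := B.toBlk.val_inj B.l_add
  par := by
    have hmax : F.L = Lmax A → F.L.comap B.toBlk.val = Lmax B.toBlk.T := fun h => by
      ext x
      rw [h]
      exact ⟨fun h1 => B.toBlk.val_inj h1, fun h1 => congrArg B.toBlk.val h1⟩
    rcases B.ret with h | h
    · exact Or.inr (hmax h)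
    rcases F.par with h1 | h1
    · left
      ext x
      rw [h1]
      constructor
      · rintro ⟨a, ha⟩
        obtain ⟨b, hb, hab⟩ := h a (ha ▸ B.toBlk.val_mem x)
        exact ⟨B.toBlk.mk' b hb, B.toBlk.val_inj (ha.trans hab)⟩
      · rintro ⟨a, rfl⟩
        exact ⟨B.toBlk.val a, rfl⟩
    · exact Or.inr (hmax h1)

theorem res_mem {γ : B.toBlk.stab} (h : γ.1 ∈ SAut A) (hl : γ.1 B.l - B.l ∈ F.L) : B.toBlk.res γ ∈ B.fr.Aut :=
  ⟨B.toBlk.res_SAut h, hl⟩

theorem key [Finite A] (hP5 : BoxP5) : PS 5 B.fr.Aut ∧ dS B.fr.Aut 2 ≤ B.fr.PI := by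
  rcases B.ss with h | h
  · have h1 : Subsingleton B.toBlk.T := subsingleton_of_zero_eq_one (B.toBlk.val_inj h.symm)
    have h2 : Subsingleton (RingAut B.toBlk.T) := ⟨fun γ δ => RingEquiv.ext fun _ => Subsingleton.elim _ _⟩
    exact ⟨ps_of_bot (Subsingleton.elim _ _), (Subsingleton.elim _ _).le⟩
  · exact ⟨hP5 _ h _, FR.dS_two_le h⟩

end BD

/-- **the transfer lemma** -/
theorem transfer [Finite A] (hP5 : BoxP5) {F : FR A} {ι : Type} [Finite ι] (B : ι → BD F) {K : Subgroup (RingAut A)}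
    (hK : K ≤ SAut A) (hst : ∀ i, Inv K (B i).car) (hl : ∀ γ ∈ K, ∀ i, γ (B i).l - (B i).l ∈ F.L)
    (hlift : ∀ i, ∀ u ∈ (B i).car, u * star u = (B i).e → star u * u = (B i).e →
      u * (B i).l * star u - (B i).l ∈ F.L →
      ∃ γ ∈ K, (∀ x ∈ (B i).car, γ x = u * x * star u) ∧ ∀ j, j ≠ i → ∀ x ∈ (B j).car, γ x = x)
    {a : ℕ} (hker : PS a ↥(K ⊓ Fix (⋃ i, ((B i).car : Set A)))) : PS (a + 5) K := by
  classical
  let ρ : K →* ∀ i, RingAut (B i).toBlk.T :=
    MonoidHom.pi fun i => (B i).toBlk.res.comp (Subgroup.inclusion (Blk.mem_stab (hst i)))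
  have hρ : ∀ (γ : K) i x, (B i).toBlk.val (ρ γ i x) = γ.1 ((B i).toBlk.val x) := fun _ _ _ => rfl
  refine ps_ext' ρ ?_ ?_
  · refine ps_of_map_inj K.subtype_injective ?_
    suffices e : ρ.ker.map K.subtype = K ⊓ Fix (⋃ i, ((B i).car : Set A)) by rwa [e]
    ext γ
    constructor
    · rintro ⟨γ, hγ, rfl⟩
      refine ⟨γ.2, fun x hx => ?_⟩
      obtain ⟨i, hi⟩ := Set.mem_iUnion.1 hx
      have h1 := hρ γ i ((B i).toBlk.mk' x hi)
      rw [(MonoidHom.mem_ker).1 hγ] at h1
      exact h1.symm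
    · rintro ⟨hγ, hγ'⟩
      refine ⟨⟨γ, hγ⟩, ?_, rfl⟩
      rw [SetLike.mem_coe, MonoidHom.mem_ker]
      funext i
      ext x
      apply (B i).toBlk.val_inj
      rw [hρ]
      exact hγ' _ (Set.mem_iUnion.2 ⟨i, (B i).toBlk.val_mem x⟩)
  · have h1 : PS 5 (Subgroup.pi Set.univ fun i => (B i).fr.Aut) := ps_pi fun i => ((B i).key hP5).1
    refine ps_down h1 ?_ ?_
    · refine (dS_anti _ (show 2 ≤ 5 by norm_num)).trans ((dS_pi_le _ _).trans ?_)
      intro x hx
      refine Subgroup.pi_mem_of_mulSingle_mem x fun i => ?_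
      obtain ⟨u, hu, hux⟩ := ((B i).key hP5).2 (hx i trivial)
      obtain ⟨γ, hγ, h2, h3⟩ := hlift i _ ((B i).toBlk.val_mem u) (congrArg (B i).toBlk.val hu.1)
        (congrArg (B i).toBlk.val (FR.Iso.sm hu)) hu.2
      refine ⟨⟨γ, hγ⟩, funext fun j => ?_⟩
      ext y
      apply (B j).toBlk.val_inj
      rw [hρ]
      by_cases hj : j = i
      · subst hj
        rw [Pi.mulSingle_eq_same, ← hux, FR.Iso.cj_apply hu]
        exact h2 _ ((B j).toBlk.val_mem y)
      · rw [Pi.mulSingle_eq_of_ne hj]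
        exact h3 j hj _ ((B j).toBlk.val_mem y)
    · rintro _ ⟨γ, rfl⟩ i -
      exact (B i).res_mem (γ := ⟨γ.1, Blk.mem_stab (hst i) γ.2⟩) (hK γ.2) (hl γ.1 γ.2 i)

/-- an orthogonal family of blocks -/
structure Levi {F : FR A} {ι : Type} [Fintype ι] (B : ι → BD F) : Prop where
  orth : ∀ i j, i ≠ j → (B i).e * (B j).e = 0
  sum : ∑ i, (B i).e = 1
  l_sub : F.l - ∑ i, (B i).l ∈ F.L
  cent : ∀ i g, (∀ x ∈ (B i).car, g * x = x * g) → g * (B i).e ∈ (B i).car

namespace Levi

variable {F : FR A} {ι : Type} [Fintype ι] {B : ι → BD F} (h : Levi B)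
include h

theorem mul_eq_zero {i j : ι} (hij : i ≠ j) {x y : A} (hx : x ∈ (B i).car) (hy : y ∈ (B j).car) : x * y = 0 := by
  rw [← (B i).mul_e x hx, ← (B j).e_mul y hy, mul_assoc, ← mul_assoc (B i).e, h.orth i j hij, zero_mul, mul_zero]

theorem up_conj_ne {i j : ι} (hij : j ≠ i) {u x : A} (hu : u ∈ (B i).car) (hx : x ∈ (B j).car) :
    (u + (1 - (B i).e)) * x * star (u + (1 - (B i).e)) = x := by
  rw [star_add, star_sub, star_one, (B i).star_e, add_mul, sub_mul, one_mul, h.mul_eq_zero hij.symm hu hx,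
    h.mul_eq_zero hij.symm (B i).e_mem hx, sub_zero, zero_add, mul_add, mul_sub, mul_one,
    h.mul_eq_zero hij hx ((B i).star_mem u hu), h.mul_eq_zero hij hx (B i).e_mem, sub_zero, zero_add]

omit [Fintype ι] h in
theorem up_conj_eq {i : ι} {u x : A} (hx : x ∈ (B i).car) :
    (u + (1 - (B i).e)) * x * star (u + (1 - (B i).e)) = u * x * star u := by
  rw [star_add, star_sub, star_one, (B i).star_e, add_mul, sub_mul, one_mul, (B i).e_mul x hx, sub_self, add_zero,
    mul_add, mul_sub, mul_one, mul_assoc u x (B i).e, (B i).mul_e x hx, sub_self, add_zero]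

omit [Fintype ι] h in
theorem up_mul_star {i : ι} {u : A} (hu : u ∈ (B i).car) (h1 : u * star u = (B i).e) :
    (u + (1 - (B i).e)) * star (u + (1 - (B i).e)) = 1 := by
  rw [star_add, star_sub, star_one, (B i).star_e, add_mul, mul_add, mul_add, h1, mul_sub, mul_one, (B i).mul_e u hu,
    sub_mul, one_mul, (B i).e_mul _ ((B i).star_mem u hu), sub_mul, one_mul, mul_sub, mul_one, (B i).idem]
  abel

theorem up_mem [Finite A] {i : ι} {u : A} (hu : u ∈ (B i).car) (h1 : u * star u = (B i).e)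
    (h2 : u * (B i).l * star u - (B i).l ∈ F.L) : mkU _ (up_mul_star hu h1) ∈ F.Iso := by
  classical
  refine ⟨up_mul_star hu h1, ?_⟩
  rw [mkU_val]
  set v := u + (1 - (B i).e) with hv
  have h3 : v * (∑ j, (B j).l) * star v - ∑ j, (B j).l = u * (B i).l * star u - (B i).l := by
    rw [Finset.mul_sum, Finset.sum_mul, ← Finset.sum_sub_distrib, Finset.sum_eq_single i]
    · rw [hv, up_conj_eq (B i).l_mem]
    · intro j _ hj
      rw [hv, h.up_conj_ne hj hu (B j).l_mem, sub_self]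
    · intro hi; exact absurd (Finset.mem_univ i) hi
  have h4 := F.L.add_mem (F.L.sub_mem (F.conj_mem h.l_sub v) h.l_sub) (h3 ▸ h2)
  convert h4 using 1
  noncomm_ring

theorem l_inv {γ : RingAut A} (hγ : γ ∈ F.Aut) (hst : ∀ i, γ ∈ (B i).stab) (i : ι) : γ (B i).l - (B i).l ∈ F.L := by
  classical
  have h1 : ∑ j, (γ (B j).l - (B j).l) ∈ F.L := by
    have h2 := F.L.add_mem (F.L.sub_mem hγ.2 (F.map_mem hγ.1 h.l_sub)) h.l_sub
    convert h2 using 1
    rw [Finset.sum_sub_distrib, map_sub, map_sum]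
    abel
  have h3 := F.conj_mem h1 (B i).e
  have h4 : ∀ j, γ (B j).l - (B j).l ∈ (B j).car := fun j => sub_mem ((hst j _).1 (B j).l_mem) (B j).l_mem
  rw [(B i).star_e, Finset.mul_sum, Finset.sum_mul, Finset.sum_eq_single i, (B i).e_mul _ (h4 i),
    (B i).mul_e _ (h4 i)] at h3
  · exact h3
  · intro j _ hj
    rw [h.mul_eq_zero hj.symm (B i).e_mem (h4 j), zero_mul]
  · intro hi; exact absurd (Finset.mem_univ i) hi

theorem fix_lin {γ : RingAut A} (hγ : γ ∈ Fix (⋃ i, ((B i).car : Set A))) : γ ∈ Lin A := by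
  intro c hc
  have h1 : ∀ i, γ c * (B i).e = c * (B i).e := fun i => by
    have h2 := hγ _ (Set.mem_iUnion.2 ⟨i, h.cent i c fun x _ => (cen_comm hc x).symm⟩)
    rwa [map_mul, hγ _ (Set.mem_iUnion.2 ⟨i, (B i).e_mem⟩)] at h2
  rw [← mul_one (γ c), ← h.sum, Finset.mul_sum, Finset.sum_congr rfl fun i _ => h1 i, ← Finset.mul_sum, h.sum, mul_one]

theorem fix_comm [Finite A] (hA : SS A) : ∀ γ ∈ Fix (⋃ i, ((B i).car : Set A)), ∀ δ ∈ Fix (⋃ i, ((B i).car : Set A)),
    γ * δ = δ * γ := by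
  intro γ hγ δ hδ
  obtain ⟨g, rfl⟩ := hA.sn (h.fix_lin hγ)
  obtain ⟨k, rfl⟩ := hA.sn (h.fix_lin hδ)
  have h1 : ∀ {g : Aˣ}, cj A g ∈ Fix (⋃ i, ((B i).car : Set A)) → ∀ i, ∀ x ∈ (B i).car, (g : A) * x = x * g :=
    fun {g} hg i x hx => by rw [← cj_mul_eq, hg x (Set.mem_iUnion.2 ⟨i, hx⟩)]
  rw [← map_mul, ← map_mul]
  congr 1
  apply Units.ext
  rw [Units.val_mul, Units.val_mul, ← mul_one ((g : A) * k), ← mul_one ((k : A) * g), ← h.sum, Finset.mul_sum,
    Finset.mul_sum]
  refine Finset.sum_congr rfl fun i _ => ?_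
  rw [mul_assoc, h1 hγ i _ (h.cent i k (h1 hδ i)), mul_assoc, ← h1 hγ i _ (B i).e_mem, mul_assoc]

/-- **the Levi lemma** -/
theorem ps [Finite A] (hP5 : BoxP5) (hA : SS A) {K : Subgroup (RingAut A)} (hK : K ≤ F.Aut)
    (hst : ∀ i, Inv K (B i).car)
    (hup : ∀ u ∈ F.Iso, ∀ i, (u : A) - (1 - (B i).e) ∈ (B i).car → cj A u ∈ K) : PS 6 K := by
  refine transfer hP5 B (hK.trans F.Aut_le_SAut) hst
    (fun γ hγ i => h.l_inv (hK hγ) (fun j => Blk.mem_stab (hst j) hγ) i) (fun i u hu h1 _ h3 => ?_) (a := 1)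
    (ps_of_comm fun γ hγ δ hδ => h.fix_comm hA γ hγ.2 δ hδ.2)
  have h4 := h.up_mem hu h1 h3
  refine ⟨_, hup _ h4 i (by rw [mkU_val, add_sub_cancel_right]; exact hu), fun x hx => ?_, fun j hj x hx => ?_⟩
  · rw [FR.Iso.cj_apply h4, mkU_val, up_conj_eq hx]
  · rw [FR.Iso.cj_apply h4, mkU_val, h.up_conj_ne hj hu hx]

end Levi

/-- the corner of a symmetric idempotent, with its form -/
def BD.corner (hA : SS A) (F : FR A) (f : A) (hf : f * f = f) (hs : star f = f) : BD F where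
  toBlk := Blk.corner f hf hs
  l := f * F.l * f
  l_mem := Blk.corner_mem hf hs _
  l_add := by
    change _ = f
    rw [star_mul, star_mul, hs, ← mul_assoc, ← add_mul, ← mul_add, F.l_add, mul_one, hf]
  ret := Or.inr fun a ha => ⟨f * a * f, Blk.corner_mem hf hs a, by
    obtain ⟨h1, h2⟩ := ha
    rw [star_mul, star_mul, hs, ← mul_assoc, ← sub_mul, ← mul_sub, h1, h2]⟩
  ss := by
    by_cases h0 : f = 0
    · exact Or.inl h0
    · exact Or.inr (Blk.ss_corner hA hf hs h0)

theorem BD.corner_cent (hA : SS A) (F : FR A) (f : A) (hf : f * f = f) (hs : star f = f) (g : A)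
    (hg : ∀ x ∈ (BD.corner hA F f hf hs).car, g * x = x * g) :
    g * (BD.corner hA F f hf hs).e ∈ (BD.corner hA F f hf hs).car := by
  have h1 : g * f = f * g := hg f ⟨hf, hf⟩
  change f * (g * f) = g * f ∧ g * f * f = g * f
  exact ⟨by rw [h1, ← mul_assoc, hf], by rw [mul_assoc, hf]⟩

end Cfsg.Agent.DS.Cl
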