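import Cfsg.Agent.DS.Cl.ModBase

/-!
# S5881, classical groups: the model of the orthogonal groups (helper12)
-/

set_option autoImplicit false

namespace Cfsg.Agent.DS.Cl.Fwd

open Cfsg Cfsg.Agent.DS.Cl QuadraticMap Cfsg.Agent.LieClassical.OrthCore Cfsg.Agent.LieClassical.OrthTrans
  Cfsg.Agent.ClassicalGeometry.OrthSemi

/-- the polar form -/
def orH {F V : Type} [Field F] [AddCommGroup V] [Module F V] (Q : QuadraticForm F V) (hQ : Nondeg Q) : HF F V where
  τ := RingHom.id F
  ε := 1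
  b := polar Q
  add_left := polar_add_left Q
  smul_left c u v := polar_smul_left Q c u v
  swap u v := by rw [one_mul, RingHom.id_apply, polar_comm]
  τ_τ _ := rfl
  nondeg v H := hQ v fun y => by rw [polar_comm, H]

/-- the minimal form parameter -/
theorem mem_Lmin_iff {F V : Type} [Field F] [Finite F] [AddCommGroup V] [Module F V] [Finite V]
    (Q : QuadraticForm F V) (hQ : Nondeg Q) (x : (orH Q hQ).EB) :
    x ∈ Lmin (orH Q hQ).EB ↔ ∀ v, polar Q v ((orH Q hQ).ap x v) = 0 := by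
  have : Module.Finite F V := Module.Finite.of_finite
  let h := orH Q hQ
  constructor
  · rintro ⟨a, rfl⟩ v
    change h.b v (h.ap (a - star a) v) = 0
    rw [h.ap_sub, h.sub_right, h.b_star, h.swap v (h.ap a v)]
    change polar Q v (h.ap a v) - 1 * polar Q v (h.ap a v) = 0
    ring
  · intro H
    obtain ⟨β, hβ⟩ := exists_half ((polarBilin Q).compl₂ (h.ap x)) H
    obtain ⟨a, ha⟩ := h.exists_op (fun _ => rfl) β
    refine ⟨a, h.ap_ext fun v => h.ext_right fun u => ?_⟩
    rw [h.ap_sub, h.sub_right, h.b_star, ha, h.swap v (h.ap a u), ha]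
    change polar Q u (h.ap x v) = β u v - 1 * β v u
    rw [one_mul, hβ]
    rfl

theorem boxModO : BoxModO := by
  intro F V _ _ _ _ _ Q hG
  have : Module.Finite F V := Module.Finite.of_finite
  obtain ⟨x₀, hx₀, hQx₀⟩ := hG.sing
  have hnt : Nontrivial V := ⟨x₀, 0, hx₀⟩
  let h := orH Q hG.nondeg
  obtain ⟨β, hβ⟩ := LinearMap.BilinMap.toQuadraticMap_surjective Q
  obtain ⟨l, hl⟩ := h.exists_op (fun _ => rfl) β
  have hlQ : ∀ v, polar Q v (h.ap l v) = Q v := fun v => by
    rw [← hβ]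
    rw [LinearMap.BilinMap.toQuadraticMap_apply, hβ]
    exact hl v v
  have hll : l + star l = 1 := h.ap_ext fun v => h.ext_right fun u => by
    rw [h.ap_add, h.add_right, h.b_star, hl, h.swap v (h.ap l u), hl, h.ap_one]
    change β u v + 1 * β v u = polar Q u v
    rw [one_mul, ← hβ, LinearMap.BilinMap.polar_toQuadraticMap]
  let R : FR h.EB := ⟨l, Lmin h.EB, hll, Or.inl rfl⟩
  let ψ₀ : (V ≃ₗ[F] V) →* h.EB :=
    { toFun := fun g => h.eb g
      map_one' := rfl
      map_mul' := fun _ _ => rfl }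
  let ψ : (V ≃ₗ[F] V) →* h.EBˣ := ψ₀.toHomUnits
  have hψ : ∀ g v, h.ap (ψ g) v = g v := fun g v => rfl
  have hinj : Function.Injective ψ := fun g g' H => LinearEquiv.ext fun v => by rw [← hψ, ← hψ, H]
  have hr : (O Q).map ψ = R.Iso := by
    ext u
    constructor
    · rintro ⟨g, hg, rfl⟩
      have hg' : ∀ v, Q (g v) = Q v := hg
      have h1 : ∀ x y, h.b (h.ap (ψ g) x) (h.ap (ψ g) y) = h.b x y := fun x y => by
        change polar Q (g x) (g y) = polar Q x y
        simp only [polar, ← map_add, hg']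
      have h2 := (h.unit_iff _).2 h1
      refine ⟨h2, (mem_Lmin_iff Q hG.nondeg _).2 fun v => ?_⟩
      change h.b v (h.ap (ψ g * l * star (ψ g : h.EB) - l) v) = 0
      rw [h.ap_sub, h.sub_right, h.ap_mul, h.ap_mul, ← h.star_b]
      change polar Q _ _ - polar Q _ _ = 0
      rw [hlQ, hlQ, ← hg', ← hψ, ← h.ap_mul, h2, h.ap_one, sub_self]
    · intro hu
      have h1 := (mem_Lmin_iff Q hG.nondeg _).1 hu.2
      let g : V ≃ₗ[F] V := LinearEquiv.ofLinearMap (h.ap u) (h.ap (u⁻¹ : h.EBˣ))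
        (LinearMap.ext fun v => by rw [LinearMap.comp_apply, ← h.ap_mul, Units.mul_inv]; rfl)
        (LinearMap.ext fun v => by rw [LinearMap.comp_apply, ← h.ap_mul, Units.inv_mul]; rfl)
      refine ⟨g, fun v => ?_, Units.ext (h.ap_ext fun v => rfl)⟩
      have h2 : h.b (h.ap u v) (h.ap (u * l * star (u : h.EB) - l) (h.ap u v)) = 0 := h1 (h.ap u v)
      have h3 : star (u : h.EB) * u = 1 := by
        have h4 : star (u : h.EB) = (u⁻¹ : h.EBˣ) := Units.eq_inv_of_mul_eq_one_left hu.1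
        rw [h4, Units.inv_mul]
      rw [h.ap_sub, h.sub_right, h.ap_mul, h.ap_mul, ← h.star_b, ← h.ap_mul (star (u : h.EB)), h3, h.ap_one] at h2
      change polar Q _ _ - polar Q _ _ = 0 at h2
      rw [hlQ, hlQ, sub_eq_zero] at h2
      exact h2.symm
  let φ : E Q →* h.EBˣ := ψ.comp (E Q).subtype
  have hc : φ.range = ⁅R.Iso, R.Iso⁆ := by
    rw [← hr, ← Subgroup.map_commutator, hG.commutator_eq_E, MonoidHom.range_comp, Subgroup.range_subtype]
  have hspan : R.Span := by
    refine h.span_top _ (fun c => Subring.subset_closure (Or.inl (h.smul_mem_center c))) {x | x ≠ 0 ∧ Q x = 0}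
      ⟨x₀, hx₀, hQx₀⟩ (fun x hx => hx.1) (fun x hx => ?_) (fun x hx v hv => ?_)
    · obtain ⟨y, hy⟩ := exists_hyp hG.nondeg hx.2 hx.1
      obtain ⟨z, w, hzw, h1, h2, -, -⟩ := hG.exists_hyp2 hy
      have hmem : ∀ (s : V) (hs : polar Q x s = 0), (ψ (siegel Q x s hx.2 hs) : h.EB) - 1 ∈
          Subring.closure ((Subring.center h.EB : Set h.EB) ∪
            ((fun u : h.EBˣ => (u : h.EB)) '' (⁅R.Iso, R.Iso⁆ : Subgroup h.EBˣ))) := fun s hs => by
        refine Subring.sub_mem _ (Subring.subset_closure (Or.inr ⟨ψ (siegel Q x s hx.2 hs), ?_, rfl⟩))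
          (Subring.one_mem _)
        rw [← hc]
        exact ⟨⟨_, siegel_mem_E hx.2 hs⟩, rfl⟩
      have hxx : polar Q x x = 0 := by rw [polar_self, hx.2, smul_zero]
      have hN : ∀ (s : V) (hs : polar Q x s = 0), Q s = 0 → ∀ v,
          h.ap ((ψ (siegel Q x s hx.2 hs) : h.EB) - 1) v = polar Q x v • s - polar Q s v • x := fun s hs hQs v => by
        rw [h.ap_sub, hψ, h.ap_one, siegel_apply, hQs, zero_mul, zero_smul]
        abel
      have e : h.eb (h.ro x x) = -(((ψ (siegel Q x z hx.2 h1) : h.EB) - 1) * ((ψ (siegel Q x w hx.2 h2) : h.EB) - 1)) := by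
        rw [eq_neg_iff_add_eq_zero]
        apply h.ap_ext
        intro v
        rw [h.ap_add, h.ap_mul, hN z h1 hzw.left, hN w h2 hzw.right, h.ap_eb, h.ro_apply, polar_sub_right,
          polar_sub_right, polar_smul_right, polar_smul_right, polar_smul_right, polar_smul_right, h2, hxx,
          hzw.pair, polar_comm Q z x, h1]
        change polar Q v x • x + _ = (0 : V)
        rw [polar_comm Q v x]
        simp
      rw [e]
      exact Subring.neg_mem _ (Subring.mul_mem _ (hmem z h1) (hmem w h2))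
    · have hv' : polar Q v x ≠ 0 := hv
      have hxx : polar Q x x = 0 := by rw [polar_self, hx.2, smul_zero]
      have h1 : polar Q (v + (-(Q v) / polar Q v x) • x) x = polar Q v x := by
        rw [polar_add_left, polar_smul_left, hxx, smul_zero, add_zero]
      refine ⟨-(Q v) / polar Q v x, ⟨fun h0 => hv' ?_, ?_⟩, fun h0 => hv' (h1.symm.trans h0)⟩
      · rw [← h1, h0, polar_zero_left]
      · rw [QuadraticMap.map_add (⇑Q), QuadraticMap.map_smul, hx.2, smul_zero, add_zero, polar_smul_right,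
          smul_eq_mul]
        field_simp
        ring
  refine model_of R h.ss hspan φ (hinj.comp Subtype.val_injective) hc _ ?_
  rintro _ ⟨g, rfl⟩
  obtain ⟨σ, c, hg⟩ := g.2
  refine ⟨h.semiAut g.1 σ hg.add hg.smul, ⟨h.semiAut_mem g.1 σ hg.add hg.smul hg.polar,
    (mem_Lmin_iff Q hG.nondeg _).2 fun v => ?_⟩, fun k => ⟨conjE Q g k, Psi_mk g k, h.ap_ext fun v => ?_⟩⟩
  · obtain ⟨v, rfl⟩ := g.1.surjective v
    change h.b (g.1 v) (h.ap (h.semiAut g.1 σ hg.add hg.smul l - l) (g.1 v)) = 0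
    rw [h.ap_sub, h.sub_right, h.ap_semiAut]
    change polar Q _ _ - polar Q _ _ = 0
    rw [hg.polar, hlQ, hlQ, hg.form, sub_self]
  · obtain ⟨v, rfl⟩ := g.1.surjective v
    rw [h.ap_semiAut]
    exact (conjLin_apply' g k.1 v).symm

end Cfsg.Agent.DS.Cl.Fwd
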