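import Cfsg.Agent.DS.Cl.NC

/-!
# S5881, classical groups: symplectic groups are generated by transvections (`BoxTV`, helper93)
-/

set_option autoImplicit false

namespace Cfsg.Agent.DS.Cl.NCTV

open Module Cfsg.Agent.DS.Cl

section gen

variable {K V : Type} [Field K] [AddCommGroup V] [Module K V]

theorem alt_skew {b : LinearMap.BilinForm K V} (ha : ∀ v, b v v = 0) (v w : V) : b w v = -b v w :=
  eq_neg_of_add_eq_zero_right (polar (σ := RingHom.id K) (x := 1) ha v w)

theorem tv_apply (b : LinearMap.BilinForm K V) (c : K) (d w : V) :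
    (1 + rk (σ := RingHom.id K) b c d) w = w + (c * b d w) • d := by
  rw [LinearMap.add_apply, Module.End.one_apply, rk_apply]

theorem tv_iso {b : LinearMap.BilinForm K V} (ha : ∀ v, b v v = 0) (c : K) (d : V) {g : End K V}
    (hg : ∀ v w, b (g v) (g w) = b v w) (v w : V) :
    b (((1 + rk (σ := RingHom.id K) b c d) * g) v) (((1 + rk (σ := RingHom.id K) b c d) * g) w) = b v w := by
  rw [Module.End.mul_apply, Module.End.mul_apply, tv_apply, tv_apply]
  simp only [map_add, map_smul, LinearMap.add_apply, LinearMap.smul_apply,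
    smul_eq_mul, ha, hg, alt_skew ha d (g v)]
  ring

theorem exists_two {φ ψ : V →ₗ[K] K} (hφ : ∃ v, φ v ≠ 0) (hψ : ∃ v, ψ v ≠ 0) : ∃ v, φ v ≠ 0 ∧ ψ v ≠ 0 := by
  obtain ⟨v, hv⟩ := hφ
  obtain ⟨w, hw⟩ := hψ
  by_cases h1 : ψ v = 0
  · by_cases h2 : φ w = 0
    · exact ⟨v + w, by rwa [map_add, h2, add_zero], by rwa [map_add, h1, zero_add]⟩
    · exact ⟨w, h2, hw⟩
  · exact ⟨v, hv, h1⟩

variable [FiniteDimensional K V]

/-- induction principle: isometries of a non-degenerate alternating form are products of transvections -/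
theorem tv_induction {b : LinearMap.BilinForm K V} (ha : ∀ v, b v v = 0) (hb : b.SeparatingLeft)
    (P : End K V → Prop) (h1 : P 1)
    (hP : ∀ (c : K) (d : V) (g : End K V), c ≠ 0 → d ≠ 0 → P ((1 + rk (σ := RingHom.id K) b c d) * g) → P g)
    (g : End K V) (hg : ∀ v w, b (g v) (g w) = b v w) : P g := by
  have key : ∀ (k : ℕ) (g : End K V), (∀ v w, b (g v) (g w) = b v w) →
      finrank K V - finrank K (LinearMap.ker (g - 1)) = k → P g := by
    intro k
    induction k using Nat.strong_induction_on with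
    | _ k ih =>
      have hfix : ∀ {g : End K V} {w : V}, w ∈ LinearMap.ker (g - 1) ↔ g w = w := by
        intro g w
        rw [LinearMap.mem_ker, LinearMap.sub_apply, Module.End.one_apply, sub_eq_zero]
      have hle : ∀ (g : End K V), (∀ v w, b (g v) (g w) = b v w) → ∀ (c : K) (x : V),
          LinearMap.ker (g - 1) ≤ LinearMap.ker ((1 + rk (σ := RingHom.id K) b c (g x - x)) * g - 1) := by
        intro g hg c x w hw
        rw [hfix] at hw ⊢
        have h2 : b (g x - x) w = 0 := by
          rw [map_sub, LinearMap.sub_apply, sub_eq_zero]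
          conv_lhs => rw [← hw]
          exact hg x w
        rw [Module.End.mul_apply, hw, tv_apply, h2, mul_zero, zero_smul, add_zero]
      -- the non-hyperbolic case
      have step : ∀ (g : End K V), (∀ v w, b (g v) (g w) = b v w) →
          finrank K V - finrank K (LinearMap.ker (g - 1)) ≤ k → ∀ v, b v (g v) ≠ 0 → P g := by
        intro g hg hk v hv
        have h2 : g v - v ≠ 0 := fun h => hv (by rw [sub_eq_zero.1 h, ha])
        refine hP (b v (g v))⁻¹ (g v - v) g (inv_ne_zero hv) h2 ?_
        refine ih _ ?_ _ (tv_iso ha _ _ hg) rfl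
        have h3 : LinearMap.ker (g - 1) <
            LinearMap.ker ((1 + rk (σ := RingHom.id K) b (b v (g v))⁻¹ (g v - v)) * g - 1) := by
          refine lt_of_le_of_ne (hle g hg _ v) fun h => h2 ?_
          have h4 : v ∈ LinearMap.ker (g - 1) := by
            rw [h, hfix, Module.End.mul_apply, tv_apply, map_sub, LinearMap.sub_apply, ha, zero_sub, mul_neg,
              inv_mul_cancel₀ hv, neg_one_smul]
            abel
          exact sub_eq_zero.2 (hfix.1 h4)
        have h4 := Submodule.finrank_lt_finrank_of_lt h3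
        have h5 := Submodule.finrank_le
          (LinearMap.ker ((1 + rk (σ := RingHom.id K) b (b v (g v))⁻¹ (g v - v)) * g - 1))
        omega
      intro g hg hk
      by_cases h2 : ∃ v, b v (g v) ≠ 0
      · obtain ⟨v, hv⟩ := h2
        exact step g hg hk.le v hv
      push Not at h2
      by_cases h3 : ∀ x, g x = x
      · rwa [show g = 1 from LinearMap.ext h3]
      push Not at h3
      obtain ⟨x, hx⟩ := h3
      have h4 : g x - x ≠ 0 := sub_ne_zero.2 hx
      have h5 : ∃ w, b (g x - x) w ≠ 0 := by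
        by_contra hc
        push Not at hc
        exact h4 (hb _ hc)
      have hinj : Function.Injective g := by
        rw [injective_iff_map_eq_zero]
        intro v hv
        exact hb v fun w => by rw [← hg, hv, map_zero, LinearMap.zero_apply]
      have h6 : ∃ w, (b (g x - x) ∘ₗ g) w ≠ 0 := by
        obtain ⟨w, hw⟩ := h5
        obtain ⟨w, rfl⟩ := LinearMap.injective_iff_surjective.1 hinj w
        exact ⟨w, hw⟩
      obtain ⟨v, h7, h8⟩ := exists_two h5 h6
      refine hP 1 (g x - x) g one_ne_zero h4 (step _ (tv_iso ha _ _ hg) ?_ v ?_)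
      · have h9 := Submodule.finrank_mono (hle g hg 1 x)
        omega
      · rw [Module.End.mul_apply, tv_apply, map_add, h2, zero_add, map_smul, one_mul, smul_eq_mul,
          alt_skew ha (g x - x) v]
        exact mul_ne_zero h8 (neg_ne_zero.2 h7)
  exact key _ g hg rfl

end gen

variable {A : Type} [Ring A] [StarRing A]

omit [StarRing A] in
theorem scal_cen {K V : Type} [Field K] [AddCommGroup V] [Module K V] (e : A ≃+* End K V) (c : K) :
    e.symm (c • (1 : End K V)) ∈ Subring.center A := by
  refine Subring.mem_center_iff.2 fun a => e.injective ?_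
  rw [map_mul, map_mul, e.apply_symm_apply, mul_smul_comm, smul_mul_assoc, mul_one, one_mul]

theorem boxTV : BoxTV := by
  intro A _ _ _ h h2 hc hl
  have := h.1
  rcases exists_model h with h1 | h1 | h1
  · exfalso
    obtain ⟨K, _, _, n, π, hn, hπ⟩ := h1
    obtain ⟨c, hc1, hc2, -, -⟩ := eps_L π hπ
    rw [hc c hc1, ← two_mul, h2, zero_mul] at hc2
    exact zero_ne_one hc2
  · exfalso
    obtain ⟨K, _, _, n, e, σ, b, hn, hσ, -, -, hb, hadj⟩ := h1
    have : Nonempty (Fin n) := ⟨⟨0, hn⟩⟩
    obtain ⟨v, hv⟩ := exists_ne (0 : Fin n → K)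
    refine hσ (RingHom.ext fun a => ?_)
    by_contra ha
    refine hv (hb v fun w => ?_)
    have h3 := hadj (e.symm (a • 1)) v w
    rw [hc _ (scal_cen e a), e.apply_symm_apply] at h3
    simp only [LinearMap.smul_apply, Module.End.one_apply, map_smulₛₗ, smul_eq_mul, RingHom.id_apply] at h3
    rw [← sub_eq_zero, ← sub_mul] at h3
    exact (mul_eq_zero.1 h3).resolve_left (sub_ne_zero.2 ha)
  obtain ⟨K, _, _, n, e, b, hn, hs, hb, hadj⟩ := h1
  have : Nonempty (Fin n) := ⟨⟨0, hn⟩⟩
  obtain ⟨v₀, hv₀⟩ := exists_ne (0 : Fin n → K)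
  have hK : ∀ a : K, -a = a := by
    intro a
    have h3 : (2 : End K (Fin n → K)) = 0 := by rw [← map_ofNat e 2, h2, map_zero]
    have h4 : (2 : K) • v₀ = 0 := by
      have := LinearMap.congr_fun h3 v₀
      rwa [Module.End.ofNat_apply, LinearMap.zero_apply, ← Nat.cast_smul_eq_nsmul K] at this
    have h5 : (2 : K) = 0 := (smul_eq_zero.1 h4).resolve_right hv₀
    rw [neg_eq_iff_add_eq_zero, ← two_mul, h5, zero_mul]
  have hs' : ∀ v w, RingHom.id K (b v w) = 1 * b w v := by
    intro v w
    rw [one_mul, RingHom.id_apply]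
    rcases hs with hs | hs
    · exact hs w v
    · rw [hs w v, hK]
  have ha : ∀ v, b v v = 0 := by
    intro v
    obtain ⟨l, hl⟩ := hl
    have h3 : v = e l v + e (star l) v := by
      rw [← LinearMap.add_apply, ← map_add, hl, map_one, Module.End.one_apply]
    have h4 := hs' (e l v) v
    rw [one_mul, RingHom.id_apply] at h4
    calc b v v = b v (e l v) + b v (e (star l) v) := by rw [← map_add, ← h3]
      _ = 0 := by rw [← hadj, h4, ← neg_eq_iff_add_eq_zero, hK]
  have hrk : ∀ (c : K) (d : Fin n → K), c ≠ 0 → d ≠ 0 → Rk1 (e.symm (rk (σ := RingHom.id K) b c d)) := by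
    intro c d hc0 hd
    refine ⟨fun h0 => hd (hb d fun w => ?_), ?_, fun a => ⟨_, scal_cen e (c * b d (e a d)), e.injective ?_⟩⟩
    · have h3 := LinearMap.congr_fun (e.symm.map_eq_zero_iff.1 h0) w
      rw [rk_apply, LinearMap.zero_apply] at h3
      exact (mul_eq_zero.1 ((smul_eq_zero.1 h3).resolve_right hd)).resolve_left hc0
    · rw [star_rk hb one_ne_zero hs' e hadj, RingHom.id_apply, mul_one]
    · rw [map_mul, map_mul, map_mul, e.apply_symm_apply, e.apply_symm_apply, rk_mul, smul_mul_assoc, one_mul, rk, rk,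
        smul_smul]
      congr 1
      ring
  refine ⟨⟨_, hrk 1 v₀ one_ne_zero hv₀⟩, fun u hu => ?_⟩
  refine tv_induction ha hb
    (fun g => ∀ u : Aˣ, e u = g → u ∈ Subgroup.closure {t : Aˣ | ∃ s, Rk1 s ∧ (t : A) = 1 + s}) ?_ ?_ (e u) ?_ u rfl
  · intro u hu
    rw [show u = 1 from Units.ext (e.injective (by rw [hu, Units.val_one, map_one]))]
    exact Subgroup.one_mem _
  · intro c d g hc0 hd hP u hu
    have h3 : (1 + e.symm (rk (σ := RingHom.id K) b c d)) * (1 - e.symm (rk (σ := RingHom.id K) b c d)) = 1 := by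
      have h4 : e.symm (rk (σ := RingHom.id K) b c d) * e.symm (rk (σ := RingHom.id K) b c d) = 0 := by
        apply e.injective
        have h5 := rk_mul (σ := RingHom.id K) b c c d 1
        rw [mul_one, Module.End.one_apply, ha, mul_zero] at h5
        rw [map_mul, e.apply_symm_apply, h5, map_zero, rk, zero_smul]
      calc _ = 1 - e.symm (rk (σ := RingHom.id K) b c d) * e.symm (rk (σ := RingHom.id K) b c d) := by noncomm_ring
        _ = 1 := by rw [h4, sub_zero]
    obtain ⟨t, ht⟩ : IsUnit (1 + e.symm (rk (σ := RingHom.id K) b c d)) := IsUnit.of_mul_eq_one _ h3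
    have h4 : t ∈ Subgroup.closure {t : Aˣ | ∃ s, Rk1 s ∧ (t : A) = 1 + s} :=
      Subgroup.subset_closure ⟨_, hrk c d hc0 hd, ht⟩
    have h5 := hP (t * u) (by rw [Units.val_mul, map_mul, ht, hu, map_add, map_one, e.apply_symm_apply])
    exact (Subgroup.mul_mem_cancel_left _ h4).1 h5
  · intro v w
    have h3 : star (u : A) * u = 1 := mul_eq_one_comm.1 hu
    rw [hadj, ← Module.End.mul_apply, ← map_mul, h3, map_one, Module.End.one_apply]

end Cfsg.Agent.DS.Cl.NCTV
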