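import Cfsg.Agent.DS.Cl.ModBase
import Cfsg.Agent.S0264
import Cfsg.Agent.ClassicalGeometry.AutPSL.Main

/-!
# S5881, classical groups: the model of the linear groups (helper12)
-/

set_option autoImplicit false

namespace Cfsg.Agent.DS.Cl.Fwd

open Cfsg Cfsg.Agent.DS.Cl
open Cfsg.Agent.ClassicalGeometry.AutPSL.Auto (fld itr lift)
open scoped Matrix

/-- conjugation by a unitary element commutes with the involution -/
theorem cj_mem_SAut {A : Type} [Ring A] [StarRing A] {u : Aˣ} (hu : (u : A) * star (u : A) = 1) :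
    cj A u ∈ SAut A := by
  intro a
  have h1 : star (u : A) = (u⁻¹ : Aˣ) := Units.eq_inv_of_mul_eq_one_left hu
  have h2 : star ((u⁻¹ : Aˣ) : A) = u := by rw [← h1, star_star]
  rw [cj_apply, cj_apply, star_mul, star_mul, h1, h2, mul_assoc]

/-- the off-diagonal matrix units generate the matrix ring -/
theorem mat_ind {ι F : Type} [Fintype ι] [DecidableEq ι] [Nontrivial ι] [Field F] (P : Matrix ι ι F → Prop)
    (h0 : P 0) (ha : ∀ a b, P a → P b → P (a + b)) (hm : ∀ a b, P a → P b → P (a * b))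
    (hs : ∀ i j, i ≠ j → ∀ c, P (Matrix.single i j c)) (a : Matrix ι ι F) : P a := by
  refine Matrix.induction_on' a h0 ha fun i j c => ?_
  by_cases hij : i = j
  · obtain ⟨k, hk⟩ := exists_ne i
    have h1 := hm _ _ (hs i k hk.symm c) (hs k j (hij ▸ hk) 1)
    rwa [Matrix.single_mul_single_same, mul_one] at h1
  · exact hs i j hij c

/-- pairs of matrices with the involution `(a, b) ↦ (bᵀ, aᵀ)` -/
def LR (ι F : Type) : Type := Matrix ι ι F × Matrix ι ι F

section LR

variable {ι F : Type} [Fintype ι] [DecidableEq ι] [Field F]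

instance LR.instRingFwd : Ring (LR ι F) := inferInstanceAs (Ring (Matrix ι ι F × Matrix ι ι F))

instance LR.instFiniteFwd [Finite F] : Finite (LR ι F) :=
  inferInstanceAs (Finite ((ι → ι → F) × (ι → ι → F)))

instance LR.instStarRingFwd : StarRing (LR ι F) where
  star a := (a.2ᵀ, a.1ᵀ)
  star_involutive _ := rfl
  star_mul a b := Prod.ext (Matrix.transpose_mul a.2 b.2) (Matrix.transpose_mul a.1 b.1)
  star_add _ _ := rfl

/-- the pair of two matrices -/
def LR.mk (a b : Matrix ι ι F) : LR ι F := (a, b)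

theorem LR.mk_mul (a b a' b' : Matrix ι ι F) : LR.mk a b * LR.mk a' b' = LR.mk (a * a') (b * b') := rfl

theorem LR.mk_add (a b a' b' : Matrix ι ι F) : LR.mk a b + LR.mk a' b' = LR.mk (a + a') (b + b') := rfl

theorem LR.mk_sub (a b a' b' : Matrix ι ι F) : LR.mk a b - LR.mk a' b' = LR.mk (a - a') (b - b') := rfl

theorem LR.star_mk (a b : Matrix ι ι F) : star (LR.mk a b) = LR.mk bᵀ aᵀ := rfl

theorem LR.one_eq : (1 : LR ι F) = LR.mk 1 1 := rfl

theorem LR.zero_eq : (0 : LR ι F) = LR.mk 0 0 := rfl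

omit [Fintype ι] [DecidableEq ι] [Field F] in
theorem LR.exists_mk (x : LR ι F) : ∃ a b, x = LR.mk a b := ⟨x.1, x.2, rfl⟩

theorem LR.half : (LR.mk 1 0 : LR ι F) + star (LR.mk 1 0) = 1 := by
  rw [LR.star_mk, LR.mk_add, Matrix.transpose_zero, Matrix.transpose_one, add_zero, zero_add, LR.one_eq]

theorem LR.ss [Nonempty ι] : SS (LR ι F) := by
  refine ⟨inferInstanceAs (Nontrivial (Matrix ι ι F × Matrix ι ι F)), fun I hI hs => ?_⟩
  by_cases h0 : I = ⊥
  · exact Or.inl h0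
  right
  obtain ⟨a, b, ha, hab⟩ : ∃ a b, a ≠ 0 ∧ LR.mk a b ∈ I := by
    obtain ⟨x, hx, hx0⟩ := Submodule.exists_mem_ne_zero_of_ne_bot h0
    obtain ⟨a, b, rfl⟩ := LR.exists_mk x
    by_cases ha : a = 0
    · refine ⟨bᵀ, aᵀ, fun hb => hx0 ?_, hs _ hx⟩
      rw [ha, Matrix.transpose_eq_zero.1 hb, LR.zero_eq]
    · exact ⟨a, b, ha, hx⟩
  obtain ⟨i, j, hij⟩ : ∃ i j, a i j ≠ 0 := by
    by_contra H
    push Not at H
    exact ha (Matrix.ext H)
  have h1 : ∀ x, LR.mk x 0 ∈ I := fun x => by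
    refine Matrix.induction_on' (P := fun x => LR.mk x 0 ∈ I) x I.zero_mem (fun p q hp hq => ?_) fun k l c => ?_
    · have h2 := I.add_mem hp hq
      rwa [LR.mk_add, add_zero] at h2
    · have h2 := hI _ (I.mul_mem_left (LR.mk (Matrix.single k i (c / a i j)) 0) hab) (LR.mk (Matrix.single j l 1) 0)
      rwa [LR.mk_mul, LR.mk_mul, mul_zero, Matrix.single_mul_mul_single, mul_one, div_mul_cancel₀ _ hij] at h2
  rw [Ideal.eq_top_iff_one, ← LR.half]
  exact I.add_mem (h1 1) (hs _ (h1 1))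

/-- the general linear group in the ring of pairs -/
def LR.gl₀ : GL ι F →* LR ι F where
  toFun A := LR.mk A ((A⁻¹ : GL ι F) : Matrix ι ι F)ᵀ
  map_one' := by rw [inv_one, Units.val_one, Matrix.transpose_one, LR.one_eq]
  map_mul' A B := by rw [LR.mk_mul, mul_inv_rev, Units.val_mul, Units.val_mul, Matrix.transpose_mul]

/-- the general linear group in the unit group of the ring of pairs -/
def LR.gl : GL ι F →* (LR ι F)ˣ := LR.gl₀.toHomUnits

theorem LR.gl_val (A : GL ι F) : (LR.gl A : LR ι F) = LR.mk A ((A⁻¹ : GL ι F) : Matrix ι ι F)ᵀ := rfl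

theorem LR.mem_gl (u : (LR ι F)ˣ) : u ∈ (LR.gl (ι := ι) (F := F)).range ↔ (u : LR ι F) * star (u : LR ι F) = 1 := by
  constructor
  · rintro ⟨A, rfl⟩
    rw [LR.gl_val, LR.star_mk, LR.mk_mul, Matrix.transpose_transpose, Units.mul_inv, ← Matrix.transpose_mul,
      Units.mul_inv, Matrix.transpose_one, LR.one_eq]
  · intro hu
    have h1 : (u : LR ι F).1 * (u : LR ι F).2ᵀ = 1 := congrArg Prod.fst hu
    exact ⟨⟨(u : LR ι F).1, (u : LR ι F).2ᵀ, h1, mul_eq_one_comm.1 h1⟩, Units.ext rfl⟩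

/-- field automorphisms -/
def LR.fldAut (σ : F ≃+* F) : RingAut (LR ι F) := RingEquiv.prodCongr σ.mapMatrix σ.mapMatrix

/-- the graph automorphism -/
def LR.swapAut : RingAut (LR ι F) := RingEquiv.prodComm

end LR

theorem boxModL : BoxModL := by
  intro F _ _ n hn hn2
  have hnt : Nontrivial (Fin n) := Fin.nontrivial_iff_two_le.2 hn
  let R : FR (LR (Fin n) F) := ⟨LR.mk 1 0, Lmax _, LR.half, Or.inr rfl⟩
  let φ : Matrix.SpecialLinearGroup (Fin n) F →* (LR (Fin n) F)ˣ := LR.gl.comp Matrix.SpecialLinearGroup.toGL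
  have hφ : ∀ k, (φ k : LR (Fin n) F) = LR.mk k.1 (itr k).1 := fun k => by
    change (LR.gl (Matrix.SpecialLinearGroup.toGL k) : LR (Fin n) F) = _
    rw [LR.gl_val, ← map_inv]
    rfl
  have hinj : Function.Injective φ := fun A B H => Subtype.ext (congrArg (fun u : (LR (Fin n) F)ˣ => u.1.1) H)
  have hr : (LR.gl (ι := Fin n) (F := F)).range = R.Iso := by
    ext u
    rw [LR.mem_gl]
    exact ⟨fun hu => mem_Iso_max rfl hu, fun hu => hu.1⟩
  have hc : φ.range = ⁅R.Iso, R.Iso⁆ := by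
    have h1 : n = 2 → ∃ a : F, a ≠ 0 ∧ a ≠ 1 := fun h2 => by
      classical
      by_contra H
      push Not at H
      have h3 : (Finset.univ : Finset F) ⊆ {0, 1} := fun a _ => by
        by_cases ha : a = 0
        · simp [ha]
        · simp [H a ha]
      have h4 := (Finset.card_le_card h3).trans Finset.card_le_two
      have h5 := hn2 h2
      rw [Finset.card_univ] at h4
      omega
    rw [← hr, comm_range, Cfsg.Agent.S0264.result n h1, MonoidHom.range_comp]
    congr 1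
    ext A
    constructor
    · rintro ⟨k, rfl⟩
      exact Units.ext k.2
    · intro hA
      exact ⟨⟨A, congrArg Units.val (MonoidHom.mem_ker.1 hA)⟩, Units.ext rfl⟩
  have hspan : R.Span := by
    rw [FR.Span, eq_top_iff]
    intro x _
    obtain ⟨a, b, rfl⟩ := LR.exists_mk x
    set S := Subring.closure ((Subring.center (LR (Fin n) F) : Set (LR (Fin n) F)) ∪
      ((fun u : (LR (Fin n) F)ˣ => (u : LR (Fin n) F)) '' (⁅R.Iso, R.Iso⁆ : Subgroup (LR (Fin n) F)ˣ))) with hS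
    have h1 : (LR.mk 1 0 : LR (Fin n) F) ∈ S := Subring.subset_closure (Or.inl (Subring.mem_center_iff.2 fun g => by
      obtain ⟨c, d, rfl⟩ := LR.exists_mk g
      rw [LR.mk_mul, LR.mk_mul, mul_one, one_mul, mul_zero, zero_mul]))
    have h2 : (LR.mk 0 1 : LR (Fin n) F) ∈ S := Subring.subset_closure (Or.inl (Subring.mem_center_iff.2 fun g => by
      obtain ⟨c, d, rfl⟩ := LR.exists_mk g
      rw [LR.mk_mul, LR.mk_mul, mul_one, one_mul, mul_zero, zero_mul]))
    have h3 : ∀ i j, i ≠ j → ∀ c : F, LR.mk (Matrix.single i j c) (Matrix.single j i (-c)) ∈ S := fun i j hij c => by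
      have h4 : (φ (Matrix.SpecialLinearGroup.transvection hij c) : LR (Fin n) F) ∈ S :=
        Subring.subset_closure (Or.inr ⟨_, by rw [← hc]; exact ⟨_, rfl⟩, rfl⟩)
      have h5 := S.sub_mem h4 S.one_mem
      rw [hφ, Cfsg.Agent.ClassicalGeometry.AutPSL.Auto.itr_transvection, LR.one_eq, LR.mk_sub] at h5
      change LR.mk (1 + Matrix.single i j c - 1) (1 + Matrix.single j i (-c) - 1) ∈ S at h5
      rwa [add_sub_cancel_left, add_sub_cancel_left] at h5
    have h4 : LR.mk a 0 ∈ S := by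
      refine mat_ind (fun a => LR.mk a 0 ∈ S) S.zero_mem (fun a b ha hb => ?_) (fun a b ha hb => ?_)
        (fun i j hij c => ?_) a
      · have h5 := S.add_mem ha hb
        rwa [LR.mk_add, add_zero] at h5
      · have h5 := S.mul_mem ha hb
        rwa [LR.mk_mul, mul_zero] at h5
      · have h5 := S.mul_mem h1 (h3 i j hij c)
        rwa [LR.mk_mul, one_mul, zero_mul] at h5
    have h5 : LR.mk 0 b ∈ S := by
      refine mat_ind (fun a => LR.mk 0 a ∈ S) S.zero_mem (fun a b ha hb => ?_) (fun a b ha hb => ?_)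
        (fun i j hij c => ?_) b
      · have h5 := S.add_mem ha hb
        rwa [LR.mk_add, add_zero] at h5
      · have h5 := S.mul_mem ha hb
        rwa [LR.mk_mul, mul_zero] at h5
      · have h5 := S.mul_mem h2 (h3 j i hij.symm (-c))
        rwa [LR.mk_mul, one_mul, zero_mul, neg_neg] at h5
    have h6 := S.add_mem h4 h5
    rwa [LR.mk_add, add_zero, zero_add] at h6
  let P : MulAut (Matrix.SpecialLinearGroup (Fin n) F) → Prop := fun e =>
    ∃ γ ∈ SAut (LR (Fin n) F), ∀ k, γ (φ k : LR (Fin n) F) = φ (e k)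
  have hmul : ∀ e e', P e → P e' → P (e * e') := by
    rintro e e' ⟨γ, hγ, h⟩ ⟨γ', hγ', h'⟩
    refine ⟨γ * γ', mul_mem hγ hγ', fun k => ?_⟩
    change γ (γ' _) = _
    rw [h', h]
    rfl
  have hcj : ∀ A, P (Cfsg.Agent.ClassicalGeometry.AutPSL.Auto.cj A) := fun A => by
    refine ⟨cj _ (LR.gl A), cj_mem_SAut ((LR.mem_gl _).1 ⟨A, rfl⟩), fun k => ?_⟩
    change ((LR.gl A * LR.gl (Matrix.SpecialLinearGroup.toGL k) * (LR.gl A)⁻¹ : (LR (Fin n) F)ˣ) : LR (Fin n) F) =
      (LR.gl (Matrix.SpecialLinearGroup.toGL (Cfsg.Agent.ClassicalGeometry.AutPSL.Auto.cj A k)) : (LR (Fin n) F)ˣ)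
    rw [← map_inv, ← map_mul, ← map_mul]
    exact congrArg (fun B : GL (Fin n) F => (LR.gl B : LR (Fin n) F)) (Units.ext rfl)
  have hfld : ∀ σ, P (fld σ) := fun σ => by
    refine ⟨LR.fldAut σ, fun a => rfl, fun k => ?_⟩
    rw [hφ, hφ]
    have h1 : (itr (fld σ k)).1 = σ.mapMatrix (itr k).1 := by
      rw [Cfsg.Agent.ClassicalGeometry.AutPSL.Auto.coe_itr, ← map_inv]
      rfl
    rw [h1]
    rfl
  have hitr : P itr := by
    refine ⟨LR.swapAut, fun a => rfl, fun k => ?_⟩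
    have h1 : itr (itr k) = k := by
      rw [← MulAut.mul_apply, Cfsg.Agent.ClassicalGeometry.AutPSL.Auto.itr_mul_itr, MulAut.one_apply]
    rw [hφ, hφ, h1]
    rfl
  refine model_of R LR.ss hspan φ hinj hc _ ?_
  intro β _
  obtain ⟨e, he, rfl⟩ : ∃ e, P e ∧ β = lift e := by
    obtain ⟨p, hp⟩ := CharP.exists F
    have hprime : Fact p.Prime := ⟨CharP.char_is_prime F p⟩
    rcases Nat.lt_or_ge n 3 with h | h
    · obtain rfl : n = 2 := by omega
      obtain ⟨A, σ, hA⟩ := Cfsg.Agent.ClassicalGeometry.AutPSL.Main.surj_two p β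
      exact ⟨_, hmul _ _ (hcj A) (hfld σ), hA⟩
    · rcases Cfsg.Agent.ClassicalGeometry.AutPSL.Main.surj_three p h β with ⟨A, σ, hA⟩ | ⟨A, σ, hA⟩
      · exact ⟨_, hmul _ _ (hcj A) (hfld σ), hA⟩
      · exact ⟨_, hmul _ _ (hmul _ _ (hcj A) (hfld σ)) hitr, hA⟩
  obtain ⟨γ, hγ, h⟩ := he
  exact ⟨γ, mem_Aut_max rfl hγ, fun k => ⟨e k, rfl, h k⟩⟩

end Cfsg.Agent.DS.Cl.Fwd
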