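import Cfsg.Agent.DS.Cl.ModSp
import Cfsg.Agent.ClassicalGeometry.PSUAutMain
import Cfsg.Agent.LieClassical.HermPerfect

/-!
# S5881, classical groups: the model of the unitary groups (helper12)
-/

set_option autoImplicit false

namespace Cfsg.Agent.DS.Cl.Fwd

open Cfsg Cfsg.Agent.DS.Cl Cfsg.Agent.LieClassical.HermBasic Cfsg.Agent.LieClassical.HermSiegel
open Cfsg.Agent.ClassicalGeometry.PSUAutCount (gm semiConj toAut act_semiConj herm_semi gm_inv_mulVec gm_mulVec_inv
  toAut_pr)
open scoped Matrix commutatorElement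

/-- the hermitian form -/
def unH (n : ℕ) {F : Type} [Field F] [Fintype F] {q : ℕ} (hF : Fintype.card F = q ^ 2) : HF F (Fin n → F) where
  τ := (conj hF : F →+* F)
  ε := 1
  b := hermForm n F q
  add_left := herm_add_left
  smul_left := herm_smul_left
  swap u v := by rw [one_mul, herm_swap hF u v]; rfl
  τ_τ c := pow_q_pow_q hF c
  nondeg _ H := herm_nondeg hF fun v => herm_eq_zero_swap hF (H v)

/-- the determinant of a unit -/
noncomputable def detU {K V : Type} [Field K] [AddCommGroup V] [Module K V] (h : HF K V) : h.EBˣ →* Kˣ :=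
  Units.map (LinearMap.det (A := K) (M := V))

theorem detU_val {K V : Type} [Field K] [AddCommGroup V] [Module K V] (h : HF K V) (u : h.EBˣ) :
    (detU h u : K) = LinearMap.det (h.ap u) := rfl

theorem boxModU : BoxModU := by
  intro F _ _ n q hF hn h32
  have hnt : Nontrivial (Fin n → F) := by
    have : Nonempty (Fin n) := ⟨⟨0, by omega⟩⟩
    infer_instance
  let h := unH n hF
  obtain ⟨c, hc1⟩ := exists_trace_eq hF (one_pow q)
  have hll : h.eb (c • 1) + star (h.eb (c • 1)) = 1 := h.ap_ext fun v => h.ext_right fun u => by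
    rw [h.ap_add, h.add_right, h.b_star, h.ap_one, h.ap_eb, LinearMap.smul_apply, LinearMap.smul_apply,
      h.smul_right, h.smul_left]
    change c ^ q * h.b u v + c * h.b u v = h.b u v
    rw [← add_mul, add_comm, hc1, one_mul]
  let R : FR h.EB := ⟨h.eb (c • 1), Lmax h.EB, hll, Or.inr rfl⟩
  let φ₀ : SU n F q →* Matrix (Fin n) (Fin n) F := ⟨⟨mat, mat_one⟩, mat_mul⟩
  let φ : SU n F q →* h.EBˣ := ((matHom h).comp φ₀).toHomUnits
  have hφ : ∀ A v, h.ap (φ A) v = act A v := fun A v => rfl
  have hinj : Function.Injective φ := fun A B H => mat_injective (matHom_inj h (congrArg Units.val H))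
  have hle : φ.range ≤ R.Iso := by
    rintro _ ⟨A, rfl⟩
    exact mem_Iso_max rfl ((h.unit_iff _).2 fun x y => herm_act A x y)
  have hc : φ.range = ⁅R.Iso, R.Iso⁆ := by
    apply le_antisymm
    · have e : φ.range = ⁅φ.range, φ.range⁆ := by
        rw [comm_range, Cfsg.Agent.LieClassical.HermPerfect.commutator_SU_eq_top hF hn h32,
          ← MonoidHom.range_eq_map]
      rw [e]
      exact Subgroup.commutator_mono hle hle
    · rw [Subgroup.commutator_le]
      intro a ha b hb
      have hu : ⁅a, b⁆ ∈ R.Iso := by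
        rw [commutatorElement_def]
        exact mul_mem (mul_mem (mul_mem ha hb) (inv_mem ha)) (inv_mem hb)
      have hd : detU h ⁅a, b⁆ = 1 := by
        rw [map_commutatorElement, commutatorElement_eq_one_iff_mul_comm, mul_comm]
      have h1 := (h.unit_iff _).1 hu.1
      refine ⟨mkSU (LinearMap.toMatrix' (h.ap (⁅a, b⁆ : h.EBˣ))) ?_ fun x y => ?_, Units.ext (matHom_surj h _)⟩
      · rw [LinearMap.det_toMatrix', ← detU_val, hd, Units.val_one]
      · rw [LinearMap.toMatrix'_mulVec, LinearMap.toMatrix'_mulVec]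
        exact h1 x y
  have hspan : R.Span := by
    obtain ⟨e, f, H⟩ := Cfsg.Agent.ClassicalGeometry.PSUAutBasic.exists_frame (F := F) (q := q) (n := n) hF (by omega)
    have he : e ≠ 0 := by
      rintro rfl
      exact zero_ne_one ((herm_zero_left f).symm.trans H.ef)
    obtain ⟨μ, hμ0, hμ⟩ := exists_trace_zero_ne hF
    refine h.span_top _ (fun c => Subring.subset_closure (Or.inl (h.smul_mem_center c)))
      {x | x ≠ 0 ∧ hermForm n F q x x = 0} ⟨e, he, H.ee⟩
      (fun x hx => hx.1) (fun x hx => ?_) (fun x hx v hv => ?_)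
    · have hs : IsSiegel q x 0 μ := ⟨hx.2, herm_zero_left x, by rw [herm_zero_left, add_zero, hμ]⟩
      have e1 : h.eb (h.ro x x) = h.eb (μ⁻¹ • 1) * ((φ (siegel hF x 0 μ hs) : h.EB) - 1) := h.ap_ext fun v => by
        rw [h.ap_mul, h.ap_sub, hφ, h.ap_one, h.ap_eb, h.ap_eb, h.ro_apply, act_siegel, smul_zero, add_zero,
          herm_zero_right hF, sub_zero, add_sub_cancel_left, LinearMap.smul_apply, Module.End.one_apply, smul_smul,
          ← mul_assoc, inv_mul_cancel₀ hμ0, one_mul]
        rfl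
      rw [e1]
      refine Subring.mul_mem _ (Subring.subset_closure (Or.inl (h.smul_mem_center _))) (Subring.sub_mem _
        (Subring.subset_closure (Or.inr ⟨φ (siegel hF x 0 μ hs), ?_, rfl⟩)) (Subring.one_mem _))
      rw [← hc]
      exact ⟨_, rfl⟩
    · have hv' : hermForm n F q v x ≠ 0 := hv
      have hxv : hermForm n F q x v ≠ 0 := h.ne_swap hv
      obtain ⟨t, ht⟩ := exists_trace_eq hF (c := -hermForm n F q v v) (by rw [neg_pow_q hF, herm_self_pow hF])
      have h1 : hermForm n F q (v + (t / hermForm n F q x v) • x) x = hermForm n F q v x := by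
        rw [herm_add_left, herm_smul_left, hx.2, mul_zero, add_zero]
      refine ⟨t / hermForm n F q x v, ⟨fun h0 => hv' ?_, ?_⟩, fun h0 => hv' (h1.symm.trans h0)⟩
      · rw [← h1, h0, herm_zero_left]
      · rw [herm_add_right hF, herm_smul_right, h1, herm_add_left, herm_smul_left, div_mul_cancel₀ _ hxv,
          herm_swap hF x v, ← mul_pow, div_mul_cancel₀ _ hxv, add_assoc, ht, add_neg_cancel]
  refine model_of R h.ss hspan φ hinj hc _ ?_
  intro β _
  obtain ⟨A, ρ, rfl⟩ := Cfsg.Agent.ClassicalGeometry.PSUAutMain.exists_toAut hF hn h32 β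
  let g : Equiv.Perm (Fin n → F) :=
    { toFun := fun x => gm A *ᵥ fun i => ρ (x i)
      invFun := fun y j => ρ.symm ((gm A⁻¹ *ᵥ y) j)
      left_inv := fun x => by
        funext j
        change ρ.symm ((gm A⁻¹ *ᵥ (gm A *ᵥ fun i => ρ (x i))) j) = x j
        rw [gm_inv_mulVec, ρ.symm_apply_apply]
      right_inv := fun y => by
        simp only [RingEquiv.apply_symm_apply]
        exact gm_mulVec_inv A y }
  have ha : ∀ u v, g (u + v) = g u + g v := fun u v => by
    change gm A *ᵥ _ = gm A *ᵥ _ + gm A *ᵥ _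
    rw [← Matrix.mulVec_add]
    congr 1
    funext i
    exact map_add ρ _ _
  have hs : ∀ (c : F) v, g (c • v) = ρ c • g v := fun c v => by
    change gm A *ᵥ _ = ρ c • gm A *ᵥ _
    rw [← Matrix.mulVec_smul]
    congr 1
    funext i
    exact map_mul ρ _ _
  refine ⟨h.semiAut g ρ ha hs, mem_Aut_max rfl (h.semiAut_mem g ρ ha hs (c := 1) fun u v => ?_),
    fun k => ⟨semiConj A ρ k, toAut_pr A ρ k, h.ap_ext fun v => ?_⟩⟩
  · rw [one_mul]
    exact herm_semi A ρ u v
  · obtain ⟨v, rfl⟩ := g.surjective v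
    rw [h.ap_semiAut, hφ, hφ]
    exact (act_semiConj A ρ k v).symm

end Cfsg.Agent.DS.Cl.Fwd
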