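import Cfsg.Agent.DS.Cl.Defs
import Cfsg.Agent.H277.FC.SN

/-!
# Models of finite star-simple rings (helper54)

`exists_model` : a finite star-simple ring is `End V × (End V)ᵐᵒᵖ` with the swap (`ModL`), or `End V` with the adjoint
with respect to a non-degenerate hermitian (`ModU`), symmetric or skew-symmetric (`ModB`) form, `V = Fin n → K`.
-/

set_option autoImplicit false

namespace Cfsg.Agent.DS.Cl

open Module

/-- linear groups -/
def ModL (A : Type) [Ring A] [StarRing A] : Prop :=
  ∃ (K : Type) (_ : Field K) (_ : Fintype K) (n : ℕ) (π : A →+* End K (Fin n → K)), 0 < n ∧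
    Function.Bijective fun a => (π a, π (star a))

/-- unitary groups -/
def ModU (A : Type) [Ring A] [StarRing A] : Prop :=
  ∃ (K : Type) (_ : Field K) (_ : Fintype K) (n : ℕ) (e : A ≃+* End K (Fin n → K)) (σ : K →+* K)
    (b : (Fin n → K) →ₛₗ[σ] (Fin n → K) →ₗ[K] K), 0 < n ∧ σ ≠ RingHom.id K ∧ (∀ c, σ (σ c) = c) ∧ b.IsSymm ∧
      b.SeparatingLeft ∧ ∀ a v w, b (e a v) w = b v (e (star a) w)

/-- symplectic and orthogonal groups -/
def ModB (A : Type) [Ring A] [StarRing A] : Prop :=
  ∃ (K : Type) (_ : Field K) (_ : Fintype K) (n : ℕ) (e : A ≃+* End K (Fin n → K))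
    (b : LinearMap.BilinForm K (Fin n → K)), 0 < n ∧ ((∀ v w, b w v = b v w) ∨ ∀ v w, b w v = -b v w) ∧
      b.SeparatingLeft ∧ ∀ a v w, b (e a v) w = b v (e (star a) w)

/-- A finite simple ring is a matrix ring over a finite field. -/
theorem exists_end_of_simple (B : Type) [Ring B] [Finite B] [IsSimpleRing B] :
    ∃ (K : Type) (_ : Field K) (_ : Fintype K) (n : ℕ), 0 < n ∧ Nonempty (B ≃+* End K (Fin n → K)) := by
  obtain ⟨n, hn, D, hD, ⟨e⟩⟩ := IsSimpleRing.exists_ringEquiv_matrix_divisionRing B
  have hfin : Finite (Matrix (Fin n) (Fin n) D) := Finite.of_equiv B e.toEquiv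
  have hD' : Finite D := Finite.of_surjective (fun x : Matrix (Fin n) (Fin n) D => x 0 0) fun x =>
    ⟨Matrix.of fun _ _ => x, rfl⟩
  let _ : Field D := littleWedderburn D
  exact ⟨D, inferInstance, Fintype.ofFinite D, n, Nat.pos_of_neZero n,
    ⟨e.trans (Matrix.toLinAlgEquiv' (n := Fin n) (R := D)).toRingEquiv⟩⟩

/-- A finite star-simple ring is simple or the product of a simple ring and its opposite. -/
theorem SS.simple_or {A : Type} [Ring A] [StarRing A] [Finite A] (h : SS A) :
    IsSimpleRing A ∨ ∃ (B : Type) (_ : Ring B) (_ : Finite B) (_ : IsSimpleRing B) (π : A →+* B),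
      Function.Bijective fun a => (π a, π (star a)) := by
  have := h.1
  have hfin : Finite (Ideal A) := Finite.of_injective (fun I : Ideal A => (I : Set A)) SetLike.coe_injective
  obtain ⟨M, ⟨hM2, hMt⟩, hmax⟩ := WellFounded.has_min (wellFounded_gt (α := Ideal A))
    {I : Ideal A | I.IsTwoSided ∧ I ≠ ⊤} ⟨⊥, inferInstance, bot_ne_top⟩
  have hmax' : ∀ I : Ideal A, I.IsTwoSided → M ≤ I → I = M ∨ I = ⊤ := by
    intro I hI hMI
    by_cases ht : I = ⊤
    · exact Or.inr ht
    · exact Or.inl (eq_of_le_of_not_lt hMI (hmax I ⟨hI, ht⟩)).symm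
  let M' : Ideal A :=
    { carrier := {x | star x ∈ M}
      add_mem' := fun {a b} ha hb => by
        show star (a + b) ∈ M
        rw [star_add]
        exact M.add_mem ha hb
      zero_mem' := by
        show star (0 : A) ∈ M
        rw [star_zero]
        exact M.zero_mem
      smul_mem' := fun c x hx => by
        show star (c * x) ∈ M
        rw [star_mul]
        exact M.mul_mem_right _ hx }
  have hM' : ∀ x, x ∈ M' ↔ star x ∈ M := fun _ => Iff.rfl
  have hM'2 : M'.IsTwoSided := ⟨fun {a} b ha => by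
    rw [hM', star_mul]
    exact M.mul_mem_left _ ha⟩
  have hinf : ∀ x, x ∈ M → star x ∈ M → x = 0 := by
    rcases h.2 (M ⊓ M') (fun x hx a => ⟨M.mul_mem_right a hx.1, M'.mul_mem_right a hx.2⟩)
      (fun x hx => ⟨hx.2, (hM' _).2 (by rw [star_star]; exact hx.1)⟩) with h1 | h1
    · intro x hx hx'
      have h2 : x ∈ M ⊓ M' := ⟨hx, hx'⟩
      rwa [h1] at h2
    · exact absurd (top_le_iff.1 (h1 ▸ inf_le_left)) hMt
  have hsup2 : (M ⊔ M').IsTwoSided := ⟨fun {a} b ha => by
    obtain ⟨x, hx, y, hy, rfl⟩ := Submodule.mem_sup.1 ha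
    rw [add_mul]
    exact Submodule.add_mem_sup (M.mul_mem_right _ hx) (M'.mul_mem_right _ hy)⟩
  rcases hmax' (M ⊔ M') hsup2 le_sup_left with h1 | h1
  · left
    have h2 : M = ⊥ := by
      rw [eq_bot_iff]
      intro x hx
      have h3 : star x ∈ M := h1 ▸ Submodule.mem_sup_right ((hM' _).2 (by rwa [star_star]))
      exact hinf x hx h3
    rw [isSimpleRing_iff_isTwoSided_imp]
    refine ⟨inferInstance, fun I hI => ?_⟩
    rw [← h2]
    exact hmax' I hI (h2 ▸ bot_le)
  · right
    have hnt : Nontrivial (A ⧸ M) := Ideal.Quotient.nontrivial_iff.2 hMt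
    have hs : IsSimpleRing (A ⧸ M) := by
      rw [isSimpleRing_iff_isTwoSided_imp]
      refine ⟨hnt, fun I hI => ?_⟩
      have h2 : M ≤ I.comap (Ideal.Quotient.mk M) := by
        intro x hx
        rw [Ideal.mem_comap, Ideal.Quotient.eq_zero_iff_mem.2 hx]
        exact I.zero_mem
      rcases hmax' (I.comap (Ideal.Quotient.mk M)) inferInstance h2 with h3 | h3
      · left
        rw [eq_bot_iff]
        intro y hy
        obtain ⟨x, rfl⟩ := Ideal.Quotient.mk_surjective y
        have h4 : x ∈ I.comap (Ideal.Quotient.mk M) := hy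
        rw [h3] at h4
        exact Ideal.Quotient.eq_zero_iff_mem.2 h4
      · right
        rw [eq_top_iff]
        intro y _
        obtain ⟨x, rfl⟩ := Ideal.Quotient.mk_surjective y
        have h4 : x ∈ I.comap (Ideal.Quotient.mk M) := by rw [h3]; trivial
        exact h4
    refine ⟨A ⧸ M, inferInstance, Finite.of_surjective _ Ideal.Quotient.mk_surjective, hs, Ideal.Quotient.mk M, ?_, ?_⟩
    · intro a a' haa
      have h2 : a - a' ∈ M := Ideal.Quotient.eq.1 (congrArg Prod.fst haa)
      have h3 : star a - star a' ∈ M := Ideal.Quotient.eq.1 (congrArg Prod.snd haa)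
      rw [← star_sub] at h3
      exact sub_eq_zero.1 (hinf _ h2 h3)
    · rintro ⟨x, y⟩
      obtain ⟨x, rfl⟩ := Ideal.Quotient.mk_surjective x
      obtain ⟨y, rfl⟩ := Ideal.Quotient.mk_surjective y
      have h2 : (1 : A) ∈ M ⊔ M' := by rw [h1]; trivial
      obtain ⟨m, hm, m', hm', hmm⟩ := Submodule.mem_sup.1 h2
      have h3 : Ideal.Quotient.mk M m = 0 := Ideal.Quotient.eq_zero_iff_mem.2 hm
      have h4 : Ideal.Quotient.mk M (star m') = 0 := Ideal.Quotient.eq_zero_iff_mem.2 hm'
      have h5 : Ideal.Quotient.mk M m' = 1 := by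
        rw [← map_one (Ideal.Quotient.mk M), ← hmm, map_add, h3, zero_add]
      have h6 : Ideal.Quotient.mk M (star m) = 1 := by
        rw [← map_one (Ideal.Quotient.mk M), ← star_one, ← hmm, star_add, map_add, h4, add_zero]
      refine ⟨x * m' + star y * m, Prod.ext ?_ ?_⟩
      · simp only [map_add, map_mul, h3, h5, mul_one, mul_zero, add_zero]
      · simp only [star_add, star_mul, star_star, map_add, map_mul, h4, h6, one_mul, zero_mul, zero_add]

section form

variable {K V : Type} [Field K] [AddCommGroup V] [Module K V] [FiniteDimensional K V] [Nontrivial V]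

/-- An involution of `End V` is the adjoint with respect to a sesquilinear form. -/
theorem exists_form (f : End K V → End K V) (hadd : ∀ X Y, f (X + Y) = f X + f Y)
    (hmul : ∀ X Y, f (X * Y) = f Y * f X) (hff : ∀ X, f (f X) = X) :
    ∃ (σ : K →+* K) (b : V →ₛₗ[σ] V →ₗ[K] K) (c : K), (∀ x, σ (σ x) = x) ∧ c * σ c = 1 ∧ b.SeparatingLeft ∧
      (∀ v w, σ (b w v) = c * b v w) ∧ ∀ X v w, b (X v) w = b v (f X w) := by
  let f' : Equiv.Perm (End K V) := ⟨f, f, hff, hff⟩
  obtain ⟨σ, g, hg, hX⟩ := H277.FC.stmtSNcor K V (Module.finrank_pos (R := K) (M := V)) f'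
    ⟨hadd, Or.inr hmul⟩ hmul
  have hX' : ∀ X v w, g (X v) w = g v (f X w) := hX
  have hsep : ∀ x y : V, (∀ v, g v x = g v y) → x = y := by
    intro x y h
    rw [← sub_eq_zero, ← Module.forall_dual_apply_eq_zero_iff K]
    intro φ
    obtain ⟨v, rfl⟩ := g.surjective φ
    rw [map_sub, h, sub_self]
  have hfa : ∀ a : K, f (a • (1 : End K V)) = σ a • (1 : End K V) := by
    intro a
    ext w
    refine hsep _ _ fun v => ?_
    rw [← hX']
    simp [hg]
  have hσ : ∀ a, σ (σ a) = a := by
    intro a
    apply H277.FC.smul_one_inj (V := V)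
    rw [← hfa, ← hfa, hff]
  let b : V →ₛₗ[(σ : K →+* K)] V →ₗ[K] K :=
    { toFun := g
      map_add' := fun v w => map_add g v w
      map_smul' := hg }
  -- the transposed form
  let c : V → Dual K V := fun v =>
    { toFun := fun w => σ (g w v)
      map_add' := fun w w' => by rw [map_add, LinearMap.add_apply, map_add]
      map_smul' := fun a w => by rw [hg, LinearMap.smul_apply, smul_eq_mul, map_mul, hσ]; rfl }
  have hc : ∀ v w, c v w = σ (g w v) := fun _ _ => rfl
  let T : End K V :=
    { toFun := fun v => g.symm (c v)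
      map_add' := fun v v' => by
        rw [← map_add]
        congr 1
        ext w
        rw [LinearMap.add_apply, hc, hc, hc, map_add, map_add]
      map_smul' := fun a v => by
        apply g.injective
        rw [RingHom.id_apply, hg, g.apply_symm_apply, g.apply_symm_apply]
        ext w
        rw [LinearMap.smul_apply, hc, hc, map_smul, smul_eq_mul, map_mul, smul_eq_mul] }
  have hT : ∀ v w, g (T v) w = σ (g w v) := by
    intro v w
    change g (g.symm (c v)) w = _
    rw [g.apply_symm_apply, hc]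
  obtain ⟨μ, hμ⟩ := H277.FC.exists_smul_one T fun Y => by
    ext v
    apply g.injective
    ext w
    rw [End.mul_apply, End.mul_apply, hT, hX', hT, hX', hff]
  have h1 : ∀ v w, σ (g w v) = σ μ * g v w := by
    intro v w
    rw [← hT, hμ, LinearMap.smul_apply, End.one_apply, hg, LinearMap.smul_apply, smul_eq_mul]
  refine ⟨σ, b, σ μ, hσ, ?_, ?_, h1, hX'⟩
  · obtain ⟨w, hw⟩ := exists_ne (0 : V)
    obtain ⟨φ, hφ⟩ := H277.FC.exists_dual_one (K := K) hw
    obtain ⟨v, rfl⟩ := g.surjective φ
    have h2 := h1 w v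
    have h3 := congrArg σ h2
    rw [hσ, map_mul, h1, hφ, mul_one] at h3
    change σ μ * σ (σ μ) = 1
    rw [mul_comm]
    exact h3.symm
  · intro v hv
    apply g.injective
    rw [map_zero]
    ext w
    exact hv w

end form

/-- **Models.** -/
theorem exists_model {A : Type} [Ring A] [StarRing A] [Finite A] (h : SS A) : ModL A ∨ ModU A ∨ ModB A := by
  rcases h.simple_or with hs | ⟨B, _, _, _, π, hπ⟩
  · right
    obtain ⟨K, _, _, n, hn, ⟨e⟩⟩ := exists_end_of_simple A
    have : Nonempty (Fin n) := ⟨⟨0, hn⟩⟩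
    obtain ⟨σ, b, c, hσ, hc, hsep, hb, hadj⟩ := exists_form (K := K) (V := Fin n → K)
      (fun X => e (star (e.symm X))) (fun X Y => by simp only [map_add, star_add])
      (fun X Y => by simp only [map_mul, star_mul]) (fun X => by simp)
    have hadj' : ∀ a v w, b (e a v) w = b v (e (star a) w) := fun a v w => by simpa using hadj (e a) v w
    by_cases hσ1 : σ = RingHom.id K
    · right
      subst hσ1
      refine ⟨K, inferInstance, inferInstance, n, e, b, hn, ?_, hsep, hadj'⟩
      rcases mul_self_eq_one_iff.1 hc with h1 | h1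
      · left
        intro v w
        have h2 := hb v w
        rwa [h1, one_mul] at h2
      · right
        intro v w
        have h2 := hb v w
        rwa [h1, neg_one_mul] at h2
    · left
      obtain ⟨x, hx⟩ : ∃ x, x + σ x * c ≠ 0 := by
        by_contra hcon
        push Not at hcon
        apply hσ1
        have h1 := hcon 1
        rw [map_one, one_mul] at h1
        have h2 : c = -1 := eq_neg_of_add_eq_zero_right h1
        ext x
        have h3 := hcon x
        rw [h2, mul_neg_one, add_neg_eq_zero] at h3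
        exact h3.symm
      refine ⟨K, inferInstance, inferInstance, n, e, σ, (x + σ x * c) • b, hn, hσ1, hσ, ⟨fun v w => ?_⟩, ?_, ?_⟩
      · simp only [LinearMap.smul_apply, smul_eq_mul, map_mul, map_add, hσ, hb]
        linear_combination (x * b w v) * hc
      · intro v hv
        refine hsep v fun w => ?_
        have h1 := hv w
        simp only [LinearMap.smul_apply, smul_eq_mul] at h1
        exact (mul_eq_zero.1 h1).resolve_left hx
      · intro a v w
        simp only [LinearMap.smul_apply, smul_eq_mul, hadj']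
  · left
    obtain ⟨K, _, _, n, hn, ⟨e⟩⟩ := exists_end_of_simple B
    refine ⟨K, inferInstance, inferInstance, n, (e : B →+* _).comp π, hn, ?_⟩
    exact (e.bijective.prodMap e.bijective).comp hπ

end Cfsg.Agent.DS.Cl
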