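import Cfsg.Agent.DS.Gen.Omega
import Cfsg.Agent.DS.Gen.Perm
import Cfsg.Agent.LieClassical.SympPerfect
import Cfsg.Agent.LieClassical.HermPerfect
import Cfsg.Agent.LieClassical.OrthFinite
import Cfsg.Agent.LieClassical.OrthFourCommon
import Cfsg.Agent.ClassicalGeometry.SympIso
import Cfsg.Agent.ClassicalGeometry.HermOrthonormal
import Cfsg.Agent.H174.F2Forms
import Cfsg.Agent.H324.FC.Fld
import Cfsg.Agent.S0242
import Cfsg.Agent.S0243
import Cfsg.Agent.S0245
import Cfsg.Agent.S0247
import Cfsg.Agent.S0248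
import Cfsg.Agent.S0277
import Cfsg.Agent.S0281
import Cfsg.Agent.S0287
import Cfsg.Agent.S0298
import Cfsg.Agent.S0299
import Cfsg.Agent.S0300
import Cfsg.Agent.S0305
import Cfsg.Agent.S0306
import Cfsg.Agent.S2618

/-!
# The derived series of the isometry groups of classical spaces over finite fields (helper54)

`ps_gl` : `PS 4 (GL n K)`; `ps_isom_alt` : `PS 3` for symplectic groups; `isom_herm` : `PS 4` for unitary groups, except
for `GU₃(2)` of order `648`; `ps_O` : `PS 4` for orthogonal groups, `PS 2` if `|K| ≥ 4`.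
-/

set_option autoImplicit false

namespace Cfsg.Agent.DS.Cl.Vec

open Cfsg Cfsg.Agent.H936 Cfsg.Agent.DS.Gen Matrix ArithmeticFunction
open scoped MatrixGroups

theorem ps_of_le_range {A P : Type*} [Group A] [Group P] (f : A →* P) {j k : ℕ} (h : derivedSeries P j ≤ f.range)
    (hA : PS k A) : PS (j + k) P := by
  have h1 : derivedSeries P (j + k) ≤ (derivedSeries A k).map f := by
    refine (derivedSeries_add_le h k).trans ?_
    rw [← map_derivedSeries_of_surj f.rangeRestrict_surjective, Subgroup.map_map]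
    exact le_rfl
  refine le_antisymm (derivedSeries_antitone P (Nat.le_succ _)) (h1.trans ?_)
  rw [← hA.eq (show k ≤ j + k + 1 by omega)]
  exact map_derivedSeries_le f _

theorem ps_of_perfect_le' {X : Type*} [Group X] {K Q : Subgroup X} {k : ℕ} (hQ : Q ≤ ⁅Q, Q⁆) (hQK : Q ≤ K)
    (h : (derivedSeries K k).map K.subtype ≤ Q) : PS k K := by
  have h1 : ∀ j, Q ≤ (derivedSeries K j).map K.subtype := by
    intro j
    induction j with
    | zero =>
      rw [derivedSeries_zero, ← MonoidHom.range_eq_map, Subgroup.range_subtype]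
      exact hQK
    | succ j ih =>
      rw [derivedSeries_succ, Subgroup.map_commutator]
      exact hQ.trans (Subgroup.commutator_mono ih ih)
  refine le_antisymm (derivedSeries_antitone K (Nat.le_succ _)) ?_
  rw [← Subgroup.map_le_map_iff_of_injective K.subtype_injective]
  exact h.trans (h1 _)

theorem ps_of_23 {X : Type*} [Group X] [Finite X] {k : ℕ} (a b : ℕ) (hN : Nat.card X ∣ 2 ^ a * 3 ^ b)
    (h : a + b ≤ k + k / 2) : PS k X := by
  refine ps_of_dvd hN (by positivity) ?_
  rwa [cardFactors_mul (by positivity) (by positivity), cardFactors_apply_prime_pow Nat.prime_two,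
    cardFactors_apply_prime_pow Nat.prime_three]

theorem derivedSeries_one_le_ker {P B : Type*} [Group P] [CommGroup B] (g : P →* B) : derivedSeries P 1 ≤ g.ker := by
  rw [derivedSeries_one]
  exact Abelianization.commutator_subset_ker g

theorem exists_field (p n : ℕ) (hp : p.Prime) (hn : n ≠ 0) :
    ∃ (L : Type) (_ : Field L) (_ : Fintype L), Fintype.card L = p ^ n := by
  have := Fact.mk hp
  let _ : Fintype (GaloisField p n) := Fintype.ofFinite _
  refine ⟨GaloisField p n, inferInstance, inferInstance, ?_⟩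
  rw [← Nat.card_eq_fintype_card, GaloisField.card p n hn]

variable {K : Type*} [Field K] [Fintype K]

theorem exists_sq_ne (h : 4 ≤ Fintype.card K) : ∃ a : K, a ≠ 0 ∧ a ^ 2 ≠ 1 := by
  classical
  by_contra hcon
  push Not at hcon
  have h1 : (Finset.univ : Finset K) ⊆ {0, 1, -1} := by
    intro a _
    by_cases ha : a = 0
    · simp [ha]
    · rcases sq_eq_one_iff.1 (hcon a ha) with h2 | h2 <;> simp [h2]
  have h2 := Finset.card_le_card h1
  have h3 : ({0, 1, -1} : Finset K).card ≤ 3 := Finset.card_le_three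
  rw [Finset.card_univ] at h2
  omega

theorem card_cases (K : Type*) [Field K] [Fintype K] : Fintype.card K = 2 ∨ Fintype.card K = 3 ∨ 4 ≤ Fintype.card K := by
  have : 1 < Fintype.card K := Fintype.one_lt_card
  omega

theorem ps_sl2_big (h : 4 ≤ Fintype.card K) : PS 0 SL(2, K) := by
  obtain ⟨a, ha, ha'⟩ := exists_sq_ne h
  exact ps_zero_of_commutator (SL2.commutator_eq_top ha ha')

theorem ps_psl2_big (h : 4 ≤ Fintype.card K) : PS 0 PSL(2, K) :=
  PS.of_surj (QuotientGroup.mk'_surjective _) (ps_sl2_big h)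

theorem ps_sl2 : PS 3 SL(2, K) := by
  have h0 := Cfsg.Agent.S0242.result (F := K) rfl 2 (by norm_num)
  rcases card_cases K with h | h | h
  · rw [h] at h0
    simp only [Fin.prod_univ_two] at h0
    exact ps_of_23 1 1 (by rw [show Nat.card SL(2, K) = 6 by simpa using h0]; decide) (by norm_num)
  · rw [h] at h0
    simp only [Fin.prod_univ_two] at h0
    have h1 : Nat.card SL(2, K) = 24 := by
      simp at h0
      omega
    exact ps_of_23 3 1 (by rw [h1]; decide) (by norm_num)
  · exact (ps_sl2_big h).mono (by norm_num)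

theorem ps_psl2 : PS 2 PSL(2, K) := by
  have h0 := Cfsg.Agent.S0243.result (F := K) rfl 2 (by norm_num)
  rcases card_cases K with h | h | h
  · rw [h] at h0
    simp only [Fin.prod_univ_two] at h0
    exact ps_of_23 1 1 (by rw [show Nat.card PSL(2, K) = 6 by simpa using h0]; decide) (by norm_num)
  · rw [h] at h0
    simp only [Fin.prod_univ_two] at h0
    have h1 : Nat.card PSL(2, K) = 12 := by
      simp at h0
      omega
    exact ps_of_23 2 1 (by rw [h1]; decide) (by norm_num)
  · exact (ps_psl2_big h).mono (by norm_num)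

omit [Fintype K] in
theorem matrix_comm {n : ℕ} (h : n ≤ 1) (a b : Matrix (Fin n) (Fin n) K) : a * b = b * a := by
  have : Subsingleton (Fin n) := Fin.subsingleton_iff_le_one.2 h
  ext i j
  rw [Matrix.mul_apply, Matrix.mul_apply]
  refine Finset.sum_congr rfl fun k _ => ?_
  rw [Subsingleton.elim k i, Subsingleton.elim j i, mul_comm]

theorem ps_sl (n : ℕ) : PS 3 SL(n, K) := by
  by_cases h3 : 3 ≤ n
  · exact (ps_zero_of_commutator (Cfsg.Agent.S0248.result n h3)).mono (by norm_num)
  by_cases h1 : n ≤ 1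
  · exact (ps_one_of_comm (X := SL(n, K)) fun a b => Subtype.ext (matrix_comm h1 a.1 b.1)).mono (by norm_num)
  obtain rfl : n = 2 := by omega
  exact ps_sl2

/-- general linear groups -/
theorem ps_gl (n : ℕ) : PS 4 (GL (Fin n) K) := by
  refine ps_of_le_range (j := 1) (k := 3) (SpecialLinearGroup.toGL : SL(n, K) →* GL (Fin n) K)
    ((derivedSeries_one_le_ker (GeneralLinearGroup.det : GL (Fin n) K →* Kˣ)).trans ?_) (ps_sl n)
  intro g hg
  exact ⟨⟨g, congrArg Units.val (MonoidHom.mem_ker.1 hg)⟩, Units.ext rfl⟩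

/-- symplectic groups -/
theorem ps_sp (m : ℕ) : PS 3 (symplecticGroup (Fin m) K) := by
  by_cases h : 3 ≤ m ∨ (m = 2 ∧ 3 ≤ Fintype.card K) ∨ 4 ≤ Fintype.card K
  · exact (ps_zero_of_commutator (LieClassical.SympPerfect.commutator_eq_top h)).mono (by norm_num)
  have h0 := Cfsg.Agent.S0245.result (F := K) rfl m
  have h1 : m = 0 ∨ m = 1 ∨ m = 2 := by omega
  have h2 := card_cases K
  rcases h1 with rfl | rfl | rfl
  · exact ps_of_23 0 0 (by rw [h0]; simp) (by norm_num)
  · rcases h2 with h2 | h2 | h2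
    · exact ps_of_23 1 1 (by rw [h0, h2]; simp) (by norm_num)
    · exact ps_of_23 3 1 (by rw [h0, h2]; simp) (by norm_num)
    · omega
  · obtain ⟨e⟩ := Cfsg.Agent.S0247.result (F := K) (by omega)
    exact PS.of_equiv e.symm (ps_of_sd (sd_perm_seven (by simp)))

/-- unitary groups -/
theorem ps_gu {q : ℕ} (hK : Fintype.card K = q ^ 2) (n : ℕ) (h : ¬ (n = 3 ∧ q = 2)) : PS 4 (GU n K q) := by
  have h0 : PS 3 (SU n K q) := by
    by_cases h3 : 3 ≤ n
    · exact (ps_zero_of_commutator (LieClassical.HermPerfect.commutator_SU_eq_top hK h3 h)).mono (by norm_num)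
    by_cases h1 : n ≤ 1
    · exact (ps_one_of_comm (X := SU n K q) fun a b =>
        Subtype.ext (Subtype.ext (matrix_comm h1 a.1.1 b.1.1))).mono (by norm_num)
    obtain rfl : n = 2 := by omega
    obtain ⟨p, k, hp, -, hq, hk⟩ := LieClassical.HermBasic.exists_prime_pow hK
    obtain ⟨L, _, _, hL⟩ := exists_field p k hp hk.ne'
    obtain ⟨e⟩ := Cfsg.Agent.S0281.result hK (hL.trans hq.symm)
    exact PS.of_equiv e.symm ps_sl2
  let f : SU n K q →* GU n K q :=
    ((SpecialLinearGroup.toGL : SL(n, K) →* GL (Fin n) K).comp (SU n K q).subtype).codRestrict (GU n K q) fun x => x.2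
  refine ps_of_le_range (j := 1) (k := 3) f
    ((derivedSeries_one_le_ker ((GeneralLinearGroup.det : GL (Fin n) K →* Kˣ).comp (GU n K q).subtype)).trans ?_) h0
  intro g hg
  exact ⟨⟨⟨g.1, congrArg Units.val (MonoidHom.mem_ker.1 hg)⟩, g.2⟩, Subtype.ext (Units.ext rfl)⟩

theorem card_gu32 (hK : Fintype.card K = 2 ^ 2) : Nat.card (GU 3 K 2) = 648 := by
  rw [Cfsg.Agent.S0277.result hK]
  decide

theorem ps_dihedral (n : ℕ) : PS 2 (DihedralGroup n) := by
  let f : Multiplicative (ZMod n) →* DihedralGroup n :=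
    { toFun := fun i => DihedralGroup.r i.toAdd
      map_one' := rfl
      map_mul' := fun i j => by rw [DihedralGroup.r_mul_r]; rfl }
  refine ps_of_le_range (j := 1) (k := 1) f ?_ (ps_one_of_comm mul_comm)
  rw [derivedSeries_one, commutator_def, Subgroup.commutator_le]
  rintro (a | a) - (b | b) - <;>
    simp only [commutatorElement_def, DihedralGroup.r_mul_r, DihedralGroup.r_mul_sr, DihedralGroup.sr_mul_r,
      DihedralGroup.sr_mul_sr, DihedralGroup.inv_r, DihedralGroup.inv_sr] <;> exact ⟨Multiplicative.ofAdd _, rfl⟩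

omit [Fintype K] in
theorem ps_isometryGroup {ι : Type} [Fintype ι] [DecidableEq ι] {Q : (ι → K) → K} {k : ℕ} {X Y : Type*} [Group X]
    [Group Y] (φ : isometryGroup K Q ≃* X) (ψ : POmega K Q ≃* Y) (h : PS k Y) (m : ℕ) (hm : k + 2 ≤ m) : PS m X :=
  PS.of_equiv φ ((ps_of_commutator (ps_of_center (PS.of_equiv ψ.symm h))).mono (by omega))

variable {V : Type*} [AddCommGroup V] [Module K V]

/-- the isometry group of a form in two variables -/
def Isom (K : Type*) [Field K] {V : Type*} [AddCommGroup V] [Module K V] (f : V → V → K) : Subgroup (V ≃ₗ[K] V) where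
  carrier := {g | ∀ v w, f (g v) (g w) = f v w}
  mul_mem' {a b} ha hb v w := (ha (b v) (b w)).trans (hb v w)
  one_mem' _ _ := rfl
  inv_mem' {a} ha v w := by
    have h := ha (a⁻¹ v) (a⁻¹ w)
    rw [← LinearEquiv.mul_apply, ← LinearEquiv.mul_apply, mul_inv_cancel] at h
    exact h.symm

omit [Fintype K] in
theorem mem_Isom {f : V → V → K} {g : V ≃ₗ[K] V} : g ∈ Isom K f ↔ ∀ v w, f (g v) (g w) = f v w := Iff.rfl

omit [Fintype K] in
theorem exists_equiv {ι : Type} [Fintype ι] [DecidableEq ι] (e : (ι → K) ≃ₗ[K] V) (f₀ : (ι → K) → (ι → K) → K)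
    (f : V → V → K) (hf : ∀ u v, f (e u) (e v) = f₀ u v) :
    Nonempty (preserving (Units.coeHom (Matrix ι ι K)) f₀ ≃* Isom K f) := by
  have h : (preserving (Units.coeHom (Matrix ι ι K)) f₀).map
      (LieClassical.OrthFourCommon.glEquiv e).toMonoidHom = Isom K f := by
    ext g
    constructor
    · rintro ⟨g, hg, rfl⟩ v w
      change f (e ((g : Matrix ι ι K) *ᵥ (e.symm v))) (e ((g : Matrix ι ι K) *ᵥ (e.symm w))) = f v w
      rw [hf]
      have h2 : f₀ ((g : Matrix ι ι K) *ᵥ (e.symm v)) ((g : Matrix ι ι K) *ᵥ (e.symm w)) = _ := hg (e.symm v) (e.symm w)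
      rw [h2, ← hf, LinearEquiv.apply_symm_apply, LinearEquiv.apply_symm_apply]
    · intro hg
      refine ⟨(LieClassical.OrthFourCommon.glEquiv e).symm g, ?_, (LieClassical.OrthFourCommon.glEquiv e).apply_symm_apply g⟩
      intro u v
      have h3 := fun u => LieClassical.OrthFourCommon.glEquiv_apply e ((LieClassical.OrthFourCommon.glEquiv e).symm g) (e u)
      simp only [MulEquiv.apply_symm_apply, LinearEquiv.symm_apply_apply] at h3
      change f₀ ((((LieClassical.OrthFourCommon.glEquiv e).symm g : GL ι K) : Matrix ι ι K) *ᵥ u)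
        ((((LieClassical.OrthFourCommon.glEquiv e).symm g : GL ι K) : Matrix ι ι K) *ᵥ v) = f₀ u v
      rw [← hf, ← h3, ← h3, hg (e u) (e v), hf]
  exact ⟨((LieClassical.OrthFourCommon.glEquiv e).subgroupMap _).trans (MulEquiv.subgroupCongr h)⟩

/-- the general linear group of a space -/
theorem ps_linearEquiv [FiniteDimensional K V] : PS 4 (V ≃ₗ[K] V) :=
  PS.of_equiv (LieClassical.OrthFourCommon.glEquiv (Module.finBasis K V).equivFun.symm) (ps_gl _)

/-- the isometry group of an alternating form -/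
theorem ps_isom_alt [FiniteDimensional K V] (b : LinearMap.BilinForm K V) (hb : b.IsAlt) (hs : b.SeparatingLeft) :
    PS 3 (Isom K fun v w => b v w) := by
  obtain ⟨m, l, c, -, -, -, h4⟩ := Cfsg.Agent.S0752.result b hb
  have hl : l = 0 := by
    by_contra hl
    exact c.ne_zero _ (hs _ (h4 ⟨0, Nat.pos_of_ne_zero hl⟩))
  subst hl
  have hm : Module.finrank K V = 2 * m := by
    rw [Module.finrank_eq_card_basis c]
    simp [two_mul]
  obtain ⟨e, he⟩ := ClassicalGeometry.SympIso.exists_linearEquiv_sympForm b hb hs hm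
  obtain ⟨φ⟩ := exists_equiv e (sympForm m K) (fun v w => b v w) he
  refine PS.of_equiv φ ?_
  let f : symplecticGroup (Fin m) K →* preserving (Units.coeHom (Matrix (Fin m ⊕ Fin m) (Fin m ⊕ Fin m) K)) (sympForm m K) :=
    (symplecticGroup (Fin m) K).subtype.toHomUnits.codRestrict _ fun x =>
      ClassicalGeometry.SympBasic.mem_symplecticGroup_iff.1 x.2
  refine PS.of_surj (f := f) ?_ (ps_sp m)
  intro g
  exact ⟨⟨g.1, ClassicalGeometry.SympBasic.mem_symplecticGroup_iff.2 g.2⟩, Subtype.ext (Units.ext rfl)⟩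

/-- the isometry group of a hermitian form -/
theorem isom_herm [FiniteDimensional K V] {σ : K →+* K} (hσ : σ ≠ RingHom.id K) (hσ2 : ∀ a, σ (σ a) = a)
    (b : V →ₛₗ[σ] V →ₗ[K] K) (hb : b.IsSymm) (hs : b.SeparatingLeft) :
    PS 4 (Isom K fun v w => b v w) ∨ (Fintype.card K = 4 ∧ Nat.card (Isom K fun v w => b v w) = 648) := by
  obtain ⟨q, -, hq, hσq⟩ := H324.FC.exists_q (RingEquiv.ofRingHom σ σ (RingHom.ext hσ2) (RingHom.ext hσ2)) hσ2
    (ClassicalGeometry.InvolutiveNorm.exists_sigma_ne hσ)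
  have hσq' : ∀ x, σ x = x ^ q := hσq
  rw [Nat.card_eq_fintype_card] at hq
  obtain ⟨c, hc⟩ := ClassicalGeometry.HermOrthonormal.exists_orthonormal_basis hσ hσ2 b hb hs
  obtain ⟨φ⟩ := exists_equiv c.equivFun.symm (hermForm _ K q) (fun v w => b w v) fun u v => by
    simp only [Module.Basis.equivFun_symm_apply, map_sum, LinearMap.sum_apply, LinearMap.map_smulₛₗ, map_smul,
      LinearMap.smul_apply, hc, smul_eq_mul, mul_ite, mul_one, mul_zero, Finset.sum_ite_eq', Finset.mem_univ, if_true,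
      hσq', hermForm]
  have h1 : (Isom K fun v w => b w v) = Isom K fun v w => b v w := by
    ext g
    exact ⟨fun h v w => h w v, fun h v w => h w v⟩
  have ψ : GU (Module.finrank K V) K q ≃* Isom K fun v w => b v w := φ.trans (MulEquiv.subgroupCongr h1)
  by_cases h : Module.finrank K V = 3 ∧ q = 2
  · right
    obtain ⟨h3, rfl⟩ := h
    rw [h3] at ψ
    exact ⟨hq, by rw [← Nat.card_congr ψ.toEquiv, card_gu32 hq]⟩
  · exact Or.inl (PS.of_equiv ψ (ps_gu hq _ h))

open LieClassical.OrthCore in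
omit [Fintype K] in
theorem O_equiv {ι : Type} [Fintype ι] [DecidableEq ι] (e : V ≃ₗ[K] (ι → K)) (Q₀ : (ι → K) → K)
    (Q : QuadraticForm K V) {c : K} (hc : c ≠ 0) (hQ : ∀ v, Q v = c * Q₀ (e v)) :
    Nonempty (isometryGroup K Q₀ ≃* O Q) := by
  obtain ⟨φ⟩ := LieClassical.OrthFourCommon.exists_isometryGroup_equiv e.symm Q₀ (fun v => Q₀ (e v)) fun v => by
    rw [LinearEquiv.apply_symm_apply]
  refine ⟨φ.trans (MulEquiv.subgroupCongr ?_)⟩
  ext g
  rw [mem_O, LieClassical.OrthFourCommon.mem_isom]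
  simp only [hQ, mul_right_inj' hc]

open LieClassical.OrthCore in
/-- orthogonal groups -/
theorem ps_O [FiniteDimensional K V] (Q : QuadraticForm K V) (hQ : Nondeg Q) :
    PS 4 (O Q) ∧ (4 ≤ Fintype.card K → PS 2 (O Q)) := by
  have hQ' : (QuadraticMap.polarBilin Q).Nondegenerate :=
    ⟨fun x hx => hQ x hx, fun x hx => hQ x fun y => by rw [QuadraticMap.polar_comm]; exact hx y⟩
  have han : ∀ ζ : K, (∀ t : K, t ^ 2 + t + ζ ≠ 0) → ∀ z₁ z₂ : K, z₁ ^ 2 + 1 * z₁ * z₂ + ζ * z₂ ^ 2 = 0 →
      z₁ = 0 ∧ z₂ = 0 := by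
    intro ζ hζ z₁ z₂ h
    by_cases h2 : z₂ = 0
    · rw [h2] at h
      exact ⟨by simpa using h, h2⟩
    · refine absurd ?_ (hζ (z₁ / z₂))
      field_simp
      linear_combination h
  have key : ∀ k, k ≤ 2 → PS k (O Q) → PS 4 (O Q) ∧ (4 ≤ Fintype.card K → PS 2 (O Q)) := fun k hk h =>
    ⟨h.mono (by omega), fun _ => h.mono hk⟩
  by_cases h5 : 5 ≤ Module.finrank K V
  · have hG := LieClassical.OrthFinite.good_of_finite hQ h5
    refine key 1 (by norm_num) (ps_of_perfect_le' (Q := E Q) hG.E_perfect.ge E_le_O ?_)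
    rw [derivedSeries_one, commutator_def, Subgroup.map_commutator, ← MonoidHom.range_eq_map, Subgroup.range_subtype]
    exact hG.commutator_le_E
  by_cases h1 : Module.finrank K V ≤ 1
  · refine key 1 (by norm_num) (ps_one_of_comm fun a b => Subtype.ext ?_)
    obtain ⟨v, hv⟩ := finrank_le_one_iff.1 h1
    obtain ⟨s, hs⟩ := hv (a.1 v)
    obtain ⟨t, ht⟩ := hv (b.1 v)
    ext w
    obtain ⟨c, rfl⟩ := hv w
    change a.1 (b.1 (c • v)) = b.1 (a.1 (c • v))
    simp only [map_smul, ← hs, ← ht, smul_smul]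
    rw [mul_right_comm]
  have h2 : Module.finrank K V = 2 * 1 ∨ Module.finrank K V = 2 * 1 + 1 ∨ Module.finrank K V = 2 * 2 := by omega
  rcases h2 with h2 | h2 | h2
  · rcases H174.exists_std le_rfl h2 Q hQ' with ⟨g, hg⟩ | ⟨ζ, g, hζ, hg⟩
    · obtain ⟨φ⟩ := O_equiv g _ Q one_ne_zero fun v => by rw [one_mul, hg]
      obtain ⟨ψ⟩ := Cfsg.Agent.S0305.result (F := K) rfl
      exact key 2 le_rfl (PS.of_equiv (ψ.symm.trans φ) (ps_dihedral _))
    · obtain ⟨φ⟩ := O_equiv g _ Q one_ne_zero fun v => by rw [one_mul, hg]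
      obtain ⟨ψ⟩ := Cfsg.Agent.S0306.result (F := K) rfl 1 ζ (han ζ hζ)
      exact key 2 le_rfl (PS.of_equiv (ψ.symm.trans φ) (ps_dihedral _))
  · obtain ⟨c, h3, h4, h5, h6, -⟩ := Cfsg.Agent.S2618.result h2 Q hQ'
    have hc : ∀ v, v = c.repr v (.inl ()) • c (.inl ()) + (c.repr v (.inr (.inl 0)) • c (.inr (.inl 0)) +
        c.repr v (.inr (.inr 0)) • c (.inr (.inr 0))) := by
      intro v
      conv_lhs => rw [← c.sum_repr v]
      simp only [Fintype.sum_sum_type, Fintype.sum_unique]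
      rfl
    have h7 := h6 0 0
    rw [if_pos rfl] at h7
    have h8 : (2 : K) ≠ 0 := by
      intro h9
      refine c.ne_zero (.inl ()) (hQ _ fun y => ?_)
      rw [hc y]
      simp only [QuadraticMap.polar_add_right, QuadraticMap.polar_smul_right, (h4 0).1, (h4 0).2, polar_self', h9,
        zero_mul, smul_zero, add_zero]
    have hodd : Odd (Fintype.card K) :=
      Nat.odd_iff.2 (FiniteField.odd_card_of_char_ne_two fun h => h8 (by
        have := (ringChar.spec K 2).2 (by rw [h])
        exact_mod_cast this))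
    let c' := c.unitsSMul (Sum.elim (fun _ => 1) (Sum.elim (fun _ => Units.mk0 _ h3) fun _ => 1))
    obtain ⟨φ⟩ := O_equiv c'.equivFun (quadFormOdd 1 K) Q h3 fun v => by
      conv_lhs => rw [hc v]
      simp only [Q_add, QuadraticMap.map_smul, QuadraticMap.polar_add_right, QuadraticMap.polar_smul_right,
        QuadraticMap.polar_smul_left, (h4 0).1, (h4 0).2, (h5 0).1, (h5 0).2, h7, smul_eq_mul, quadFormOdd, c',
        Module.Basis.equivFun_apply, Module.Basis.repr_unitsSMul, Fin.sum_univ_one, Sum.elim_inl, Sum.elim_inr,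
        inv_one, one_smul, Units.smul_def, Units.val_inv_eq_inv_val, Units.val_mk0]
      field_simp
      ring
    obtain ⟨ψ⟩ := Cfsg.Agent.S0298.result hodd
    exact ⟨ps_isometryGroup φ ψ ps_psl2 4 le_rfl, fun h => ps_isometryGroup φ ψ (ps_psl2_big h) 2 le_rfl⟩
  · rcases H174.exists_std (by norm_num) h2 Q hQ' with ⟨g, hg⟩ | ⟨ζ, g, hζ, hg⟩
    · obtain ⟨φ⟩ := O_equiv g _ Q one_ne_zero fun v => by rw [one_mul, hg]
      by_cases h3 : 3 ≤ Fintype.card K
      · obtain ⟨ψ⟩ := Cfsg.Agent.S0299.result h3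
        exact ⟨ps_isometryGroup φ ψ (ps_psl2.prod ps_psl2) 4 le_rfl,
          fun h => ps_isometryGroup φ ψ ((ps_psl2_big h).prod (ps_psl2_big h)) 2 le_rfl⟩
      · have h4 : Fintype.card K = 2 := by have := card_cases K; omega
        refine ⟨PS.of_equiv φ (ps_of_23 3 2 ?_ (by norm_num)), fun h => by omega⟩
        rw [Cfsg.Agent.S0287.result h4 2 (by norm_num)]
        decide
    · obtain ⟨φ⟩ := O_equiv g _ Q one_ne_zero fun v => by rw [one_mul, hg]
      obtain ⟨p, hp⟩ := CharP.exists K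
      obtain ⟨k, hpp, hk⟩ := FiniteField.card K p
      obtain ⟨L, _, _, hL⟩ := exists_field p (k * 2) hpp (mul_ne_zero k.ne_zero two_ne_zero)
      rw [pow_mul, ← hk] at hL
      obtain ⟨ψ⟩ := Cfsg.Agent.S0300.result rfl hL 1 ζ (han ζ hζ)
      have h4 : 4 ≤ Fintype.card L := by
        have : 1 < Fintype.card K := Fintype.one_lt_card
        rw [hL]
        nlinarith
      exact key 2 le_rfl (ps_isometryGroup φ ψ (ps_psl2_big h4) 2 le_rfl)

end Cfsg.Agent.DS.Cl.Vec
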