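import Cfsg.Agent.DS.Defs
import Cfsg.Agent.H936.PSSym

/-!
# Derived series of subgroups, inside the ambient group
-/

set_option autoImplicit false

namespace Cfsg.Agent.DS.Cl

open Cfsg Cfsg.Agent.H936 Cfsg.Agent.DS

variable {G H : Type*} [Group G] [Group H]

/-- the derived series of a subgroup, as subgroups of the ambient group -/
def dS (M : Subgroup G) : ℕ → Subgroup G
  | 0 => M
  | k + 1 => ⁅dS M k, dS M k⁆

theorem dS_zero (M : Subgroup G) : dS M 0 = M := rfl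

theorem dS_succ (M : Subgroup G) (k : ℕ) : dS M (k + 1) = ⁅dS M k, dS M k⁆ := rfl

theorem dS_one (M : Subgroup G) : dS M 1 = ⁅M, M⁆ := rfl

theorem dS_map (f : G →* H) (M : Subgroup G) (k : ℕ) : (dS M k).map f = dS (M.map f) k := by
  induction k with
  | zero => rfl
  | succ k ih => rw [dS_succ, dS_succ, Subgroup.map_commutator, ih]

theorem dS_top (k : ℕ) : dS (⊤ : Subgroup G) k = derivedSeries G k := by
  induction k with
  | zero => rfl
  | succ k ih => rw [dS_succ, ih, derivedSeries_succ]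

theorem map_derivedSeries_eq (M : Subgroup G) (k : ℕ) : (derivedSeries M k).map M.subtype = dS M k := by
  rw [← dS_top, dS_map, ← MonoidHom.range_eq_map, Subgroup.range_subtype]

theorem ps_iff {M : Subgroup G} {k : ℕ} : PS k M ↔ dS M (k + 1) = dS M k := by
  unfold PS
  rw [← map_derivedSeries_eq, ← map_derivedSeries_eq]
  exact (Subgroup.map_injective M.subtype_injective).eq_iff.symm

theorem ps_top {k : ℕ} : PS k (⊤ : Subgroup G) ↔ PS k G := by
  rw [ps_iff, dS_top, dS_top]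
  rfl

theorem dS_mono {M N : Subgroup G} (h : M ≤ N) (k : ℕ) : dS M k ≤ dS N k := by
  induction k with
  | zero => exact h
  | succ k ih => exact Subgroup.commutator_mono ih ih

theorem dS_add (M : Subgroup G) (a b : ℕ) : dS (dS M a) b = dS M (a + b) := by
  induction b with
  | zero => rfl
  | succ b ih => rw [dS_succ, ih, ← add_assoc, dS_succ]

theorem dS_le (M : Subgroup G) (k : ℕ) : dS M k ≤ M := by
  rw [← map_derivedSeries_eq]
  exact Subgroup.map_subtype_le _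

theorem dS_anti (M : Subgroup G) {a b : ℕ} (h : a ≤ b) : dS M b ≤ dS M a := by
  obtain ⟨c, rfl⟩ := Nat.exists_eq_add_of_le h
  rw [← dS_add]
  exact dS_le _ _

theorem ps_dS_eq {M : Subgroup G} {k m : ℕ} (h : PS k M) (hm : k ≤ m) : dS M m = dS M k := by
  rw [← map_derivedSeries_eq, ← map_derivedSeries_eq, h.eq hm]

theorem ps_map {k : ℕ} {M : Subgroup G} (f : G →* H) (h : PS k M) : PS k (M.map f) := by
  rw [ps_iff] at h ⊢
  rw [← dS_map, ← dS_map, h]

theorem ps_of_map_inj {k : ℕ} {M : Subgroup G} {f : G →* H} (hf : Function.Injective f) (h : PS k (M.map f)) :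
    PS k M := by
  rw [ps_iff] at h ⊢
  rw [← dS_map, ← dS_map] at h
  exact Subgroup.map_injective hf h

theorem ps_of_bot {k : ℕ} {M : Subgroup G} (h : dS M k = ⊥) : PS k M := by
  rw [ps_iff, dS_succ, h, Subgroup.commutator_bot_right]

theorem dS_one_eq_bot {M : Subgroup G} (h : ∀ x ∈ M, ∀ y ∈ M, x * y = y * x) : dS M 1 = ⊥ := by
  rw [dS_one, eq_bot_iff, Subgroup.commutator_le]
  intro x hx y hy
  rw [Subgroup.mem_bot, commutatorElement_eq_one_iff_mul_comm]
  exact h x hx y hy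

theorem ps_of_comm {M : Subgroup G} (h : ∀ x ∈ M, ∀ y ∈ M, x * y = y * x) : PS 1 M := ps_of_bot (dS_one_eq_bot h)

/-- `M⁽ᵃ⁾ ≤ Q ≤ M` -/
theorem ps_up {a b : ℕ} {M Q : Subgroup G} (h1 : dS M a ≤ Q) (h2 : Q ≤ M) (h : PS b Q) : PS (a + b) M := by
  rw [ps_iff]
  refine le_antisymm (dS_anti _ (Nat.le_succ _)) ?_
  rw [← dS_add M a b]
  refine (dS_mono h1 b).trans ?_
  rw [← ps_dS_eq h (show b ≤ a + b + 1 by omega)]
  exact dS_mono h2 _

/-- `P⁽ᵏ⁾ ≤ Q ≤ P` -/
theorem ps_down {k : ℕ} {P Q : Subgroup G} (h : PS k P) (h1 : dS P k ≤ Q) (h2 : Q ≤ P) : PS k Q := by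
  rw [ps_iff]
  refine le_antisymm (dS_anti _ (Nat.le_succ _)) ((dS_mono h2 k).trans ?_)
  rw [← ps_dS_eq h (show k ≤ k + (k + 1) by omega), ← dS_add]
  exact dS_mono h1 _

/-- a perfect subgroup containing `M⁽ᵏ⁾` -/
theorem ps_of_perf {k : ℕ} {M Q : Subgroup G} (hQ : Q ≤ ⁅Q, Q⁆) (h1 : dS M k ≤ Q) (h2 : Q ≤ M) : PS k M := by
  have h3 : PS 0 Q := by
    rw [ps_iff, zero_add, dS_one, dS_zero]
    exact le_antisymm (dS_le Q 1) hQ
  have h4 := ps_up h1 h2 h3
  rwa [add_zero] at h4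

/-- extensions, for a homomorphism defined on `M` -/
theorem ps_ext' {a b : ℕ} (f : G →* H) (h1 : PS a f.ker) (h2 : PS b f.range) : PS (a + b) G := by
  refine PS.of_ker (f := f.rangeRestrict) f.rangeRestrict_surjective ?_ h2
  rwa [MonoidHom.ker_rangeRestrict]

/-- extensions -/
theorem ps_ext {a b : ℕ} {M : Subgroup G} (f : G →* H) (h1 : PS a ↥(M ⊓ f.ker)) (h2 : PS b (M.map f)) :
    PS (a + b) M := by
  refine ps_ext' (f.comp M.subtype) ?_ ?_
  · refine ps_of_map_inj M.subtype_injective ?_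
    rwa [← MonoidHom.comap_ker, Subgroup.map_comap_eq, Subgroup.range_subtype]
  · rwa [MonoidHom.range_comp, Subgroup.range_subtype]

theorem ps_subgroupOf {k : ℕ} {M P : Subgroup G} (h : M ≤ P) : PS k (M.subgroupOf P) ↔ PS k M :=
  ⟨PS.of_equiv (Subgroup.subgroupOfEquivOfLe h), PS.of_equiv (Subgroup.subgroupOfEquivOfLe h).symm⟩

/-- extensions, for a homomorphism defined on a larger group -/
theorem ps_ext_le {a b : ℕ} {M P : Subgroup G} (hP : M ≤ P) (f : P →* H) (h1 : PS a ↥(M ⊓ f.ker.map P.subtype))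
    (h2 : PS b ((M.subgroupOf P).map f)) : PS (a + b) M := by
  rw [← ps_subgroupOf hP]
  refine ps_ext f ?_ h2
  refine ps_of_map_inj P.subtype_injective ?_
  rwa [Subgroup.map_inf _ _ _ P.subtype_injective, Subgroup.map_subgroupOf_eq_of_le hP]

/-- `M N = X N` with `N` solvable -/
theorem ps_sup {a b : ℕ} {M X N : Subgroup G} (hM : ∀ m ∈ M, ∀ n ∈ N, m * n * m⁻¹ ∈ N)
    (hX : ∀ m ∈ X, ∀ n ∈ N, m * n * m⁻¹ ∈ N) (h1 : ∀ m ∈ M, ∃ x ∈ X, m * x⁻¹ ∈ N) (h2 : ∀ x ∈ X, ∃ m ∈ M, m * x⁻¹ ∈ N)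
    (hN : dS N a = ⊥) (h : PS b X) : PS (a + b) M := by
  let P := Subgroup.normalizer (N : Set G)
  have key : ∀ Y : Subgroup G, (∀ m ∈ Y, ∀ n ∈ N, m * n * m⁻¹ ∈ N) → Y ≤ P := by
    intro Y hY m hm
    rw [Subgroup.mem_normalizer_iff]
    refine fun n => ⟨hY m hm n, fun hn => ?_⟩
    have h3 := hY _ (inv_mem hm) _ hn
    simpa [mul_assoc] using h3
  have hMP := key M hM
  have hXP := key X hX
  have hNP : N ≤ P := Subgroup.le_normalizer
  have hn : (N.subgroupOf P).Normal := (Subgroup.normal_subgroupOf_iff_le_normalizer hNP).2 le_rfl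
  refine ps_ext_le hMP (QuotientGroup.mk' (N.subgroupOf P)) ?_ ?_
  · rw [QuotientGroup.ker_mk', Subgroup.map_subgroupOf_eq_of_le hNP]
    exact ps_of_bot (eq_bot_iff.2 (hN ▸ dS_mono inf_le_right a))
  · have h3 : (M.subgroupOf P).map (QuotientGroup.mk' (N.subgroupOf P)) =
        (X.subgroupOf P).map (QuotientGroup.mk' (N.subgroupOf P)) := by
      apply le_antisymm
      · rintro _ ⟨⟨m, hmP⟩, hm, rfl⟩
        obtain ⟨x, hx, hmx⟩ := h1 m hm
        refine ⟨⟨x, hXP hx⟩, hx, ?_⟩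
        rw [QuotientGroup.mk'_apply, QuotientGroup.mk'_apply, eq_comm, QuotientGroup.eq_iff_div_mem, div_eq_mul_inv]
        exact hmx
      · rintro _ ⟨⟨x, hxP⟩, hx, rfl⟩
        obtain ⟨m, hm, hmx⟩ := h2 x hx
        refine ⟨⟨m, hMP hm⟩, hm, ?_⟩
        rw [QuotientGroup.mk'_apply, QuotientGroup.mk'_apply, QuotientGroup.eq_iff_div_mem, div_eq_mul_inv]
        exact hmx
    rw [h3]
    exact ps_map _ ((ps_subgroupOf hXP).2 h)

theorem dS_pi_le {ι : Type*} {Γ : ι → Type*} [∀ i, Group (Γ i)] (P : ∀ i, Subgroup (Γ i)) (k : ℕ) :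
    dS (Subgroup.pi Set.univ P) k ≤ Subgroup.pi Set.univ fun i => dS (P i) k := by
  induction k with
  | zero => exact le_rfl
  | succ k ih => exact (Subgroup.commutator_mono ih ih).trans (Subgroup.commutator_pi_pi_le _ _)

theorem dS_pi {ι : Type*} [Finite ι] {Γ : ι → Type*} [∀ i, Group (Γ i)] (P : ∀ i, Subgroup (Γ i)) (k : ℕ) :
    dS (Subgroup.pi Set.univ P) k = Subgroup.pi Set.univ fun i => dS (P i) k := by
  induction k with
  | zero => rfl
  | succ k ih => rw [dS_succ, ih, Subgroup.commutator_pi_pi_of_finite]; rfl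

theorem ps_pi {k : ℕ} {ι : Type*} [Finite ι] {Γ : ι → Type*} [∀ i, Group (Γ i)] {P : ∀ i, Subgroup (Γ i)}
    (h : ∀ i, PS k (P i)) : PS k (Subgroup.pi Set.univ P) := by
  rw [ps_iff, dS_pi, dS_pi]
  congr 1
  funext i
  exact ps_iff.1 (h i)

theorem perfect_of_simple {S : Subgroup G} (h1 : IsSimpleGroup S) (h2 : ¬ IsMulCommutative S) : S ≤ ⁅S, S⁆ := by
  have h3 : derivedSeries S 1 = ⊤ := by
    rcases (derivedSeries_normal S 1).eq_bot_or_eq_top with h | h
    · exfalso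
      apply h2
      rw [derivedSeries_one, commutator_eq_bot_iff_center_eq_top] at h
      exact ⟨⟨fun a b => (Subgroup.mem_center_iff.1 (h ▸ Subgroup.mem_top b) a)⟩⟩
    · exact h
  rw [← dS_one, ← map_derivedSeries_eq, h3, ← MonoidHom.range_eq_map, Subgroup.range_subtype]

/-- a subgroup normalized by a simple group `S` contains `S` or meets it trivially -/
theorem inf_eq_bot_of_simple {S K : Subgroup G} (h1 : IsSimpleGroup S) (hK : ∀ s ∈ S, ∀ k ∈ K, s * k * s⁻¹ ∈ K)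
    (h2 : ¬ S ≤ K) : ∀ x ∈ S, x ∈ K → x = 1 := by
  have hn : (K.subgroupOf S).Normal := ⟨fun k hk s => hK s s.2 k hk⟩
  rcases hn.eq_bot_or_eq_top with h | h
  · intro x hx hxK
    have h3 : (⟨x, hx⟩ : S) ∈ K.subgroupOf S := hxK
    rw [h, Subgroup.mem_bot] at h3
    exact congrArg Subtype.val h3
  · exact absurd (Subgroup.subgroupOf_eq_top.1 h) h2

/-- a homomorphism from a perfect group to a solvable group -/
theorem map_eq_one_of_perfect {S : Subgroup G} (hS : S ≤ ⁅S, S⁆) {P : Subgroup G} (hP : S ≤ P) (f : P →* H) {k : ℕ}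
    (hk : dS f.range k = ⊥) : ∀ s : P, (s : G) ∈ S → f s = 1 := by
  have h1 : ∀ j, S ≤ dS S j := by
    intro j
    induction j with
    | zero => exact le_rfl
    | succ j ih => exact hS.trans (Subgroup.commutator_mono ih ih)
  intro s hs
  have h2 : (s : G) ∈ dS P k := dS_mono hP k (h1 k hs)
  rw [← map_derivedSeries_eq] at h2
  obtain ⟨t, ht, hts⟩ := h2
  have h3 : t = s := Subtype.ext hts
  subst h3
  have h4 : f t ∈ dS f.range k := by
    rw [MonoidHom.range_eq_map, ← dS_map, dS_top]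
    exact ⟨t, ht, rfl⟩
  rwa [hk, Subgroup.mem_bot] at h4

end Cfsg.Agent.DS.Cl
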