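import Cfsg.Agent.DS.Cl.P5
import Cfsg.Agent.DS.Cl.TV

/-!
# S5881, classical groups: stabilizers of non-singular points in characteristic two (`BoxNS`, helper12)
-/

set_option autoImplicit false

namespace Cfsg.Agent.DS.Cl.Fwd

open Cfsg Cfsg.Agent.H936 Cfsg.Agent.DS Cfsg.Agent.DS.Cl Module QuadraticMap Cfsg.Agent.LieClassical.OrthCore

theorem exists_mul_self {K : Type} [Field K] [Finite K] (h2 : (2 : K) = 0) (c : K) : ∃ a, c = a * a :=
  FiniteField.isSquare_of_char_two ((Nat.prime_dvd_prime_iff_eq (CharP.char_is_prime K _) Nat.prime_two).1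
    ((ringChar.spec K 2).1 (by exact_mod_cast h2))) c

/-- the stabilizer of a non-singular vector in characteristic two -/
theorem ps_stab {K V : Type} [Field K] [Fintype K] [AddCommGroup V] [Module K V] [FiniteDimensional K V]
    (h2 : (2 : K) = 0) (Q : QuadraticForm K V) (hQ : Nondeg Q) {w : V} (hw : Q w ≠ 0) :
    PS 4 ↥(O Q ⊓ MulAction.stabilizer (V ≃ₗ[K] V) w) := by
  have ha : ∀ v, polar Q v v = 0 := fun v => by rw [polar_self', h2, zero_mul]
  obtain ⟨u, hu⟩ : ∃ u, polar Q w u = 1 := by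
    obtain ⟨y, hy⟩ : ∃ y, polar Q w y ≠ 0 := by
      by_contra H
      push Not at H
      exact hw (by rw [hQ w H, map_zero])
    exact ⟨(polar Q w y)⁻¹ • y, by rw [polar_smul_right, smul_eq_mul, inv_mul_cancel₀ hy]⟩
  have hu' : polar Q u w = 1 := by rw [polar_comm, hu]
  let U : Submodule K V := LinearMap.ker (polarBilin Q w) ⊓ LinearMap.ker (polarBilin Q u)
  have hU : ∀ x, x ∈ U ↔ polar Q w x = 0 ∧ polar Q u x = 0 := fun _ => Iff.rfl
  have hUw : ∀ x : U, polar Q w x = 0 := fun x => x.2.1
  have hUu : ∀ x : U, polar Q u x = 0 := fun x => x.2.2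
  let p : V →ₗ[K] U := LinearMap.codRestrict U
    (LinearMap.id - (polarBilin Q u).smulRight w - (polarBilin Q w).smulRight u) fun y => by
      change y - polar Q u y • w - polar Q w y • u ∈ U
      rw [hU]
      simp only [polar_sub_right, polar_smul_right, smul_eq_mul, ha, hu, hu']
      constructor <;> ring
  have hp : ∀ y, (p y : V) = y - polar Q u y • w - polar Q w y • u := fun _ => rfl
  have hpU : ∀ x : U, p x = x := fun x => Subtype.ext (by
    rw [hp, hUw, hUu, zero_smul, zero_smul, sub_zero, sub_zero])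
  have hpw : p w = 0 := Subtype.ext (by
    rw [hp, hu', ha, one_smul, zero_smul, sub_zero, sub_self]
    rfl)
  set G := O Q ⊓ MulAction.stabilizer (V ≃ₗ[K] V) w with hG
  have hgw : ∀ g : G, g.1 w = w := fun g => g.2.2
  have hgx : ∀ (g : G) (x : U), polar Q w (g.1 x) = 0 := fun g x => by
    rw [← hgw g, polar_map g.2.1]
    exact x.2.1
  have hpg : ∀ (g : G) (x : U), (p (g.1 x) : V) = g.1 x - polar Q u (g.1 x) • w := fun g x => by
    rw [hp, hgx, zero_smul, sub_zero]
  let π₀ : G →* End K U :=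
    { toFun := fun g => p ∘ₗ g.1.toLinearMap ∘ₗ U.subtype
      map_one' := LinearMap.ext fun x => hpU x
      map_mul' := fun g g' => LinearMap.ext fun x => by
        change p (g.1 (g'.1 x)) = p (g.1 (p (g'.1 x)))
        rw [hpg, map_sub, map_smul, hgw, map_sub, map_smul, hpw, smul_zero, sub_zero] }
  let π : G →* (U ≃ₗ[K] U) := (LinearMap.GeneralLinearGroup.generalLinearEquiv K U).toMonoidHom.comp π₀.toHomUnits
  have hπ : ∀ (g : G) (x : U), π g x = p (g.1 x) := fun _ _ => rfl
  let b : LinearMap.BilinForm K U := LinearMap.BilinForm.restrict (polarBilin Q) U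
  have hb : ∀ x y : U, b x y = polar Q x y := fun _ _ => rfl
  have hba : ∀ x, b x x = 0 := fun x => ha x
  have hbs : b.SeparatingLeft := fun x hx => Subtype.ext (hQ _ fun y => by
    have h1 : y = p y + polar Q u y • w + polar Q w y • u := by rw [hp]; abel
    rw [h1, polar_add_right, polar_add_right, polar_smul_right, polar_smul_right, polar_comm Q x w, polar_comm Q x u,
      hUw, hUu, smul_zero, smul_zero, add_zero, add_zero]
    exact hx (p y))
  refine ps_ext' (a := 1) (b := 3) π ?_ ?_
  · have h1 : ∀ g : π.ker, ∀ x : U, g.1.1 x = x := fun g x => by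
      have h3 := hpg g.1 x
      rw [← hπ, MonoidHom.mem_ker.1 g.2] at h3
      have h4 : g.1.1 x = x + polar Q u (g.1.1 x) • w := (sub_eq_iff_eq_add.1 h3.symm)
      have h5 := g.1.2.1 x
      rw [h4, Q_add, QuadraticMap.map_smul, polar_smul_right, polar_comm Q x w, hUw, smul_zero, add_zero,
        add_eq_left, smul_eq_mul, mul_eq_zero, mul_self_eq_zero] at h5
      rw [h4, h5.resolve_right hw, zero_smul, add_zero]
    have h3 : ∀ g : π.ker, g.1.1 u = u + polar Q u (g.1.1 u) • w := fun g => by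
      have h4 : polar Q w (g.1.1 u) = 1 := by rw [← hgw g.1, polar_map g.1.2.1, hu]
      have h5 : p (g.1.1 u) = 0 := hbs _ fun x => by
        rw [hb, hp, polar_sub_left, polar_sub_left, polar_smul_left, polar_smul_left, hUw, hUu, ← h1 g x,
          polar_map g.1.2.1, hUu, smul_zero, smul_zero, sub_zero, sub_zero]
      have h6 := hp (g.1.1 u)
      rw [h5, h4, one_smul, sub_sub, eq_comm, Submodule.coe_zero, sub_eq_zero, add_comm] at h6
      exact h6
    refine Gen.ps_one_of_comm fun g g' => Subtype.ext (Subtype.ext (LinearEquiv.ext fun y => ?_))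
    have h4 : y = p y + polar Q u y • w + polar Q w y • u := by rw [hp]; abel
    change g.1.1 (g'.1.1 y) = g'.1.1 (g.1.1 y)
    rw [h4]
    simp only [map_add, map_smul, h1, hgw]
    congr 2
    rw [h3 g', map_add, map_smul, hgw, h3 g, map_add, map_smul, hgw, h3 g']
    simp only [polar_add_right, polar_smul_right, ha, hu', smul_eq_mul, mul_one, zero_add]
    abel
  · have h1 : π.range = Vec.Isom K fun x y => b x y := by
      apply le_antisymm
      · rintro _ ⟨g, rfl⟩ x y
        change b (π g x) (π g y) = b x y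
        rw [hb, hb, hπ, hπ, hpg, hpg, polar_sub_left, polar_sub_right, polar_sub_right, polar_smul_left,
          polar_smul_right, polar_smul_left, polar_smul_right, hgx, polar_comm Q _ w, hgx, ha, polar_map g.2.1]
        simp
      · intro f hf
        refine NCTV.tv_induction hba hbs (fun φ => ∀ f : U ≃ₗ[K] U, f.toLinearMap = φ → f ∈ π.range) ?_ ?_ f hf f rfl
        · intro f hf
          rw [show f = 1 from LinearEquiv.toLinearMap_injective hf]
          exact one_mem _
        · intro c d φ hc hd hP f hf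
          obtain ⟨t, ht⟩ := exists_mul_self h2 ((c⁻¹ - Q d) / Q w)
          have h3 : Q (d + t • w) = c⁻¹ := by
            rw [Q_add, QuadraticMap.map_smul, polar_smul_right, polar_comm Q d w, hUw, smul_zero, add_zero, ← ht,
              smul_eq_mul, div_mul_cancel₀ _ hw, add_sub_cancel]
          have h4 : Q (d + t • w) ≠ 0 := by rw [h3]; exact inv_ne_zero hc
          let r : G := ⟨refl Q _ h4, refl_mem_O h4, by
            change refl Q _ h4 w = w
            rw [refl_apply, polar_add_left, polar_smul_left, polar_comm Q d w, hUw, ha, smul_zero, add_zero, mul_zero,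
              zero_smul, sub_zero]⟩
          have h5 : (π r).toLinearMap = 1 + NCTV.rk (σ := RingHom.id K) b c d := LinearMap.ext fun x => by
            change p (refl Q _ h4 x) = _
            rw [NCTV.tv_apply, refl_apply, h3, inv_inv, polar_add_left, polar_smul_left, hUw, smul_zero, add_zero,
              map_sub, map_smul, map_add, map_smul, hpw, smul_zero, add_zero, hpU, hpU, hb, sub_eq_add_neg,
              ← neg_smul]
            congr 2
            linear_combination (-(c * polar Q d x)) * h2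
          have h6 := hP (π r * f) (by rw [← h5, ← hf]; rfl)
          exact (Subgroup.mul_mem_cancel_left π.range ⟨r, rfl⟩).1 h6
    rw [h1]
    exact Vec.ps_isom_alt b hba hbs

theorem boxNS : BoxNS := by
  intro A _ _ _ F M hc R hR0 hRM hiso hns
  have hA := hc.ss
  have := hA.nontrivial
  have hL : F.L ≠ Lmax A := fun hL => hR0 (eq_bot_iff.2 fun x hx => hns x hx (by
    rw [hL]
    change star (x * F.l * star x) = -(x * F.l * star x)
    rw [star_mul, star_mul, star_star, ← mul_assoc, eq_neg_iff_add_eq_zero, ← add_mul, ← mul_add, add_comm, F.l_add,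
      mul_one, hiso x hx x hx]))
  have hcen : ∀ c ∈ Subring.center A, c + star c ≠ 1 := fun c hc h1 => hL (F.L_eq hc h1)
  have hε : ¬ ∃ ε : A, Eps ε := fun ⟨ε, hε⟩ => hcen ε hε.cen hε.add
  have hmin : F.L = Lmin A := F.par.resolve_right hL
  rcases exists_model hA with hM | hM | hM
  · obtain ⟨K, _, _, n, π, -, hπ⟩ := hM
    obtain ⟨c, h1, h2, -, -⟩ := NCTV.eps_L π hπ
    exact absurd h2 (hcen c h1)
  · obtain ⟨K, _, _, n, e, σ, b, hn, hσ, hσ2, hb, hs, hadj⟩ := hM
    have hr : ∀ x, (∀ v, b v x = 0) → x = 0 := fun x hx => hs x fun v => by rw [← hb.eq, hx, map_zero]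
    obtain ⟨c, h1⟩ := ClassicalGeometry.InvolutiveNorm.exists_add_sigma_eq hσ hσ2 (map_one σ)
    refine absurd ?_ (hcen _ (P5.cen_smul e c))
    rw [P5.star_smul_one hr hadj, ← map_add, ← add_smul, h1, one_smul, map_one]
  obtain ⟨K, _, _, n, e, b, hn, hb, hs, hadj⟩ := hM
  have hr : ∀ x, (∀ v, b v x = 0) → x = 0 := fun x hx => hs x fun v => by
    rcases hb with hb | hb
    · rw [hb, hx]
    · rw [hb, hx, neg_zero]
  have h2 : (2 : K) = 0 := by
    by_contra h2
    refine hcen _ (P5.cen_smul e (2 : K)⁻¹) ?_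
    rw [P5.star_smul_one hr hadj, RingHom.id_apply, ← map_add, ← add_smul, ← two_mul, mul_inv_cancel₀ h2, one_smul,
      map_one]
  have hb' : ∀ v w, b w v = b v w := by
    rcases hb with hb | hb
    · exact hb
    · intro v w
      linear_combination hb v w - b v w * h2
  let Q : QuadraticForm K (Fin n → K) := LinearMap.BilinMap.toQuadraticMap (b.compl₂ (e F.l))
  have hQ : ∀ v, Q v = b v (e F.l v) := fun _ => rfl
  have hpol : ∀ v w, polar Q v w = b v w := by
    intro v w
    rw [LinearMap.BilinMap.polar_toQuadraticMap, LinearMap.compl₂_apply, LinearMap.compl₂_apply, hb' (e F.l v), hadj,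
      ← map_add, ← LinearMap.add_apply, ← map_add, F.l_add, map_one, End.one_apply]
  have hL' : ∀ x, x ∈ F.L ↔ ∀ v, b v (e x v) = 0 := by
    intro x
    rw [hmin]
    constructor
    · rintro ⟨a, rfl⟩ v
      rw [map_sub, LinearMap.sub_apply, map_sub, ← hadj, hb', sub_self]
    · intro hx
      obtain ⟨β, hβ⟩ := exists_half (b.compl₂ (e x)) hx
      have hnd : b.Nondegenerate := ⟨hs, hr⟩
      obtain ⟨a, ha⟩ := e.surjective ((b.toDual hnd).symm.toLinearMap.comp β.flip)
      have ha' : ∀ v w, b (e a w) v = β v w := fun v w => by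
        rw [ha]
        exact LinearMap.BilinForm.apply_toDual_symm_apply (hB := hnd) (β.flip w) v
      refine ⟨a, e.injective (LinearMap.ext fun w => ?_)⟩
      rw [← sub_eq_zero]
      refine hr _ fun v => ?_
      rw [map_sub, map_sub, LinearMap.sub_apply, map_sub, ← hadj, ha', hb' (e a w), ha', hβ, LinearMap.compl₂_apply,
        sub_self]
  have hQu : ∀ (x : A) v, b v (e (x * F.l * star x) v) = Q (e (star x) v) := by
    intro x v
    rw [hQ, hadj, star_star, map_mul, map_mul]
    rfl
  have hIso : ∀ u : Aˣ, u ∈ F.Iso ↔ P5.toLE e u ∈ O Q := fun u => by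
    rw [mem_O]
    constructor
    · intro hu v
      have h1 := (hL' _).1 hu.2 (e u v)
      rw [map_sub, LinearMap.sub_apply, map_sub, hQu, ← hQ, ← End.mul_apply, ← map_mul, FR.Iso.sm hu, map_one,
        End.one_apply, sub_eq_zero] at h1
      exact h1.symm
    · intro hu
      have h1 : (u : A) * star (u : A) = 1 := (P5.unitary_iff hr hadj u).2 fun v w =>
        (hpol _ _).symm.trans ((polar_map hu v w).trans (hpol v w))
      refine ⟨h1, (hL' _).2 fun v => ?_⟩
      rw [map_sub, LinearMap.sub_apply, map_sub, hQu, ← hQ, ← hu, P5.toLE_apply, ← End.mul_apply, ← map_mul, h1,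
        map_one, End.one_apply, sub_self]
  -- the non-singular vector
  obtain ⟨x₀, hx₀, hx₀'⟩ := Submodule.exists_mem_ne_zero_of_ne_bot hR0
  obtain ⟨v₀, hw⟩ : ∃ v₀, Q (e (star x₀) v₀) ≠ 0 := by
    by_contra H
    push Not at H
    exact hx₀' (hns x₀ hx₀ ((hL' _).2 fun v => by rw [hQu, H]))
  set w := e (star x₀) v₀ with hw0
  have hmem : ∀ x ∈ R, ∀ c : End K (Fin n → K), star (e.symm c) * x ∈ R := fun x hx c => R.mul_mem_left _ hx
  have hst : ∀ (x : A) (c : End K (Fin n → K)) v, e (star (star (e.symm c) * x)) v = e (star x) (c v) := fun x c v => by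
    rw [star_mul, star_star, map_mul, e.apply_symm_apply, End.mul_apply]
  have hR : ∀ x, x ∈ R ↔ ∀ v, ∃ t : K, e (star x) v = t • w := fun x => by
    have hw1 : w ≠ 0 := fun h0 => hw (by rw [h0, map_zero])
    obtain ⟨φ, hφ⟩ := Module.Projective.exists_dual_eq_one K hw1
    constructor
    · intro hx v
      obtain ⟨t, ht⟩ := exists_mul_self h2 (Q (e (star x) v) / Q w)
      have h1 : Q (e (star x) v - t • w) = 0 := by
        have h3 : polar Q (e (star x) v) w = 0 := by
          rw [hpol, hadj, star_star, hw0, ← End.mul_apply, ← map_mul, hiso x hx x₀ hx₀, map_zero, LinearMap.zero_apply,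
            map_zero]
        rw [sub_eq_add_neg, ← neg_smul, Q_add, QuadraticMap.map_smul, polar_smul_right, h3, smul_zero, add_zero,
          neg_mul_neg, ← ht, smul_eq_mul, div_mul_cancel₀ _ hw, ← two_mul, h2, zero_mul]
      have h3 : ∀ z, e (star (star (e.symm (φ.smulRight v)) * x - star (e.symm (φ.smulRight (t • v₀))) * x₀)) z =
          φ z • (e (star x) v - t • w) := fun z => by
        rw [star_sub, map_sub, LinearMap.sub_apply, hst, hst, LinearMap.smulRight_apply, LinearMap.smulRight_apply,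
          map_smul, map_smul, map_smul, smul_sub]
      have h4 := hns _ (R.sub_mem (hmem x hx (φ.smulRight v)) (hmem x₀ hx₀ (φ.smulRight (t • v₀))))
        ((hL' _).2 fun z => by rw [hQu, h3, QuadraticMap.map_smul, h1, smul_zero])
      have h5 := h3 w
      rw [h4, star_zero, map_zero, LinearMap.zero_apply, hφ, one_smul, eq_comm, sub_eq_zero] at h5
      exact ⟨t, h5⟩
    · intro hx
      have h1 : x = star (e.symm ((φ ∘ₗ e (star x)).smulRight v₀)) * x₀ := by
        apply star_injective
        apply e.injective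
        refine LinearMap.ext fun v => ?_
        obtain ⟨t, ht⟩ := hx v
        rw [hst, LinearMap.smulRight_apply, map_smul, LinearMap.comp_apply, ht, map_smul, hφ, smul_eq_mul, mul_one]
      rw [h1]
      exact hmem x₀ hx₀ _
  let P : Subgroup (RingAut A) :=
    { carrier := {γ | γ ∈ F.Aut ∧ ∀ x, x ∈ R ↔ γ x ∈ R}
      mul_mem' := fun {γ δ} hγ hδ => ⟨mul_mem hγ.1 hδ.1, fun x => (hδ.2 x).trans (hγ.2 _)⟩
      one_mem' := ⟨one_mem _, fun _ => Iff.rfl⟩
      inv_mem' := fun {γ} hγ => ⟨inv_mem hγ.1, fun x => by rw [hγ.2 (γ⁻¹ x), ra_apply_inv]⟩ }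
  have hMP : M = P := by
    refine hc.eq_of_le (fun γ hγ => ⟨hc.le hγ, fun x => ⟨hRM γ hγ x, fun hx => ?_⟩⟩) (fun γ hγ => hγ.1) fun hS => ?_
    · have h1 := hRM _ (inv_mem hγ) _ hx
      rwa [ra_inv_apply] at h1
    · rcases hA.two_of_not_eps hε (FR.two_of_S hc.span (R := R) fun γ hγ x hx => ((hS hγ).2 x).1 hx) with h1 | h1
      · exact hR0 h1
      · have h3 := hiso 1 (h1 ▸ trivial) 1 (h1 ▸ trivial)
        rw [star_one, one_mul] at h3
        exact one_ne_zero h3
  let I : Subgroup Aˣ := (O Q ⊓ MulAction.stabilizer _ w).comap (P5.toLE e).toMonoidHom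
  obtain ⟨ψ⟩ := P5.equiv_of e (U := I) (X := O Q ⊓ MulAction.stabilizer _ w) fun _ => Iff.rfl
  have h4 : PS 4 (I.map (cj A)) :=
    ps_map _ (PS.of_equiv ψ (ps_stab h2 Q (fun x hx => hs x fun y => by rw [← hpol, hx]) hw))
  have hcj : ∀ u ∈ F.Iso, ∀ x v, e (star (cj A u x)) v = e u (e (star x) (e (star (u : A)) v)) := fun u hu x v => by
    rw [FR.Iso.cj_apply hu, star_mul, star_mul, star_star, map_mul, map_mul]
    rfl
  refine (ps_up (a := 2) (b := 4) (fun γ hγ => ?_) ?_ h4).mono (by norm_num)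
  · obtain ⟨u, hu, rfl⟩ := FR.dS_two_le hA (dS_mono hc.le 2 hγ)
    refine ⟨u, ⟨(hIso u).1 hu, ?_⟩, rfl⟩
    obtain ⟨t, ht⟩ := (hR _).1 (hRM _ (dS_le M 2 hγ) x₀ hx₀) (e u v₀)
    rw [hcj u hu, ← End.mul_apply (e (star (u : A))), ← map_mul, FR.Iso.sm hu, map_one, End.one_apply] at ht
    have h5 : Q (t • w) = Q w := by
      rw [← ht]
      exact (hIso u).1 hu w
    rw [QuadraticMap.map_smul, smul_eq_mul, mul_eq_right₀ hw] at h5
    have h6 : t = 1 := by
      have h7 : (t - 1) ^ 2 = 0 := by linear_combination h5 + (1 - t) * h2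
      exact sub_eq_zero.1 (pow_eq_zero_iff two_ne_zero |>.1 h7)
    change e u w = w
    rw [ht, h6, one_smul]
  · have h5 : ∀ u ∈ I, ∀ x ∈ R, cj A u x ∈ R := fun u hu x hx => (hR _).2 fun v => by
      obtain ⟨t, ht⟩ := (hR x).1 hx (e (star (u : A)) v)
      have h6 : e u w = w := hu.2
      exact ⟨t, by rw [hcj u ((hIso u).2 hu.1), ht, map_smul, h6]⟩
    rintro _ ⟨u, hu, rfl⟩
    rw [hMP]
    refine ⟨FR.cj_mem_Aut ((hIso u).2 hu.1), fun x => ⟨h5 u hu x, fun hx => ?_⟩⟩
    have h6 := h5 _ (inv_mem hu) _ hx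
    rwa [map_inv, ra_inv_apply] at h6

end Cfsg.Agent.DS.Cl.Fwd
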