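import Cfsg.Agent.DS.Cl.Grp

/-!
# Groups permuting a finite set
-/

set_option autoImplicit false

namespace Cfsg.Agent.DS.Cl

open Cfsg Cfsg.Agent.H936 Cfsg.Agent.DS Equiv

/-- a group of permutations containing all transpositions inside its orbits -/
theorem ps_of_swap {α : Type} [Finite α] [DecidableEq α] (H : Subgroup (Perm α))
    (h : ∀ σ ∈ H, ∀ x, swap x (σ x) ∈ H) : PS 3 H := by
  classical
  have := Fintype.ofFinite α
  let f : α → MulAction.orbitRel.Quotient H α := Quotient.mk''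
  have hf : ∀ x y, f x = f y ↔ ∃ σ ∈ H, σ y = x := by
    intro x y
    rw [Quotient.eq'', MulAction.orbitRel_apply]
    exact ⟨fun ⟨σ, hσ⟩ => ⟨σ, σ.2, hσ⟩, fun ⟨σ, hσ, e⟩ => ⟨⟨σ, hσ⟩, e⟩⟩
  have h1 : ∀ n, ∀ σ : Perm α, σ.support.card = n → (∀ x, f (σ x) = f x) → σ ∈ H := by
    intro n
    induction n using Nat.strong_induction_on with
    | _ n ih =>
      intro σ hn hσ
      by_cases h0 : σ = 1
      · rw [h0]; exact H.one_mem
      obtain ⟨x, hx⟩ : ∃ x, σ x ≠ x := by
        by_contra hcon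
        push Not at hcon
        exact h0 (Equiv.ext hcon)
      obtain ⟨τ, hτ, e⟩ := (hf _ _).1 (hσ x)
      have h2 : swap x (σ x) ∈ H := e ▸ h τ hτ x
      have h3 := ih _ (hn ▸ Perm.card_support_swap_mul hx) _ rfl fun y => by
        rw [Perm.mul_apply, ← hσ y]
        exact (hf _ _).2 ⟨_, h2, rfl⟩
      have h4 := H.mul_mem h2 h3
      rwa [← mul_assoc, swap_mul_self, one_mul] at h4
  let ψ : (∀ c, Perm {a // f a = c}) →* Perm α :=
    (Equiv.sigmaFiberEquiv f).permCongrHom.toMonoidHom.comp (Perm.sigmaCongrRightHom fun c => {a // f a = c})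
  have hψ : ∀ g a, ψ g a = (g (f a) ⟨a, rfl⟩).1 := fun _ _ => rfl
  have h5 : ψ.range = H := by
    apply le_antisymm
    · rintro _ ⟨g, rfl⟩
      exact h1 _ _ rfl fun x => by rw [hψ]; exact (g (f x) ⟨x, rfl⟩).2
    · intro σ hσ
      have h6 : ∀ x, f (σ x) = f x := fun x => (hf _ _).2 ⟨σ, hσ, rfl⟩
      exact ⟨fun c => σ.subtypePerm fun x => by rw [h6], Equiv.ext fun a => rfl⟩
  rw [← h5]
  exact (PS.pi fun c => ps_perm _).range ψ

variable {G X : Type} [Group G] [MulAction G X]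

/-- the stabilizer of a set -/
def setStab (G : Type) {X : Type} [Group G] [MulAction G X] (s : Set X) : Subgroup G where
  carrier := {g | ∀ x, x ∈ s ↔ g • x ∈ s}
  mul_mem' := fun {g k} hg hk x => by rw [mul_smul]; exact (hk x).trans (hg _)
  one_mem' := fun x => by rw [one_smul]
  inv_mem' := fun {g} hg x => by rw [hg (g⁻¹ • x), smul_inv_smul]

/-- the pointwise stabilizer of a set -/
def ptStab (G : Type) {X : Type} [Group G] [MulAction G X] (s : Set X) : Subgroup G where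
  carrier := {g | ∀ x ∈ s, g • x = x}
  mul_mem' := fun {g k} hg hk x hx => by rw [mul_smul, hk x hx, hg x hx]
  one_mem' := fun x _ => one_smul G x
  inv_mem' := fun {g} hg x hx => by rw [inv_smul_eq_iff, hg x hx]

theorem le_setStab {P : Subgroup G} {s : Set X} (h : ∀ g ∈ P, ∀ x ∈ s, g • x ∈ s) : P ≤ setStab G s := fun g hg x =>
  ⟨h g hg x, fun hx => by
    have h1 := h _ (inv_mem hg) _ hx
    rwa [inv_smul_smul] at h1⟩

theorem conj_mem_ptStab {s : Set X} {g k : G} (hg : g ∈ setStab G s) (hk : k ∈ ptStab G s) :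
    g * k * g⁻¹ ∈ ptStab G s := fun x hx => by
  rw [mul_smul, mul_smul, hk _ (((inv_mem hg) x).1 hx), smul_inv_smul]

/-- the permutation action on an invariant set -/
def permOn (P : Subgroup G) (s : Set X) (h : P ≤ setStab G s) : P →* Perm s where
  toFun g := Perm.subtypePerm (MulAction.toPerm g.1) fun x => (h g.2 x).symm
  map_one' := Equiv.ext fun x => Subtype.ext (one_smul G x.1)
  map_mul' g k := Equiv.ext fun x => Subtype.ext (mul_smul g.1 k.1 x.1)

theorem permOn_apply (P : Subgroup G) (s : Set X) (h : P ≤ setStab G s) (g : P) (x : s) :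
    (permOn P s h g x : X) = g.1 • x.1 := rfl

theorem ps_permOn {a b : ℕ} {P : Subgroup G} {s : Set X} (h : P ≤ setStab G s) (hker : PS a ↥(P ⊓ ptStab G s))
    (htop : PS b (permOn P s h).range) : PS (a + b) P := by
  refine ps_ext' (permOn P s h) ?_ htop
  refine ps_of_map_inj P.subtype_injective ?_
  suffices e : (permOn P s h).ker.map P.subtype = P ⊓ ptStab G s by rwa [e]
  ext g
  constructor
  · rintro ⟨g, hg, rfl⟩
    refine ⟨g.2, fun x hx => ?_⟩
    have h1 := permOn_apply P s h g ⟨x, hx⟩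
    rw [(MonoidHom.mem_ker).1 hg] at h1
    exact h1.symm
  · rintro ⟨hg, hg'⟩
    exact ⟨⟨g, hg⟩, Equiv.ext fun x => Subtype.ext (hg' x x.2), rfl⟩

theorem swap_mem_range {P : Subgroup G} {s : Set X} [DecidableEq s] (h : P ≤ setStab G s) {x y : s} {d : G} (hd : d ∈ P)
    (h1 : d • x.1 = y.1) (h2 : d • y.1 = x.1) (h3 : ∀ z ∈ s, z ≠ x.1 → z ≠ y.1 → d • z = z) :
    swap x y ∈ (permOn P s h).range := by
  refine ⟨⟨d, hd⟩, Equiv.ext fun z => Subtype.ext ?_⟩
  rw [permOn_apply]
  by_cases hx : z = x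
  · rw [hx, swap_apply_left, h1]
  by_cases hy : z = y
  · rw [hy, swap_apply_right, h2]
  rw [swap_apply_of_ne_of_ne hx hy]
  exact h3 z z.2 (fun e => hx (Subtype.ext e)) fun e => hy (Subtype.ext e)

/-- transpositions inside all orbits -/
theorem ps_of_flip {a : ℕ} {P : Subgroup G} {s : Set X} [Finite s] (h : P ≤ setStab G s)
    (hker : PS a ↥(P ⊓ ptStab G s))
    (hflip : ∀ g ∈ P, ∀ x ∈ s, g • x ≠ x →
      ∃ d ∈ P, d • x = g • x ∧ d • g • x = x ∧ ∀ z ∈ s, z ≠ x → z ≠ g • x → d • z = z) : PS (a + 3) P := by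
  classical
  refine ps_permOn h hker (ps_of_swap _ ?_)
  rintro _ ⟨g, rfl⟩ x
  by_cases hx : g.1 • x.1 = x.1
  · rw [show permOn P s h g x = x from Subtype.ext hx, swap_self]
    exact one_mem _
  obtain ⟨d, hd, h1, h2, h3⟩ := hflip g g.2 x x.2 hx
  exact swap_mem_range h hd h1 h2 h3

/-- a solvable top group -/
theorem ps_of_dS_fix {a b : ℕ} {P : Subgroup G} {s : Set X} (hker : PS a ↥(P ⊓ ptStab G s))
    (htop : dS P b ≤ ptStab G s) : PS (a + b) P := by
  rw [add_comm]
  exact ps_up (le_inf (dS_le _ _) htop) inf_le_left hker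

end Cfsg.Agent.DS.Cl
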