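import Cfsg.Agent.DS.Cl.SN
import Cfsg.Agent.DS.Cl.Grp

/-!
# The groups of a form ring: `Aut' ≤ Lin`, `Aut'' ≤ cj Iso`, `Aut''' ≤ S`
-/

set_option autoImplicit false

namespace Cfsg.Agent.DS.Cl

open Cfsg Cfsg.Agent.H936 Cfsg.Agent.DS
open scoped commutatorElement

variable {A : Type} [Ring A] [StarRing A]

section nostar

omit [StarRing A]

theorem ra_mul (γ δ : RingAut A) (a : A) : (γ * δ) a = γ (δ a) := rfl

theorem ra_inv_apply (γ : RingAut A) (a : A) : γ⁻¹ (γ a) = a := γ.symm_apply_apply a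

theorem ra_apply_inv (γ : RingAut A) (a : A) : γ (γ⁻¹ a) = a := γ.apply_symm_apply a

theorem ra_one (a : A) : (1 : RingAut A) a = a := rfl

/-- the action of an automorphism on units -/
def um (γ : RingAut A) : Aˣ →* Aˣ := Units.map (γ : A →* A)

theorem um_val (γ : RingAut A) (u : Aˣ) : ((um γ u : Aˣ) : A) = γ u := rfl

theorem um_inv_val (γ : RingAut A) (u : Aˣ) : (((um γ u)⁻¹ : Aˣ) : A) = γ (u⁻¹ : Aˣ) := rfl

theorem conj_cj (γ : RingAut A) (u : Aˣ) : γ * cj A u * γ⁻¹ = cj A (um γ u) := by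
  ext a
  rw [ra_mul, ra_mul, cj_apply, cj_apply, map_mul, map_mul, ra_apply_inv, um_val, um_inv_val]

theorem cj_eq_one_iff {u : Aˣ} : cj A u = 1 ↔ (u : A) ∈ Subring.center A := by
  constructor
  · intro h
    rw [Subring.mem_center_iff]
    intro g
    have h1 : cj A u g = g := by rw [h]; rfl
    rw [cj_apply] at h1
    conv_lhs => rw [← h1]
    simp
  · intro h
    ext a
    rw [cj_apply, ← cen_comm h, mul_assoc, Units.mul_inv, mul_one, ra_one]

theorem cj_eq_iff {u v : Aˣ} : cj A u = cj A v ↔ ∃ z : Aˣ, (z : A) ∈ Subring.center A ∧ u = v * z := by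
  constructor
  · intro h
    refine ⟨v⁻¹ * u, cj_eq_one_iff.1 (by rw [map_mul, map_inv, h, inv_mul_cancel]), by group⟩
  · rintro ⟨z, hz, rfl⟩
    rw [map_mul, cj_eq_one_iff.2 hz, mul_one]

theorem cj_mem_Lin (u : Aˣ) : cj A u ∈ Lin A := by
  intro c hc
  rw [cj_apply, cen_comm hc, mul_assoc, Units.mul_inv, mul_one]

theorem cj_mul_eq (u : Aˣ) (a : A) : cj A u a * u = u * a := by rw [cj_apply, mul_assoc, Units.inv_mul, mul_one]

theorem cj_eq_of_mul {u : Aˣ} {a b : A} (h : (u : A) * a = b * u) : cj A u a = b := by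
  rw [cj_apply, h, mul_assoc, Units.mul_inv, mul_one]

theorem units_comm {z : Aˣ} (hz : (z : A) ∈ Subring.center A) (g : Aˣ) : g * z = z * g :=
  Units.ext (cen_comm hz g)

theorem Lin_conj {γ : RingAut A} (hγ : γ ∈ Lin A) (δ : RingAut A) : δ * γ * δ⁻¹ ∈ Lin A := by
  intro c hc
  rw [ra_mul, ra_mul, hγ _ (map_cen _ hc), ra_apply_inv]

theorem commutator_mul_cen {g h z z' : Aˣ} (hz : (z : A) ∈ Subring.center A) (hz' : (z' : A) ∈ Subring.center A) :
    ⁅g * z, h * z'⁆ = ⁅g, h⁆ := by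
  have h1 : ∀ x, z * x * z⁻¹ = x := fun x => by rw [← units_comm hz x, mul_inv_cancel_right]
  have h2 : ∀ x, z' * x * z'⁻¹ = x := fun x => by rw [← units_comm hz' x, mul_inv_cancel_right]
  calc ⁅g * z, h * z'⁆ = g * (z * (h * z') * z⁻¹) * g⁻¹ * z'⁻¹ * h⁻¹ := by
        simp only [commutatorElement_def, mul_inv_rev, mul_assoc]
    _ = g * h * (z' * g⁻¹ * z'⁻¹) * h⁻¹ := by rw [h1]; simp only [mul_assoc]
    _ = ⁅g, h⁆ := by rw [h2, commutatorElement_def]

/-- an automorphism centralizing the image of `W` fixes the commutator group of `W` -/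
theorem fix_commutator {W : Subgroup Aˣ} {γ : RingAut A} (hγ : ∀ w ∈ W, γ * cj A w = cj A w * γ) :
    ∀ w ∈ ⁅W, W⁆, γ (w : Aˣ) = (w : Aˣ) := by
  have h1 : ⁅W, W⁆ ≤ (um γ).eqLocus (MonoidHom.id _) := by
    rw [Subgroup.commutator_le]
    intro g hg h hh
    have h2 : ∀ w ∈ W, ∃ z : Aˣ, (z : A) ∈ Subring.center A ∧ um γ w = w * z := by
      intro w hw
      rw [← cj_eq_iff, ← conj_cj, hγ w hw, mul_inv_cancel_right]
    obtain ⟨z, hz, e⟩ := h2 g hg
    obtain ⟨z', hz', e'⟩ := h2 h hh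
    change um γ ⁅g, h⁆ = ⁅g, h⁆
    rw [map_commutatorElement, e, e', commutator_mul_cen hz hz']
  intro w hw
  exact congrArg Units.val (h1 hw)

/-- a linear automorphism centralizing a perfect group fixes its lifts -/
theorem fix_of_comm {W : Subgroup Aˣ} (hp : W.map (cj A) ≤ ⁅W.map (cj A), W.map (cj A)⁆) {γ : RingAut A}
    (hl : γ ∈ Lin A) (hγ : ∀ w ∈ W, γ * cj A w = cj A w * γ) : ∀ w ∈ W, γ (w : Aˣ) = (w : Aˣ) := by
  intro w hw
  have h1 := hp ⟨w, hw, rfl⟩
  rw [← Subgroup.map_commutator] at h1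
  obtain ⟨w', hw', e⟩ := h1
  obtain ⟨z, hz, rfl⟩ := cj_eq_iff.1 e.symm
  rw [Units.val_mul, map_mul, fix_commutator hγ w' hw', hl _ hz]

theorem eq_one_of_fix {X : Set A} (hX : Subring.closure ((Subring.center A : Set A) ∪ X) = ⊤) {γ : RingAut A}
    (hl : γ ∈ Lin A) (hγ : ∀ x ∈ X, γ x = x) : γ = 1 := by
  have h1 : Subring.closure ((Subring.center A : Set A) ∪ X) ≤ (γ : A →+* A).eqLocus (RingHom.id A) := by
    rw [Subring.closure_le]
    rintro x (hx | hx)
    · exact hl x hx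
    · exact hγ x hx
  ext a
  exact h1 (hX ▸ Subring.mem_top a)

theorem cen_of_comm {X : Set A} (hX : Subring.closure ((Subring.center A : Set A) ∪ X) = ⊤) {a : A}
    (ha : ∀ x ∈ X, x * a = a * x) : a ∈ Subring.center A := by
  have h1 : Subring.closure ((Subring.center A : Set A) ∪ X) ≤ Subring.centralizer {a} := by
    rw [Subring.closure_le]
    rintro x (hx | hx)
    · intro y hy
      rw [Set.mem_singleton_iff.1 hy]
      exact cen_comm hx a
    · intro y hy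
      rw [Set.mem_singleton_iff.1 hy]
      exact (ha x hx).symm
  rw [Subring.mem_center_iff]
  intro g
  exact (h1 (hX ▸ Subring.mem_top g) a rfl).symm

/-- automorphisms of a finite field commute -/
theorem comm_on_dom [Finite A] (Z : Subring A) (hc : ∀ x ∈ Z, ∀ y ∈ Z, x * y = y * x)
    (hd : ∀ x ∈ Z, x ≠ 0 → IsUnit x) {γ δ : RingAut A} (hγ : ∀ z ∈ Z, γ z ∈ Z) (hδ : ∀ z ∈ Z, δ z ∈ Z) :
    ∀ z ∈ Z, γ (δ z) = δ (γ z) := by
  intro z hz
  by_cases h0 : z = 0
  · simp [h0]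
  have hnt : Nontrivial Z := ⟨⟨⟨z, hz⟩, 0, fun h => h0 (congrArg Subtype.val h)⟩⟩
  let : CommRing Z := { (inferInstance : Ring Z) with mul_comm := fun x y => Subtype.ext (hc x x.2 y y.2) }
  have : NoZeroDivisors Z := ⟨fun {x y} hxy => by
    by_cases hx : x = 0
    · exact Or.inl hx
    · right
      have h1 := hd x x.2 fun h => hx (Subtype.ext h)
      exact Subtype.ext (h1.mul_right_eq_zero.1 (congrArg Subtype.val hxy))⟩
  have : IsDomain Z := NoZeroDivisors.to_isDomain Z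
  let : Field Z := (Finite.isField_of_domain Z).toField
  obtain ⟨g, hg⟩ := IsCyclic.exists_monoid_generator (α := Zˣ)
  have h1 : ∀ x ∈ Z, x ≠ 0 → ∃ k : ℕ, x = ((g : Z) : A) ^ k := by
    intro x hx hx0
    obtain ⟨k, hk⟩ := hg (Units.mk0 (⟨x, hx⟩ : Z) fun h => hx0 (congrArg Subtype.val h))
    refine ⟨k, ?_⟩
    have h2 := congrArg (fun u : Zˣ => ((u : Z) : A)) hk
    simp only [Units.val_pow_eq_pow_val, Units.val_mk0] at h2
    exact h2.symm
  have hg0 : ((g : Z) : A) ≠ 0 := fun h => g.ne_zero (Subtype.ext h)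
  obtain ⟨k, rfl⟩ := h1 z hz h0
  obtain ⟨a, ha⟩ := h1 _ (hγ _ (g : Z).2) (by rwa [map_ne_zero_iff γ γ.injective])
  obtain ⟨b, hb⟩ := h1 _ (hδ _ (g : Z).2) (by rwa [map_ne_zero_iff δ δ.injective])
  simp only [map_pow, ha, hb, ← pow_mul]
  congr 1
  ring

end nostar

/-- the symmetric central elements -/
def C0 (A : Type) [Ring A] [StarRing A] : Subring A where
  carrier := {c | c ∈ Subring.center A ∧ star c = c}
  mul_mem' := by
    rintro a b ⟨ha, ha'⟩ ⟨hb, hb'⟩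
    exact ⟨Subring.mul_mem _ ha hb, by rw [star_mul, ha', hb', cen_comm ha]⟩
  one_mem' := ⟨Subring.one_mem _, star_one A⟩
  add_mem' := by
    rintro a b ⟨ha, ha'⟩ ⟨hb, hb'⟩
    exact ⟨Subring.add_mem _ ha hb, by rw [star_add, ha', hb']⟩
  zero_mem' := ⟨Subring.zero_mem _, star_zero A⟩
  neg_mem' := by
    rintro a ⟨ha, ha'⟩
    exact ⟨Subring.neg_mem _ ha, by rw [star_neg, ha']⟩

theorem Eps.cen_split {ε c : A} (hε : Eps ε) (hc : c ∈ Subring.center A) :
    ∃ c₁ ∈ C0 A, ∃ c₂ ∈ C0 A, c = ε * c₁ + star ε * c₂ := by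
  have key : ∀ η : A, Eps η → η * c + star (η * c) ∈ C0 A ∧ η * (η * c + star (η * c)) = η * c := by
    intro η hη
    have h0 := Subring.mul_mem _ hη.cen hc
    refine ⟨⟨Subring.add_mem _ h0 (star_cen h0), by rw [star_add, star_star, add_comm]⟩, ?_⟩
    rw [mul_add, star_mul, ← mul_assoc, hη.idem, ← mul_assoc, ← hη.comm (star c), mul_assoc, hη.ms, mul_zero,
      add_zero]
  exact ⟨_, (key ε hε).1, _, (key _ hε.st).1, by rw [(key ε hε).2, (key _ hε.st).2, ← hε.split]⟩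

/-- `Aut (C, *)` is abelian -/
theorem SS.comm_cen [Finite A] (h : SS A) {γ δ : RingAut A} (hγ : γ ∈ SAut A) (hδ : δ ∈ SAut A) {c : A}
    (hc : c ∈ Subring.center A) : γ (δ c) = δ (γ c) := by
  by_cases hε : ∃ ε : A, Eps ε
  · obtain ⟨ε, hε⟩ := hε
    have h0 : ∀ {γ : RingAut A}, γ ∈ SAut A → ∀ z ∈ C0 A, γ z ∈ C0 A := fun hγ z hz =>
      ⟨map_cen _ hz.1, by rw [← hγ, hz.2]⟩
    have h1 := comm_on_dom (C0 A) (fun x _ y hy => cen_comm hy.1 x) (fun x hx => h.isUnit_of_cen hx.1 hx.2)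
      (h0 hγ) (h0 hδ)
    have h2 : γ (δ ε) = δ (γ ε) := by
      rcases h.map_eps hε hγ with e1 | e1 <;> rcases h.map_eps hε hδ with e2 | e2 <;>
        simp only [e1, e2, hγ ε, hδ ε]
    obtain ⟨c₁, h₁, c₂, h₂, rfl⟩ := hε.cen_split hc
    simp only [map_add, map_mul, h1 _ h₁, h1 _ h₂, hγ ε, hδ ε, hγ (δ ε), hδ (γ ε), h2]
  · exact comm_on_dom (Subring.center A) (fun x _ y hy => cen_comm hy x) (fun x hx => h.isUnit_of_not_eps hε hx)
      (fun z => map_cen γ) (fun z => map_cen δ) c hc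

theorem SS.commutator_SAut [Finite A] (h : SS A) : ⁅SAut A, SAut A⁆ ≤ Lin A := by
  rw [Subgroup.commutator_le]
  intro γ hγ δ hδ c hc
  rw [commutatorElement_def, ra_mul, ra_mul, ra_mul, h.comm_cen hγ hδ (map_cen _ (map_cen _ hc)), ra_apply_inv,
    ra_apply_inv]

theorem cj_SAut_cen {g : Aˣ} (hg : cj A g ∈ SAut A) : star (g : A) * g ∈ Subring.center A := by
  rw [Subring.mem_center_iff]
  intro a
  have h1 := hg a
  rw [cj_apply, cj_apply, star_mul, star_mul] at h1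
  have h2 := congrArg (fun x => star (star (g : A) * x * g)) h1
  have h3 : ((g⁻¹ : Aˣ) : A) * g = 1 := g.inv_mul
  have h4 : star (g : A) * star ((g⁻¹ : Aˣ) : A) = 1 := by rw [← star_mul, h3, star_one]
  simp only [← mul_assoc, h4, one_mul] at h2
  simp only [mul_assoc, h3, mul_one, star_mul, star_star] at h2
  simp only [mul_assoc]
  exact h2

theorem cj_SAut_of_cen {g : Aˣ} (hg : star (g : A) * g ∈ Subring.center A) : cj A g ∈ SAut A := by
  intro a
  rw [cj_apply, cj_apply, star_mul, star_mul]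
  have h3 : (g : A) * ((g⁻¹ : Aˣ) : A) = 1 := g.mul_inv
  have h4 : star ((g⁻¹ : Aˣ) : A) * star (g : A) = 1 := by rw [← star_mul, h3, star_one]
  have h5 := cen_comm hg (star a)
  calc (g : A) * star a * ((g⁻¹ : Aˣ) : A)
      = star ((g⁻¹ : Aˣ) : A) * (star (g : A) * g * star a) * ((g⁻¹ : Aˣ) : A) := by
        simp only [← mul_assoc, h4, one_mul]
    _ = star ((g⁻¹ : Aˣ) : A) * (star a * star (g : A)) := by
        rw [← h5]; simp only [mul_assoc, h3, mul_one]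

theorem star_eq_inv {u : Aˣ} (hu : (u : A) * star (u : A) = 1) : ((u⁻¹ : Aˣ) : A) = star (u : A) := by
  rw [← mul_one ((u⁻¹ : Aˣ) : A), ← hu, ← mul_assoc, Units.inv_mul, one_mul]

/-- the unit defined by a unitary element of a finite ring -/
noncomputable def mkU [Finite A] (x : A) (h : x * star x = 1) : Aˣ := ⟨x, star x, h, mul_eq_one_comm.1 h⟩

theorem mkU_val [Finite A] (x : A) (h : x * star x = 1) : (mkU x h : A) = x := rfl

namespace FR

variable {F : FR A}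

theorem Iso.inv_eq {u : Aˣ} (hu : u ∈ F.Iso) : ((u⁻¹ : Aˣ) : A) = star (u : A) := star_eq_inv hu.1

theorem Iso.ms {u : Aˣ} (hu : u ∈ F.Iso) : (u : A) * star (u : A) = 1 := hu.1

theorem Iso.sm {u : Aˣ} (hu : u ∈ F.Iso) : star (u : A) * u = 1 := by rw [← Iso.inv_eq hu, Units.inv_mul]

theorem Iso.cj_apply {u : Aˣ} (hu : u ∈ F.Iso) (a : A) : cj A u a = u * a * star (u : A) := by
  rw [Cl.cj_apply, Iso.inv_eq hu]

theorem cj_mem_Aut {u : Aˣ} (hu : u ∈ F.Iso) : cj A u ∈ F.Aut :=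
  ⟨cj_SAut_of_cen (by rw [Iso.sm hu]; exact Subring.one_mem _), by rw [Iso.cj_apply hu]; exact hu.2⟩

theorem mem_Iso_of_cj {u : Aˣ} (h1 : (u : A) * star (u : A) = 1) (h2 : cj A u ∈ F.Aut) : u ∈ F.Iso :=
  ⟨h1, by rw [← star_eq_inv h1]; exact h2.2⟩

theorem um_mem_Iso {γ : RingAut A} (hγ : γ ∈ F.Aut) {u : Aˣ} (hu : u ∈ F.Iso) : um γ u ∈ F.Iso := by
  refine mem_Iso_of_cj ?_ ?_
  · rw [um_val, ← hγ.1, ← map_mul, hu.1, map_one]
  · rw [← conj_cj]
    exact mul_mem (mul_mem hγ (cj_mem_Aut hu)) (inv_mem hγ)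

variable (F)

/-- the projective isometry group -/
def PI : Subgroup (RingAut A) := F.Iso.map (cj A)

theorem PI_le_Aut : F.PI ≤ F.Aut := by
  rintro _ ⟨u, hu, rfl⟩
  exact cj_mem_Aut hu

theorem PI_le_Lin : F.PI ≤ Lin A := by
  rintro _ ⟨u, -, rfl⟩
  exact cj_mem_Lin u

theorem S_eq : F.S = ⁅F.PI, F.PI⁆ := Subgroup.map_commutator _ _ _

theorem S_le_PI : F.S ≤ F.PI := by rw [S_eq]; exact dS_le F.PI 1

theorem S_le_Aut : F.S ≤ F.Aut := F.S_le_PI.trans F.PI_le_Aut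

theorem Aut_le_SAut : F.Aut ≤ SAut A := fun _ h => h.1

variable {F}

theorem conj_mem_PI {γ : RingAut A} (hγ : γ ∈ F.Aut) {s : RingAut A} (hs : s ∈ F.PI) : γ * s * γ⁻¹ ∈ F.PI := by
  obtain ⟨u, hu, rfl⟩ := hs
  exact ⟨um γ u, um_mem_Iso hγ hu, (conj_cj γ u).symm⟩

theorem um_mem_comm {γ : RingAut A} (hγ : γ ∈ F.Aut) {u : Aˣ} (hu : u ∈ ⁅F.Iso, F.Iso⁆) :
    um γ u ∈ ⁅F.Iso, F.Iso⁆ := by
  have h1 : F.Iso.map (um γ) ≤ F.Iso := by
    rintro _ ⟨v, hv, rfl⟩
    exact um_mem_Iso hγ hv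
  have h2 : (⁅F.Iso, F.Iso⁆ : Subgroup Aˣ).map (um γ) ≤ ⁅F.Iso, F.Iso⁆ := by
    rw [Subgroup.map_commutator]
    exact Subgroup.commutator_mono h1 h1
  exact h2 ⟨u, hu, rfl⟩

theorem conj_mem_S {γ : RingAut A} (hγ : γ ∈ F.Aut) {s : RingAut A} (hs : s ∈ F.S) : γ * s * γ⁻¹ ∈ F.S := by
  obtain ⟨u, hu, rfl⟩ := hs
  exact ⟨um γ u, um_mem_comm hγ hu, (conj_cj γ u).symm⟩

theorem comm_le_Iso : (⁅F.Iso, F.Iso⁆ : Subgroup Aˣ) ≤ F.Iso := dS_le F.Iso 1

/-- the commutator of two similitudes is an isometry -/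
theorem commutator_mem_Iso {g h : Aˣ} (hg : cj A g ∈ F.Aut) (hh : cj A h ∈ F.Aut) : ⁅g, h⁆ ∈ F.Iso := by
  refine mem_Iso_of_cj ?_ (by
    rw [map_commutatorElement]
    exact mul_mem (mul_mem (mul_mem hg hh) (inv_mem hg)) (inv_mem hh))
  have h1 : ∀ x : Aˣ, cj A x ∈ F.Aut → ∃ z : Aˣ, (z : A) ∈ Subring.center A ∧ star x = x⁻¹ * z := by
    intro x hx
    refine ⟨star x * x, cj_SAut_cen hx.1, ?_⟩
    rw [units_comm (z := star x * x) (cj_SAut_cen hx.1)]
    group
  obtain ⟨z, hz, e⟩ := h1 g hg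
  obtain ⟨z', hz', e'⟩ := h1 h hh
  have h2 : star ⁅g, h⁆ = ⁅(star h)⁻¹, (star g)⁻¹⁆ := by
    simp only [commutatorElement_def, star_mul, star_inv, inv_inv, mul_assoc]
  have h3 : ⁅g, h⁆ * star ⁅g, h⁆ = 1 := by
    rw [h2, e, e', mul_inv_rev, mul_inv_rev, inv_inv, inv_inv, ← units_comm (inv_cen hz), ← units_comm (inv_cen hz'),
      commutator_mul_cen (inv_cen hz') (inv_cen hz), ← commutatorElement_inv g h, mul_inv_cancel]
  exact congrArg Units.val h3

theorem dS_one_le [Finite A] (h : SS A) : dS F.Aut 1 ≤ Lin A :=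
  (Subgroup.commutator_mono F.Aut_le_SAut F.Aut_le_SAut).trans h.commutator_SAut

theorem commutator_lin_le [Finite A] (h : SS A) : ⁅F.Aut ⊓ Lin A, F.Aut ⊓ Lin A⁆ ≤ F.PI := by
  rw [Subgroup.commutator_le]
  rintro γ ⟨hγ, hγ'⟩ δ ⟨hδ, hδ'⟩
  obtain ⟨g, rfl⟩ := h.sn hγ'
  obtain ⟨k, rfl⟩ := h.sn hδ'
  exact ⟨⁅g, k⁆, commutator_mem_Iso hγ hδ, map_commutatorElement _ _ _⟩

theorem dS_two_le [Finite A] (h : SS A) : dS F.Aut 2 ≤ F.PI := by
  have h1 : dS F.Aut 1 ≤ F.Aut ⊓ Lin A := le_inf (dS_le _ _) (dS_one_le h)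
  exact (Subgroup.commutator_mono h1 h1).trans (commutator_lin_le h)

theorem dS_three_le [Finite A] (h : SS A) : dS F.Aut 3 ≤ F.S := by
  rw [S_eq]
  exact Subgroup.commutator_mono (dS_two_le h) (dS_two_le h)

/-- an invariant left ideal of `S` is two-sided -/
theorem two_of_S (hs : F.Span) {R : Ideal A} (hR : Inv F.S R) : Two R := by
  let T : Subring A :=
    { carrier := {a | ∀ x ∈ R, x * a ∈ R}
      mul_mem' := fun ha hb x hx => by rw [← mul_assoc]; exact hb _ (ha x hx)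
      one_mem' := fun x hx => by rwa [mul_one]
      add_mem' := fun ha hb x hx => by rw [mul_add]; exact R.add_mem (ha x hx) (hb x hx)
      zero_mem' := fun x _ => by rw [mul_zero]; exact R.zero_mem
      neg_mem' := fun ha x hx => by rw [mul_neg]; exact R.neg_mem (ha x hx) }
  have h1 : ⊤ ≤ T := by
    rw [← hs, Subring.closure_le]
    rintro a (ha | ⟨u, hu, rfl⟩) x hx
    · rw [cen_comm ha]; exact R.mul_mem_left _ hx
    · have h2 := hR (cj A u⁻¹) ⟨u⁻¹, inv_mem hu, rfl⟩ x hx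
      have h3 := R.mul_mem_left u h2
      rw [Cl.cj_apply] at h3
      simpa [← mul_assoc] using h3
  exact fun x hx a => h1 (Subring.mem_top a) x hx

theorem cen_of_S (hs : F.Span) {a : A} (ha : ∀ s ∈ F.S, s a = a) : a ∈ Subring.center A := by
  refine cen_of_comm hs ?_
  rintro _ ⟨u, hu, rfl⟩
  have h1 := cj_mul_eq u a
  rw [ha _ ⟨u, hu, rfl⟩] at h1
  exact h1.symm

/-- **the invariance lemma**: under an irreducible group, an invariant class of skew elements is trivial -/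
theorem mem_L_of_inv [Finite A] (h : SS A) {M : Subgroup (RingAut A)} (hM : M ≤ SAut A) (hI : Irr M) {d : A}
    (hd : star d = -d) (hinv : ∀ γ ∈ M, γ d - d ∈ F.L) : d ∈ F.L := by
  have := h.nontrivial
  by_cases hε : ∃ ε : A, Eps ε
  · obtain ⟨ε, hε⟩ := hε
    rw [F.L_eq hε.cen hε.add]
    exact hd
  have hx : ∀ a b : A, a * d * star b + b * d * star a ∈ F.L := by
    intro a b
    have h1 := F.sub_star_mem (a * d * star b)
    rw [star_mul, star_mul, star_star, hd] at h1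
    convert h1 using 1
    noncomm_ring
  let R : Ideal A :=
    { carrier := {a | a * d * star a ∈ F.L}
      add_mem' := by
        intro a b (ha : a * d * star a ∈ F.L) (hb : b * d * star b ∈ F.L)
        show (a + b) * d * star (a + b) ∈ F.L
        convert F.L.add_mem (F.L.add_mem ha hb) (hx a b) using 1
        rw [star_add]; noncomm_ring
      zero_mem' := by show (0 : A) * d * star 0 ∈ F.L; simp
      smul_mem' := by
        intro c a (ha : a * d * star a ∈ F.L)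
        show (c * a) * d * star (c * a) ∈ F.L
        convert F.conj_mem ha c using 1
        rw [star_mul]; noncomm_ring }
  have hR : Two R := by
    refine hI R fun γ hγ a (ha : a * d * star a ∈ F.L) => ?_
    show γ a * d * star (γ a) ∈ F.L
    have h1 := F.map_mem (hM hγ) ha
    rw [map_mul, map_mul, hM hγ] at h1
    convert F.L.sub_mem h1 (F.conj_mem (hinv γ hγ) (γ a)) using 1
    noncomm_ring
  rcases h.two_of_not_eps hε hR with h1 | h1
  · exfalso
    have h2 : Function.Injective fun a : A => a * d * star a := by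
      intro a b (hab : a * d * star a = b * d * star b)
      have h3 : a - b ∈ R := by
        show (a - b) * d * star (a - b) ∈ F.L
        have h4 := F.sub_star_mem (a * d * star a)
        rw [star_mul, star_mul, star_star, hd] at h4
        convert F.L.sub_mem h4 (hx a b) using 1
        rw [star_sub]
        have e : (a - b) * d * (star a - star b) =
            a * d * star a + b * d * star b - (a * d * star b + b * d * star a) := by noncomm_ring
        rw [e, ← hab]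
        noncomm_ring
      rw [h1, Ideal.mem_bot, sub_eq_zero] at h3
      exact h3
    obtain ⟨a, ha⟩ := Finite.surjective_of_injective h2 F.l
    have h3 := F.l_add
    rw [← ha] at h3
    simp only [star_mul, star_star, hd] at h3
    rw [neg_mul, mul_neg, ← mul_assoc, add_neg_cancel] at h3
    exact zero_ne_one h3
  · have h2 : (1 : A) ∈ R := by rw [h1]; trivial
    have h3 : 1 * d * star 1 ∈ F.L := h2
    simpa using h3

end FR

namespace Ctx

variable {F : FR A} {M : Subgroup (RingAut A)} (h : Ctx F M)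
include h

theorem perfect : F.S ≤ ⁅F.S, F.S⁆ := perfect_of_simple h.simple h.noncomm

theorem eq_of_le {P : Subgroup (RingAut A)} (h1 : M ≤ P) (h2 : P ≤ F.Aut) (h3 : ¬ F.S ≤ P) : M = P :=
  le_antisymm h1 (h.max P h1 h2 h3)

theorem le_SAut : M ≤ SAut A := h.le.trans F.Aut_le_SAut

/-- a linear automorphism centralizing `S` is trivial -/
theorem eq_one_of_comm {γ : RingAut A} (hl : γ ∈ Lin A) (hγ : ∀ s ∈ F.S, γ * s = s * γ) : γ = 1 := by
  refine eq_one_of_fix h.span hl ?_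
  rintro _ ⟨u, hu, rfl⟩
  exact fix_of_comm (W := ⁅F.Iso, F.Iso⁆) h.perfect hl (fun w hw => hγ _ ⟨w, hw, rfl⟩) u hu

theorem noncomm_ring : ∃ a b : A, a * b ≠ b * a := by
  by_contra hcon
  push Not at hcon
  apply h.noncomm
  refine ⟨⟨?_⟩⟩
  rintro ⟨_, u, hu, rfl⟩ ⟨_, v, hv, rfl⟩
  apply Subtype.ext
  change cj A u * cj A v = cj A v * cj A u
  rw [← map_mul, ← map_mul, show u * v = v * u from Units.ext (hcon _ _)]

/-- a subgroup of `Lin` normalized by `S` and not containing it is trivial -/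
theorem eq_one_of_norm {K : Subgroup (RingAut A)} (hl : K ≤ F.Aut ⊓ Lin A) (hK : ∀ s ∈ F.S, ∀ k ∈ K, s * k * s⁻¹ ∈ K)
    (h2 : ¬ F.S ≤ K) : ∀ k ∈ K, k = 1 := by
  intro k hk
  refine h.eq_one_of_comm (hl hk).2 fun s hs => ?_
  have h3 := inf_eq_bot_of_simple h.simple hK h2 (k * s * k⁻¹ * s⁻¹)
    (mul_mem (FR.conj_mem_S (hl hk).1 hs) (inv_mem hs))
    (by
      have h4 := mul_mem hk (hK s hs _ (inv_mem hk))
      simpa [mul_assoc] using h4)
  rw [mul_inv_eq_one, mul_inv_eq_iff_eq_mul] at h3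
  exact h3

end Ctx

end Cfsg.Agent.DS.Cl
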