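import Cfsg.Agent.DS.Defs
import Cfsg.Agent.ClassicalGeometry.OrthSemi

/-!
# S5881, classical groups: interface (helper56)

A classical group is the group of a finite ring with involution `(A, star)` without proper star-closed two-sided ideals
(`SS A`): `A = M_n(K)` with the adjoint of a form, or `A = M_n(K) × M_n(K)ᵐᵒᵖ` with the swap (linear groups; the swap of
the two factors is the inverse-transpose automorphism).  `F : FR A` adds an element `l` with `l + star l = 1` and the form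
parameter `L` (`Lmin = {a - star a}` or `Lmax = {x | star x = -x}`); the class `l + L` is the quadratic form (it matters
only for orthogonal groups in characteristic 2, where `L = Lmin`, `Q v = b (v, l v)`).
`F.Aut` is the projective semilinear conformal group, `F.Iso` the isometry group, `F.S` the image of its commutator group.
See `notes/DS/classical.md`.
-/

set_option autoImplicit false

namespace Cfsg.Agent.DS.Cl

open Cfsg Cfsg.Agent.H936 Cfsg.Agent.DS

section defs

variable (A : Type) [Ring A] [StarRing A]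

/-- the elements `a - star a` -/
def Lmin : AddSubgroup A where
  carrier := {x | ∃ a, x = a - star a}
  add_mem' := by
    rintro _ _ ⟨a, rfl⟩ ⟨b, rfl⟩
    exact ⟨a + b, by rw [star_add]; abel⟩
  zero_mem' := ⟨0, by simp⟩
  neg_mem' := by
    rintro _ ⟨a, rfl⟩
    exact ⟨-a, by rw [star_neg]; abel⟩

/-- the skew elements -/
def Lmax : AddSubgroup A where
  carrier := {x | star x = -x}
  add_mem' := by
    intro a b (ha : star a = -a) (hb : star b = -b)
    show star (a + b) = -(a + b)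
    rw [star_add, ha, hb]; abel
  zero_mem' := by simp
  neg_mem' := by
    intro a (ha : star a = -a)
    show star (-a) = - -a
    rw [star_neg, ha]

/-- a form structure on `A` -/
structure FR where
  /-- an element of trace one -/
  l : A
  /-- the form parameter -/
  L : AddSubgroup A
  l_add : l + star l = 1
  par : L = Lmin A ∨ L = Lmax A

/-- `A` is star-simple (`Ideal A` = left ideals) -/
def SS : Prop :=
  Nontrivial A ∧ ∀ I : Ideal A, (∀ x ∈ I, ∀ a, x * a ∈ I) → (∀ x ∈ I, star x ∈ I) → I = ⊥ ∨ I = ⊤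

omit [StarRing A] in
/-- conjugation by a unit -/
def cj : Aˣ →* RingAut A where
  toFun u :=
    { toFun := fun x => u * x * (u⁻¹ : Aˣ)
      invFun := fun x => (u⁻¹ : Aˣ) * x * u
      left_inv := fun x => by simp [mul_assoc]
      right_inv := fun x => by simp [mul_assoc]
      map_mul' := fun x y => by simp [mul_assoc]
      map_add' := fun x y => by simp [mul_add, add_mul] }
  map_one' := by
    ext x
    change ((1 : Aˣ) : A) * x * (((1 : Aˣ)⁻¹ : Aˣ) : A) = x
    simp
  map_mul' u v := by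
    ext x
    change ((u * v : Aˣ) : A) * x * (((u * v)⁻¹ : Aˣ) : A) = u * (v * x * ((v⁻¹ : Aˣ) : A)) * ((u⁻¹ : Aˣ) : A)
    simp [mul_assoc]

omit [StarRing A] in
/-- the automorphisms fixing the centre pointwise -/
def Lin : Subgroup (RingAut A) where
  carrier := {γ | ∀ c ∈ Subring.center A, γ c = c}
  mul_mem' := by
    intro γ δ hγ hδ c hc
    change γ (δ c) = c
    rw [hδ c hc, hγ c hc]
  one_mem' := fun _ _ => rfl
  inv_mem' := by
    intro γ hγ c hc
    apply γ.injective
    change γ (γ.symm c) = γ c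
    rw [γ.apply_symm_apply, hγ c hc]

/-- the automorphisms commuting with `star` -/
def SAut : Subgroup (RingAut A) where
  carrier := {γ | ∀ a, γ (star a) = star (γ a)}
  mul_mem' := by
    intro γ δ hγ hδ a
    change γ (δ (star a)) = star (γ (δ a))
    rw [hδ, hγ]
  one_mem' := fun _ => rfl
  inv_mem' := by
    intro γ hγ a
    apply γ.injective
    change γ (γ.symm (star a)) = γ (star (γ.symm a))
    rw [hγ, γ.apply_symm_apply, γ.apply_symm_apply]

variable {A}

omit [StarRing A] in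
theorem cj_apply (u : Aˣ) (x : A) : cj A u x = u * x * (u⁻¹ : Aˣ) := rfl

theorem Lmin_le_Lmax : Lmin A ≤ Lmax A := by
  rintro _ ⟨a, rfl⟩
  show star (a - star a) = -(a - star a)
  rw [star_sub, star_star, neg_sub]

namespace FR

variable (F : FR A)

theorem sub_star_mem (a : A) : a - star a ∈ F.L := by
  rcases F.par with h | h <;> rw [h]
  · exact ⟨a, rfl⟩
  · exact Lmin_le_Lmax ⟨a, rfl⟩

theorem star_eq_neg {x : A} (hx : x ∈ F.L) : star x = -x := by
  rcases F.par with h | h <;> rw [h] at hx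
  · exact Lmin_le_Lmax hx
  · exact hx

theorem conj_mem {x : A} (hx : x ∈ F.L) (a : A) : a * x * star a ∈ F.L := by
  rcases F.par with h | h <;> rw [h] at hx ⊢
  · obtain ⟨b, rfl⟩ := hx
    exact ⟨a * b * star a, by simp [mul_sub, sub_mul, mul_assoc]⟩
  · show star (a * x * star a) = -(a * x * star a)
    have hx' : star x = -x := hx
    simp [hx', mul_assoc]

theorem map_mem {γ : RingAut A} (hγ : γ ∈ SAut A) {x : A} (hx : x ∈ F.L) : γ x ∈ F.L := by
  rcases F.par with h | h <;> rw [h] at hx ⊢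
  · obtain ⟨b, rfl⟩ := hx
    exact ⟨γ b, by rw [map_sub, hγ]⟩
  · show star (γ x) = -γ x
    have hx' : star x = -x := hx
    rw [← hγ, hx', map_neg]

/-- the automorphisms of the form structure (projective semilinear conformal group) -/
def Aut : Subgroup (RingAut A) where
  carrier := {γ | γ ∈ SAut A ∧ γ F.l - F.l ∈ F.L}
  mul_mem' := by
    rintro γ δ ⟨hγ, hγ'⟩ ⟨hδ, hδ'⟩
    refine ⟨mul_mem hγ hδ, ?_⟩
    have h := F.L.add_mem (F.map_mem hγ hδ') hγ'
    rw [map_sub, sub_add_sub_cancel] at h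
    exact h
  one_mem' := ⟨one_mem _, by change F.l - F.l ∈ F.L; rw [sub_self]; exact F.L.zero_mem⟩
  inv_mem' := by
    rintro γ ⟨hγ, hγ'⟩
    refine ⟨inv_mem hγ, ?_⟩
    have h := F.L.neg_mem (F.map_mem (inv_mem hγ) hγ')
    rw [map_sub, neg_sub] at h
    have e : γ⁻¹ (γ F.l) = F.l := γ.symm_apply_apply _
    rwa [e] at h

/-- the isometry group -/
def Iso : Subgroup Aˣ where
  carrier := {u | (u : A) * star (u : A) = 1 ∧ (u : A) * F.l * star (u : A) - F.l ∈ F.L}
  mul_mem' := by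
    rintro u v ⟨hu, hu'⟩ ⟨hv, hv'⟩
    refine ⟨?_, ?_⟩
    · rw [Units.val_mul, star_mul, mul_assoc, ← mul_assoc (v : A), hv, one_mul, hu]
    · have h := F.L.add_mem (F.conj_mem hv' u) hu'
      have e : (u : A) * (v * F.l * star (v : A) - F.l) * star (u : A) + (u * F.l * star (u : A) - F.l) =
          ((u * v : Aˣ) : A) * F.l * star ((u * v : Aˣ) : A) - F.l := by
        rw [Units.val_mul, star_mul]; noncomm_ring
      rwa [e] at h
  one_mem' := ⟨by simp, by simp⟩
  inv_mem' := by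
    rintro u ⟨hu, hu'⟩
    have h1 : ((u⁻¹ : Aˣ) : A) = star (u : A) := by
      rw [← mul_one ((u⁻¹ : Aˣ) : A), ← hu, ← mul_assoc, Units.inv_mul, one_mul]
    have h2 : star (u : A) * u = 1 := by rw [← h1, Units.inv_mul]
    refine ⟨by rw [h1, star_star, h2], ?_⟩
    have h := F.L.neg_mem (F.conj_mem hu' (star (u : A)))
    have e : -(star (u : A) * (u * F.l * star (u : A) - F.l) * star (star (u : A))) =
        star (u : A) * F.l * star (star (u : A)) - (star (u : A) * u) * F.l * (star (u : A) * u) := by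
      rw [star_star]; noncomm_ring
    rw [e, h2, one_mul, mul_one] at h
    rwa [h1]

/-- the image of the commutator group of the isometry group: the simple classical group -/
def S : Subgroup (RingAut A) := (⁅F.Iso, F.Iso⁆ : Subgroup Aˣ).map (cj A)

/-- the commutator group of the isometry group and the centre generate `A` (absolute irreducibility) -/
def Span : Prop :=
  Subring.closure ((Subring.center A : Set A) ∪ ((fun u : Aˣ => (u : A)) '' (⁅F.Iso, F.Iso⁆ : Subgroup Aˣ))) = ⊤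

/-- the same involution with the maximal parameter -/
def max : FR A := ⟨F.l, Lmax A, F.l_add, Or.inr rfl⟩

end FR

/-- `M` is maximal among the subgroups of `F.Aut` not containing the simple group `F.S` -/
structure Ctx (F : FR A) (M : Subgroup (RingAut A)) : Prop where
  ss : SS A
  span : F.Span
  simple : IsSimpleGroup F.S
  noncomm : ¬ IsMulCommutative F.S
  le : M ≤ F.Aut
  not_le : ¬ F.S ≤ M
  max : ∀ M' : Subgroup (RingAut A), M ≤ M' → M' ≤ F.Aut → ¬ F.S ≤ M' → M' ≤ M

omit [StarRing A] in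
/-- the set `X` is invariant under `M` -/
def Inv (M : Subgroup (RingAut A)) (X : Set A) : Prop := ∀ γ ∈ M, ∀ x ∈ X, γ x ∈ X

omit [StarRing A] in
/-- `M` is irreducible: invariant left ideals are two-sided -/
def Irr (M : Subgroup (RingAut A)) : Prop := ∀ R : Ideal A, Inv M R → ∀ x ∈ R, ∀ a, x * a ∈ R

/-- a family of at least two non-zero orthogonal symmetric idempotents with sum `1` -/
structure Fr (D : Finset A) : Prop where
  two : 2 ≤ D.card
  ne : ∀ e ∈ D, e ≠ 0
  idem : ∀ e ∈ D, e * e = e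
  symm : ∀ e ∈ D, star e = e
  orth : ∀ e ∈ D, ∀ e' ∈ D, e ≠ e' → e * e' = 0
  sum : ∑ e ∈ D, e = 1

/-- a symmetric element of rank one -/
def Rk1 (s : A) : Prop := s ≠ 0 ∧ star s = s ∧ ∀ a, ∃ c ∈ Subring.center A, s * a * s = c * s

end defs

/-- `T` is the group `F.S` of a form ring, and the automorphisms in `Γ` are induced by `F.Aut` -/
def Model (T : Type) [Group T] (Γ : Set (MulAut T)) : Prop :=
  ∃ (A : Type) (_ : Ring A) (_ : StarRing A) (_ : Finite A) (F : FR A) (e : F.S ≃* T), SS A ∧ F.Span ∧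
    ∀ α ∈ Γ, ∃ γ ∈ F.Aut, ∀ s t : F.S, (t : RingAut A) = γ * s * γ⁻¹ → e t = α (e s)

/-! ### The boxes -/

/-- [W1] Skolem-Noether -/
def BoxSN : Prop := ∀ (A : Type) [Ring A] [StarRing A] [Finite A], SS A → ∀ γ ∈ Lin A, ∃ u : Aˣ, γ = cj A u

/-- [W2] matrix units -/
def BoxMU : Prop := ∀ (A : Type) [Ring A] [StarRing A] [Finite A], SS A →
  ∃ (n : ℕ) (E : Fin n → Fin n → A), (∀ i j k l, E i j * E k l = if j = k then E i l else 0) ∧ ∑ i, E i i = 1 ∧
    ∀ a, (∀ i j, a * E i j = E i j * a) → a ∈ Subring.center A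

/-- [B1] the key fact: `PS 5 (PΓX(V))` for every classical space -/
def BoxP5 : Prop := ∀ (A : Type) [Ring A] [StarRing A] [Finite A], SS A → ∀ F : FR A, PS 5 F.Aut

/-- [B2] non-central isometries -/
def BoxNC : Prop := ∀ (A : Type) [Ring A] [StarRing A] [Finite A], SS A → ∀ F : FR A, (∃ a b : A, a * b ≠ b * a) →
  ∃ u ∈ F.Iso, (u : A) ∉ Subring.center A

/-- [B3] symplectic groups in characteristic 2 are generated by transvections -/
def BoxTV : Prop := ∀ (A : Type) [Ring A] [StarRing A] [Finite A], SS A → (2 : A) = 0 →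
  (∀ c ∈ Subring.center A, star c = c) → (∃ l : A, l + star l = 1) →
  (∃ s : A, Rk1 s) ∧ ∀ u : Aˣ, (u : A) * star (u : A) = 1 → u ∈ Subgroup.closure {t : Aˣ | ∃ s, Rk1 s ∧ (t : A) = 1 + s}

/-- [C1p] parabolic subgroups -/
def BoxPar : Prop := ∀ (A : Type) [Ring A] [StarRing A] [Finite A] (F : FR A) (M : Subgroup (RingAut A)), Ctx F M →
  ∀ R : Ideal A, R ≠ ⊥ → Inv M R → (∀ x ∈ R, ∀ y ∈ R, x * star y = 0) → (∀ x ∈ R, x * F.l * star x ∈ F.L) →
    (¬ ∀ x ∈ R, ∀ a, x * a ∈ R) → PS 9 M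

/-- [C1n] non-singular points, orthogonal groups in characteristic 2 -/
def BoxNS : Prop := ∀ (A : Type) [Ring A] [StarRing A] [Finite A] (F : FR A) (M : Subgroup (RingAut A)), Ctx F M →
  ∀ R : Ideal A, R ≠ ⊥ → Inv M R → (∀ x ∈ R, ∀ y ∈ R, x * star y = 0) →
    (∀ x ∈ R, x * F.l * star x ∈ F.L → x = 0) → PS 9 M

/-- [C1, C2] orthogonal decompositions -/
def BoxIdem : Prop := ∀ (A : Type) [Ring A] [StarRing A] [Finite A] (F : FR A) (M : Subgroup (RingAut A)), Ctx F M →
  ∀ D : Finset A, Fr D → Inv M D → PS 9 M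

/-- [C2', C3] a commutative star-simple subring properly containing the centre -/
def BoxFld : Prop := ∀ (A : Type) [Ring A] [StarRing A] [Finite A] (F : FR A) (M : Subgroup (RingAut A)), Ctx F M →
  Irr M → (∀ D : Finset A, Fr D → ¬ Inv M D) →
  ∀ Z : Subring A, Subring.center A ≤ Z → ¬ Z ≤ Subring.center A → (∀ x ∈ Z, star x ∈ Z) →
    (∀ x ∈ Z, ∀ y ∈ Z, x * y = y * x) → Inv M Z → PS 9 M

/-- [C4, C7] tensor decompositions: commuting star-closed subrings with centre the centre of `A`, generating `A` -/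
def BoxTen : Prop := ∀ (A : Type) [Ring A] [StarRing A] [Finite A] (F : FR A) (M : Subgroup (RingAut A)), Ctx F M →
  Irr M → ∀ 𝓑 : Set (Subring A), 𝓑.Nontrivial → (∀ B ∈ 𝓑, Subring.center A ≤ B) → (∀ B ∈ 𝓑, ¬ B ≤ Subring.center A) →
    (∀ B ∈ 𝓑, ∀ x ∈ B, star x ∈ B) → (∀ B ∈ 𝓑, ∀ B' ∈ 𝓑, B ≠ B' → ∀ x ∈ B, ∀ y ∈ B', x * y = y * x) →
    Subring.closure (⋃ B ∈ 𝓑, (B : Set A)) = ⊤ →
    (∀ γ ∈ M, ∀ B ∈ 𝓑, B.map (γ : A →+* A) ∈ 𝓑) → PS 9 M

/-- [C6] normalizers of groups of symplectic type -/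
def BoxExt : Prop := ∀ (A : Type) [Ring A] [StarRing A] [Finite A] (F : FR A) (M N : Subgroup (RingAut A)), SS A →
  M ≤ F.Aut → N ≤ M → N ≤ F.Iso.map (cj A) → N ≠ ⊥ → (∀ x ∈ N, ∀ y ∈ N, x * y = y * x) →
  (∀ γ ∈ F.Aut, γ ∈ M ↔ ∀ x ∈ N, γ * x * γ⁻¹ ∈ N) →
  (∀ N' : Subgroup (RingAut A), N' ≤ N → (∀ γ ∈ M, ∀ x ∈ N', γ * x * γ⁻¹ ∈ N') → N' = ⊥ ∨ N' = N) →
  Subring.closure ((Subring.center A : Set A) ∪ {a | ∃ u ∈ F.Iso, cj A u ∈ N ∧ (u : A) = a}) = ⊤ → PS 9 M

/-- the theorem for form rings -/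
def BoxMain : Prop := Big → ∀ (A : Type) [Ring A] [StarRing A] [Finite A] (F : FR A) (M : Subgroup (RingAut A)),
  Ctx F M → PS 9 M

/-- from form rings to almost simple groups -/
def BoxRow : Prop := Big → ∀ (G : Type) [Group G] [Finite G] (S H : Subgroup G), Setup S H →
  Model S {α | ∃ g : G, ∀ s : S, ((α s : S) : G) = g * s * g⁻¹} → PS 9 H

/-- [M1] linear groups -/
def BoxModL : Prop := ∀ (F : Type) [Field F] [Fintype F] (n : ℕ), 2 ≤ n → (n = 2 → 4 ≤ Fintype.card F) →
  Model (Matrix.ProjectiveSpecialLinearGroup (Fin n) F) Set.univ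

/-- [M2] unitary groups -/
def BoxModU : Prop := ∀ (F : Type) [Field F] [Fintype F] (n q : ℕ), Fintype.card F = q ^ 2 → 3 ≤ n → ¬ (n = 3 ∧ q = 2) →
  Model (PSU n F q) Set.univ

/-- [M3] symplectic groups (all automorphisms unless `m = 2` and `q` is even) -/
def BoxModSp : Prop := ∀ (F : Type) [Field F] [Fintype F] (m : ℕ), 2 ≤ m → (m = 2 → 3 ≤ Fintype.card F) →
  Model (PSp m F) (Cfsg.Agent.ClassicalGeometry.SympAutSemi.Psi m F).range

/-- [M4] orthogonal groups -/
def BoxModO : Prop := ∀ (F V : Type) [Field F] [Finite F] [AddCommGroup V] [Module F V] [Finite V]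
  (Q : QuadraticForm F V), Cfsg.Agent.LieClassical.OrthTrans.Good Q →
  Model (↥(Cfsg.Agent.LieClassical.OrthCore.E Q) ⧸ Subgroup.center ↥(Cfsg.Agent.LieClassical.OrthCore.E Q))
    (Cfsg.Agent.ClassicalGeometry.OrthSemi.Psi Q).range

/-- [X1] `Sp₄(2^a)` (graph automorphisms) -/
def BoxB2 : Prop := Big → Row (fun T _ => ∃ (F : Type) (_ : Field F) (_ : Fintype F), 3 ≤ Fintype.card F ∧ (2 : F) = 0 ∧
  Nonempty (T ≃* PSp 2 F)) 9

/-- [X2] `PΩ₈⁺(q)` (triality) -/
def BoxD4 : Prop := Big → Row (fun T _ => ∃ (F : Type) (_ : Field F) (_ : Fintype F),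
  Nonempty (T ≃* POmega F (quadFormPlus 4 F))) 9

end Cfsg.Agent.DS.Cl
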