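import Cfsg.Agent.DS.Gen.Perm
import Cfsg.Agent.LieClassical.OrthFinite
import Cfsg.Agent.LieClassical.SympPerfect
import Cfsg.Agent.ClassicalGeometry.SympIso

/-!
# `BoxExt`, vector part (helper98)

The isometry group of a non-degenerate alternating form over a finite field, and the isometry group of a non-degenerate
quadratic form over the field with two elements, have `PS 6`.
-/

set_option autoImplicit false

namespace Cfsg.Agent.DS.Cl.Ext

open Cfsg Cfsg.Agent.H936 Cfsg.Agent.DS Cfsg.Agent.LieClassical Cfsg.Agent.ClassicalGeometry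
open scoped Matrix

variable {F V : Type*} [Field F] [AddCommGroup V] [Module F V]

/-- the isometry group of a bilinear form -/
def Isom (B : LinearMap.BilinForm F V) : Subgroup (V ≃ₗ[F] V) where
  carrier := {g | ∀ x y, B (g x) (g y) = B x y}
  mul_mem' := fun {g h} hg hh x y => by
    rw [LinearEquiv.mul_apply, LinearEquiv.mul_apply, hg, hh]
  one_mem' := fun _ _ => rfl
  inv_mem' := fun {g} hg x y => by
    have h1 := hg (g⁻¹ x) (g⁻¹ y)
    rw [← LinearEquiv.mul_apply, ← LinearEquiv.mul_apply, mul_inv_cancel] at h1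
    exact h1.symm

theorem mem_Isom {B : LinearMap.BilinForm F V} {g : V ≃ₗ[F] V} :
    g ∈ Isom B ↔ ∀ x y, B (g x) (g y) = B x y := Iff.rfl

/-- Linear groups on at most 24 vectors. -/
theorem ps_small [Finite V] (h : Nat.card V ≤ 24) (X : Subgroup (V ≃ₗ[F] V)) : PS 6 X := by
  let f : X →* Equiv.Perm V := (MulAction.toPermHom (V ≃ₗ[F] V) V).comp X.subtype
  have hf : Function.Injective f := MulAction.toPerm_injective.comp X.subtype_injective
  haveI : Finite X := Finite.of_injective f hf
  exact Gen.ps_of_sd (Gen.SD.of_inj f hf (Gen.sd_perm_24 h))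

/-- Symplectic groups. -/
theorem ps_sp [Finite F] [Finite V] (B : LinearMap.BilinForm F V) (hA : B.IsAlt)
    (hnd : ∀ u, (∀ v, B u v = 0) → u = 0) : PS 6 (Isom B) := by
  classical
  letI : Fintype F := Fintype.ofFinite F
  obtain ⟨m, l, b, -, -, -, h4⟩ := Cfsg.Agent.S0752.result B hA
  have hl : l = 0 := by
    by_contra hl
    have := hnd _ (h4 ⟨0, Nat.pos_of_ne_zero hl⟩)
    exact b.ne_zero _ this
  subst hl
  have hm : Module.finrank F V = 2 * m := by
    have := Module.finrank_eq_card_basis b
    simp at this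
    omega
  by_cases h : 3 ≤ m ∨ (m = 2 ∧ 3 ≤ Fintype.card F) ∨ 4 ≤ Fintype.card F
  · obtain ⟨e, he⟩ := SympIso.exists_linearEquiv_sympForm B hA hnd hm
    have hperf := SympPerfect.commutator_eq_top h
    let g : Matrix.symplecticGroup (Fin m) F →* (V ≃ₗ[F] V) :=
      MonoidHom.toHomUnits (M := V →ₗ[F] V)
        { toFun := fun A => e.toLinearMap ∘ₗ Matrix.toLin' A.1 ∘ₗ e.symm.toLinearMap
          map_one' := by ext v; simp
          map_mul' := fun A A' => by ext v; simp } |>
        (LinearMap.GeneralLinearGroup.generalLinearEquiv F V).toMonoidHom.comp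
    have hg : ∀ A v, g A v = e (A.1 *ᵥ e.symm v) := fun A v => rfl
    have hr : g.range = Isom B := by
      ext x
      constructor
      · rintro ⟨A, rfl⟩ u v
        rw [hg, hg, he, SympBasic.sympForm_mulVec A.2, ← he, e.apply_symm_apply, e.apply_symm_apply]
      · intro hx
        refine ⟨⟨LinearMap.toMatrix' (e.symm.toLinearMap ∘ₗ x.toLinearMap ∘ₗ e.toLinearMap), ?_⟩, ?_⟩
        · rw [SympBasic.mem_symplecticGroup_iff]
          intro u v
          rw [← Matrix.toLin'_apply, ← Matrix.toLin'_apply, Matrix.toLin'_toMatrix', ← he, ← he]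
          simpa using hx _ _
        · ext v
          rw [hg, ← Matrix.toLin'_apply, Matrix.toLin'_toMatrix']
          simp
    rw [← hr]
    refine (PS.range g ?_).mono (Nat.zero_le 6)
    unfold PS
    rw [derivedSeries_one, hperf, derivedSeries_zero]
  · refine ps_small ?_ _
    rw [Module.natCard_eq_pow_finrank (K := F), hm, Nat.card_eq_fintype_card]
    have h2 : 2 ≤ Fintype.card F := Fintype.one_lt_card
    have h3 : Fintype.card F ≤ 3 := by omega
    have h5 : m ≤ 2 := by omega
    generalize Fintype.card F = q at *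
    interval_cases m <;> interval_cases q <;> simp_all

/-- Orthogonal groups over the field with two elements. -/
theorem ps_o {V : Type*} [AddCommGroup V] [Module (ZMod 2) V] [Finite V] (Q : QuadraticForm (ZMod 2) V)
    (hQ : OrthCore.Nondeg Q) : PS 6 (OrthCore.O Q) := by
  by_cases h : 5 ≤ Module.finrank (ZMod 2) V
  · have hG := OrthFinite.good_of_finite hQ h
    have h1 : (derivedSeries (OrthCore.O Q) 1).map (OrthCore.O Q).subtype = OrthCore.E Q := by
      rw [derivedSeries_succ, derivedSeries_zero, Subgroup.map_commutator, ← MonoidHom.range_eq_map,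
        Subgroup.range_subtype, hG.commutator_eq_E]
    refine PS.mono (k := 1) ?_ (by norm_num)
    unfold PS
    apply Subgroup.map_injective (OrthCore.O Q).subtype_injective
    rw [derivedSeries_succ _ 1, Subgroup.map_commutator, h1, hG.E_perfect]
  · refine ps_small ?_ _
    rw [Module.natCard_eq_pow_finrank (K := ZMod 2), Nat.card_zmod]
    calc 2 ^ Module.finrank (ZMod 2) V ≤ 2 ^ 4 := Nat.pow_le_pow_right (by norm_num) (by omega)
      _ ≤ 24 := by norm_num

end Cfsg.Agent.DS.Cl.Ext
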