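import Cfsg.Agent.DS.Cl.ExtL
import Cfsg.Agent.DS.Cl.ExtV

/-!
# `BoxExt`, groups of symplectic type: the automorphisms fixing the centre (helper98)

`Sty.ps_fix`: the group of the automorphisms of `H` fixing the centre `U` pointwise is an extension of an abelian group
by a full symplectic or orthogonal group, so it has `PS 7`.
-/

set_option autoImplicit false

namespace Cfsg.Agent.DS.Cl.Ext

open Cfsg.Agent.H936 Cfsg.Agent.LieClassical
open scoped commutatorElement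

universe u

variable {H : Type u} [Group H]

theorem ps_one_of_comm {G : Type*} [Group G] (h : ∀ x y : G, x * y = y * x) : PS 1 G := by
  apply PS.of_bot
  rw [derivedSeries_succ, derivedSeries_zero, eq_bot_iff, Subgroup.commutator_le]
  intro x _ y _
  rw [Subgroup.mem_bot, commutatorElement_eq_one_iff_mul_comm]
  exact h x y

namespace Sty

variable {U : Subgroup H} {r : ℕ} (h : Sty U r)
include h

section vec

variable {V : Type*} [AddCommGroup V] [Module (ZMod r) V] {π : H → V} (hπ : Pr U π)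
include hπ

omit h in
theorem exists_rho : ∃ ρ : Fix U →* (V ≃ₗ[ZMod r] V), ∀ (φ : Fix U) x, ρ φ (π x) = π (φ.1 x) := by
  choose s hs using hπ.surj
  have key : ∀ (φ : Fix U) x y, π x = π y → π (φ.1 x) = π (φ.1 y) := by
    intro φ x y hxy
    obtain ⟨c, hc, rfl⟩ := hπ.exists_of_eq hxy
    rw [map_mul, φ.2 c hc, hπ.mul_mem _ hc]
  let f : Fix U → V →+ V := fun φ => AddMonoidHom.mk' (fun v => π (φ.1 (s v))) fun v w => by
    rw [← hπ.mul, ← map_mul]
    apply key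
    rw [hπ.mul, hs, hs, hs]
  have hf : ∀ φ x, f φ (π x) = π (φ.1 x) := fun φ x => key φ _ _ (hs _)
  let g : Fix U →* Module.End (ZMod r) V :=
    { toFun := fun φ => (f φ).toZModLinearMap r
      map_one' := by
        ext v
        obtain ⟨x, rfl⟩ := hπ.surj v
        exact hf 1 x
      map_mul' := fun φ ψ => by
        ext v
        obtain ⟨x, rfl⟩ := hπ.surj v
        change f (φ * ψ) (π x) = f φ (f ψ (π x))
        rw [hf, hf, hf]
        rfl }
  exact ⟨(LinearMap.GeneralLinearGroup.generalLinearEquiv (ZMod r) V).toMonoidHom.comp g.toHomUnits, hf⟩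

theorem ps_of_range {ρ : Fix U →* (V ≃ₗ[ZMod r] V)} (hρ : ∀ (φ : Fix U) x, ρ φ (π x) = π (φ.1 x)) {k : ℕ}
    (hk : PS k ρ.range) : PS (1 + k) (Fix U) := by
  refine PS.of_ker ρ.rangeRestrict_surjective ?_ hk
  rw [MonoidHom.ker_rangeRestrict]
  apply ps_one_of_comm
  have key : ∀ φ : ρ.ker, ∀ x, ∃ c ∈ U, φ.1.1 x = x * c := by
    intro φ x
    apply hπ.exists_of_eq
    rw [← hρ, φ.2]
    rfl
  intro φ ψ
  ext x
  change φ.1.1 (ψ.1.1 x) = ψ.1.1 (φ.1.1 x)
  obtain ⟨c, hc, h1⟩ := key φ x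
  obtain ⟨d, hd, h2⟩ := key ψ x
  rw [h1, h2, map_mul, map_mul, h1, h2, φ.1.2 d hd, ψ.1.2 c hc, mul_assoc, mul_assoc, h.central d hd]

end vec

/-- the elements of `U` of order dividing `r` -/
def W : Subgroup H where
  carrier := {c | c ∈ U ∧ c ^ r = 1}
  mul_mem' := fun {c d} hc hd => ⟨U.mul_mem hc.1 hd.1, by rw [h.mul_pow_of_mem _ hd.1, hc.2, hd.2, mul_one]⟩
  one_mem' := ⟨U.one_mem, one_pow _⟩
  inv_mem' := fun {c} hc => ⟨U.inv_mem hc.1, by rw [inv_pow, hc.2, inv_one]⟩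

theorem comm_mem_W (x y : H) : ⁅x, y⁆ ∈ h.W := ⟨h.comm x y, h.comm_pow_r x y⟩

theorem card_W [Finite H] : Nat.card h.W = r := by
  classical
  have := h.cyc
  let : Fintype U := Fintype.ofFinite U
  have h1 := IsCyclic.card_pow_eq_one_le (α := U) h.prime.pos
  have h2 : Nat.card h.W ≤ r := by
    refine le_trans ?_ h1
    rw [← Fintype.card_coe, ← Nat.card_eq_fintype_card]
    refine Nat.card_le_card_of_injective (fun c => ⟨⟨c.1, c.2.1⟩, ?_⟩) ?_
    · rw [Finset.mem_filter]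
      exact ⟨Finset.mem_univ _, Subtype.ext c.2.2⟩
    · intro c d hcd
      exact Subtype.ext (congrArg (fun z => z.1.1) hcd)
  obtain ⟨x, y, hxy⟩ := h.exists_comm_ne
  have : Fact r.Prime := ⟨h.prime⟩
  have h3 : orderOf (⟨⁅x, y⁆, h.comm_mem_W x y⟩ : h.W) = r :=
    orderOf_eq_prime (Subtype.ext (h.comm_pow_r x y)) fun he => hxy (congrArg Subtype.val he)
  have h4 := orderOf_dvd_natCard (⟨⁅x, y⁆, h.comm_mem_W x y⟩ : h.W)
  rw [h3] at h4
  exact le_antisymm h2 (Nat.le_of_dvd Nat.card_pos h4)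

theorem exists_log [Finite H] : ∃ lg : H → ZMod r, (∀ c ∈ h.W, ∀ d ∈ h.W, lg (c * d) = lg c + lg d) ∧
    ∀ c ∈ h.W, ∀ d ∈ h.W, lg c = lg d → c = d := by
  classical
  have : Fact r.Prime := ⟨h.prime⟩
  let e : h.W ≃* Multiplicative (ZMod r) := mulEquivOfPrimeCardEq h.card_W (by simp)
  refine ⟨fun c => if hc : c ∈ h.W then Multiplicative.toAdd (e ⟨c, hc⟩) else 0, fun c hc d hd => ?_,
    fun c hc d hd hcd => ?_⟩
  · simp only [dif_pos hc, dif_pos hd, dif_pos (h.W.mul_mem hc hd)]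
    rw [← toAdd_mul, ← map_mul]
    rfl
  · simp only [dif_pos hc, dif_pos hd] at hcd
    exact congrArg Subtype.val (e.injective (Multiplicative.toAdd.injective hcd))

section form

variable {V : Type*} [AddCommGroup V] [Module (ZMod r) V] {π : H → V} (hπ : Pr U π) {lg : H → ZMod r}
  (hl : ∀ c ∈ h.W, ∀ d ∈ h.W, lg (c * d) = lg c + lg d) (hl' : ∀ c ∈ h.W, ∀ d ∈ h.W, lg c = lg d → c = d)

include hl in
theorem lg_one : lg 1 = 0 := by
  have := hl 1 h.W.one_mem 1 h.W.one_mem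
  rw [mul_one] at this
  simpa using this

include hπ hl in
theorem exists_form : ∃ B : LinearMap.BilinForm (ZMod r) V, ∀ x y, B (π x) (π y) = lg ⁅x, y⁆ := by
  choose s hs using hπ.surj
  have key : ∀ x y x' y', π x = π x' → π y = π y' → ⁅x, y⁆ = ⁅x', y'⁆ := by
    intro x y x' y' hx hy
    obtain ⟨c, hc, rfl⟩ := hπ.exists_of_eq hx
    obtain ⟨d, hd, rfl⟩ := hπ.exists_of_eq hy
    rw [h.comm_mul_left, h.comm_eq_one_left hc, mul_one, h.comm_mul_right, h.comm_eq_one_right _ hd, mul_one]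
  have a1 : ∀ v v' w, lg ⁅s (v + v'), s w⁆ = lg ⁅s v, s w⁆ + lg ⁅s v', s w⁆ := by
    intro v v' w
    rw [← hl _ (h.comm_mem_W _ _) _ (h.comm_mem_W _ _), ← h.comm_mul_left,
      key _ _ (s v * s v') (s w) (by rw [hπ.mul, hs, hs, hs]) rfl]
  have a2 : ∀ v w w', lg ⁅s v, s (w + w')⁆ = lg ⁅s v, s w⁆ + lg ⁅s v, s w'⁆ := by
    intro v w w'
    rw [← hl _ (h.comm_mem_W _ _) _ (h.comm_mem_W _ _), ← h.comm_mul_right,
      key _ _ (s v) (s w * s w') rfl (by rw [hπ.mul, hs, hs, hs])]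
  refine ⟨LinearMap.mk₂ (ZMod r) (fun v w => lg ⁅s v, s w⁆) a1 (fun c v w => ?_) a2 (fun c v w => ?_), fun x y => ?_⟩
  · exact ZMod.map_smul (AddMonoidHom.mk' (fun v => lg ⁅s v, s w⁆) fun v v' => a1 v v' w) c v
  · exact ZMod.map_smul (AddMonoidHom.mk' (fun w => lg ⁅s v, s w⁆) fun w w' => a2 v w w') c w
  · exact congrArg lg (key _ _ x y (hs _) (hs _))

include hπ hl hl' in
theorem form_nd {B : LinearMap.BilinForm (ZMod r) V} (hB : ∀ x y, B (π x) (π y) = lg ⁅x, y⁆) (v : V)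
    (hv : ∀ w, B v w = 0) : v = 0 := by
  obtain ⟨x, rfl⟩ := hπ.surj v
  rw [hπ.ker]
  refine h.nd x fun y => commutatorElement_eq_one_iff_mul_comm.1 (hl' _ (h.comm_mem_W _ _) _ h.W.one_mem ?_)
  rw [← hB, hv, h.lg_one hl]

end form

theorem exists_pr [Finite H] : ∃ (V : Type u) (_ : AddCommGroup V) (_ : Module (ZMod r) V) (_ : Finite V)
    (π : H → V), Pr U π := by
  have : U.Normal := ⟨fun c hc x => by rwa [h.central c hc, mul_inv_cancel_right]⟩
  let : CommGroup (H ⧸ U) :=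
    { (inferInstance : Group (H ⧸ U)) with
      mul_comm := fun a b => by
        obtain ⟨x, rfl⟩ := QuotientGroup.mk_surjective a
        obtain ⟨y, rfl⟩ := QuotientGroup.mk_surjective b
        rw [← commutatorElement_eq_one_iff_mul_comm]
        change QuotientGroup.mk' U x * QuotientGroup.mk' U y * (QuotientGroup.mk' U x)⁻¹ *
          (QuotientGroup.mk' U y)⁻¹ = 1
        rw [← map_inv, ← map_inv, ← map_mul, ← map_mul, ← map_mul]
        exact (QuotientGroup.eq_one_iff _).2 (h.comm x y) }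
  refine ⟨Additive (H ⧸ U), inferInstance, AddCommGroup.zmodModule fun a => ?_, inferInstance,
    fun x => Additive.ofMul (QuotientGroup.mk x), fun x y => rfl, fun a => ?_, fun x => ?_⟩
  · obtain ⟨x, hx⟩ := QuotientGroup.mk_surjective (Additive.toMul a)
    apply Additive.toMul.injective
    rw [toMul_nsmul, ← hx, ← QuotientGroup.mk_pow]
    exact (QuotientGroup.eq_one_iff _).2 (h.pow x)
  · obtain ⟨x, hx⟩ := QuotientGroup.mk_surjective (Additive.toMul a)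
    exact ⟨x, congrArg Additive.ofMul hx⟩
  · exact QuotientGroup.eq_one_iff x

/-- The symplectic case. -/
theorem ps_fix_sp [Finite H] (hT : ∀ x, ∃ c ∈ U, x ^ r = c ^ r) : PS 7 (Fix U) := by
  have : Fact r.Prime := ⟨h.prime⟩
  obtain ⟨V, _, _, _, π, hπ⟩ := h.exists_pr
  obtain ⟨lg, hl, hl'⟩ := h.exists_log
  obtain ⟨B, hB⟩ := h.exists_form hπ hl
  obtain ⟨ρ, hρ⟩ := exists_rho (r := r) hπ
  refine h.ps_of_range (k := 6) hπ hρ ?_
  have hr : ρ.range = Isom B := by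
    ext α
    constructor
    · rintro ⟨φ, rfl⟩ v w
      obtain ⟨x, rfl⟩ := hπ.surj v
      obtain ⟨y, rfl⟩ := hπ.surj w
      rw [hρ, hρ, hB, hB, ← map_commutatorElement, φ.2 _ (h.comm x y)]
    · intro hα
      obtain ⟨φ, hφ, hφ'⟩ := h.exists_lift hπ α.toAddEquiv (fun x y x' y' hx hy => by
        refine hl' _ (h.comm_mem_W _ _) _ (h.comm_mem_W _ _) ?_
        rw [← hB, ← hB, hx, hy]
        exact hα _ _) (fun x x' _ => by
        obtain ⟨c, hc, e⟩ := hT x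
        obtain ⟨c', hc', e'⟩ := hT x'
        refine ⟨c⁻¹ * c', U.mul_mem (U.inv_mem hc) hc', ?_⟩
        rw [e, e', h.mul_pow_of_mem _ hc', inv_pow, mul_inv_cancel_left])
      refine ⟨⟨φ, hφ⟩, ?_⟩
      ext v
      obtain ⟨x, rfl⟩ := hπ.surj v
      rw [hρ]
      exact hφ' x
  rw [hr]
  refine ps_sp B (fun v => ?_) (h.form_nd hπ hl hl' hB)
  obtain ⟨x, rfl⟩ := hπ.surj v
  rw [hB, commutatorElement_self, h.lg_one hl]

end Sty

/-- The orthogonal case. -/
theorem Sty.ps_fix_o [Finite H] {U : Subgroup H} (h : Sty U 2) (h4 : ¬ 4 ∣ Nat.card U) : PS 7 (Fix U) := by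
  obtain ⟨V, _, _, _, π, hπ⟩ := h.exists_pr
  obtain ⟨lg, hl, hl'⟩ := h.exists_log
  obtain ⟨B, hB⟩ := h.exists_form hπ hl
  obtain ⟨ρ, hρ⟩ := Sty.exists_rho (r := 2) hπ
  refine h.ps_of_range (k := 6) hπ hρ ?_
  obtain ⟨m, hm⟩ : 2 ∣ Nat.card U := by
    rw [← h.card_W]
    exact Subgroup.card_dvd_of_le fun c hc => hc.1
  obtain ⟨j, hj⟩ : Odd m := by
    rw [← Nat.not_even_iff_odd]
    rintro ⟨j, rfl⟩
    exact h4 ⟨j, by omega⟩
  have hW : ∀ c ∈ U, c ^ m ∈ h.W := by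
    intro c hc
    refine ⟨U.pow_mem hc m, ?_⟩
    rw [← pow_mul, mul_comm, ← hm]
    exact congrArg Subtype.val (pow_card_eq_one' (x := (⟨c, hc⟩ : U)))
  have hWm : ∀ w ∈ h.W, w ^ m = w := by
    intro w hw
    rw [hj, pow_succ, pow_mul, hw.2, one_pow, one_mul]
  have hq1 : ∀ x y, π x = π y → (x ^ 2) ^ m = (y ^ 2) ^ m := by
    intro x y hxy
    obtain ⟨c, hc, rfl⟩ := hπ.exists_of_eq hxy
    rw [h.mul_pow_of_mem _ hc, h.mul_pow_of_mem _ (U.pow_mem hc 2), ← pow_mul c, mul_comm 2, pow_mul c, (hW c hc).2,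
      mul_one]
  have hq2 : ∀ x y, lg (((x * y) ^ 2) ^ m) = lg ((x ^ 2) ^ m) + lg ((y ^ 2) ^ m) + lg ⁅y, x⁆ := by
    intro x y
    rw [h.mul_pow, Nat.choose_self, pow_one, h.mul_pow_of_mem _ (h.comm y x), h.mul_pow_of_mem _ (h.pow y),
      hWm _ (h.comm_mem_W y x), hl _ (h.W.mul_mem (hW _ (h.pow x)) (hW _ (h.pow y))) _ (h.comm_mem_W y x),
      hl _ (hW _ (h.pow x)) _ (hW _ (h.pow y))]
  choose s hs using hπ.surj
  have hs0 : lg ((s 0 ^ 2) ^ m) = 0 := by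
    rw [hq1 (s 0) 1 (by rw [hs, hπ.one]), one_pow, one_pow, h.lg_one hl]
  let Q : QuadraticForm (ZMod 2) V :=
    { toFun := fun v => lg ((s v ^ 2) ^ m)
      toFun_smul := fun a v => by
        have ha : a = 0 ∨ a = 1 := by revert a; decide
        rcases ha with rfl | rfl
        · rw [zero_smul, hs0, zero_mul, zero_smul]
        · rw [one_smul, one_mul, one_smul]
      exists_companion' := ⟨B.flip, fun v w => by
        rw [hq1 (s (v + w)) (s v * s w) (by rw [hπ.mul, hs, hs, hs]), hq2, ← hB, hs, hs]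
        rfl⟩ }
  have hQ : ∀ x, Q (π x) = lg ((x ^ 2) ^ m) := fun x => congrArg lg (hq1 _ _ (hs _))
  have hpol : ∀ x y, QuadraticMap.polar Q (π x) (π y) = lg ⁅y, x⁆ := by
    intro x y
    rw [QuadraticMap.polar, ← hπ.mul, hQ, hQ, hQ, hq2]
    ring
  have hr : ρ.range = OrthCore.O Q := by
    ext α
    constructor
    · rintro ⟨φ, rfl⟩ v
      obtain ⟨x, rfl⟩ := hπ.surj v
      rw [hρ, hQ, hQ, ← map_pow, φ.2 _ (h.pow x)]
    · intro hα
      obtain ⟨φ, hφ, hφ'⟩ := h.exists_lift hπ α.toAddEquiv (fun x y x' y' hx hy => by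
        refine hl' _ (h.comm_mem_W _ _) _ (h.comm_mem_W _ _) ?_
        rw [← hpol, ← hpol, hx, hy]
        exact OrthCore.polar_map hα _ _) (fun x x' hx => by
        have e : (x' ^ 2) ^ m = (x ^ 2) ^ m := by
          refine hl' _ (hW _ (h.pow _)) _ (hW _ (h.pow _)) ?_
          rw [← hQ, ← hQ, hx]
          exact hα _
        have hd : (x ^ 2)⁻¹ * x' ^ 2 ∈ U := U.mul_mem (U.inv_mem (h.pow x)) (h.pow x')
        have e2 : ((x ^ 2)⁻¹ * x' ^ 2) ^ m = 1 := by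
          rw [h.mul_pow_of_mem _ (h.pow x'), inv_pow, e, inv_mul_cancel]
        refine ⟨((x ^ 2)⁻¹ * x' ^ 2) ^ (j + 1), U.pow_mem hd _, ?_⟩
        rw [← pow_mul, show (j + 1) * 2 = m + 1 by omega, pow_succ _ m, e2, one_mul, mul_inv_cancel_left])
      refine ⟨⟨φ, hφ⟩, ?_⟩
      ext v
      obtain ⟨x, rfl⟩ := hπ.surj v
      rw [hρ]
      exact hφ' x
  rw [hr]
  refine ps_o Q fun v hv => ?_
  obtain ⟨x, rfl⟩ := hπ.surj v
  rw [hπ.ker]
  refine h.nd x fun y => (commutatorElement_eq_one_iff_mul_comm.1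
    (hl' _ (h.comm_mem_W y x) _ h.W.one_mem ?_)).symm
  rw [← hpol, hv, h.lg_one hl]

namespace Sty

variable {U : Subgroup H} {r : ℕ} (h : Sty U r)
include h

theorem ps_fix [Finite H] (hT : (∀ x, ∃ c ∈ U, x ^ r = c ^ r) ∨ (r = 2 ∧ ¬ 4 ∣ Nat.card U)) : PS 7 (Fix U) := by
  rcases hT with hT | ⟨rfl, hT⟩
  · exact h.ps_fix_sp hT
  · exact h.ps_fix_o hT

/-- Outside the orthogonal case the power map is a homomorphism modulo `U ^ r`. -/
theorem mul_pow_mod [Finite H] (hQ : ¬ (r = 2 ∧ ¬ 4 ∣ Nat.card U)) (x y : H) :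
    ∃ c ∈ U, (x * y) ^ r = x ^ r * y ^ r * c ^ r := by
  rw [h.mul_pow]
  rcases h.prime.eq_two_or_odd' with rfl | ⟨j, hj⟩
  · have h4 : 4 ∣ Nat.card U := by
      by_contra h4
      exact hQ ⟨rfl, h4⟩
    by_cases h1 : ⁅y, x⁆ = 1
    · exact ⟨1, U.one_mem, by rw [h1, one_pow, one_pow]⟩
    have := h.cyc
    obtain ⟨g, hg⟩ := IsCyclic.exists_ofOrder_eq_natCard (α := U)
    obtain ⟨k, hk⟩ := h4
    have hk0 : k ≠ 0 := by
      rintro rfl
      exact (Nat.card_pos (α := U)).ne' hk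
    have h2 : ((g : H) ^ k) ^ 2 ∈ h.W := by
      refine ⟨U.pow_mem (U.pow_mem g.2 k) 2, ?_⟩
      rw [← pow_mul, ← pow_mul, mul_comm k, ← show Nat.card U = 2 * 2 * k from hk, ← hg]
      exact congrArg Subtype.val (pow_orderOf_eq_one g)
    have h3 : ((g : H) ^ k) ^ 2 ≠ 1 := by
      intro he
      have h5 : orderOf g ∣ k * 2 := by
        apply orderOf_dvd_of_pow_eq_one
        rw [pow_mul]
        exact Subtype.ext he
      rw [hg, hk] at h5
      have := Nat.le_of_dvd (by omega) h5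
      omega
    obtain ⟨lg, hl, hl'⟩ := h.exists_log
    have key : ∀ w ∈ h.W, w ≠ 1 → lg w = 1 := by
      intro w hw hw1
      have h5 : lg w ≠ 0 := fun h0 => hw1 (hl' _ hw _ h.W.one_mem (by rw [h0, h.lg_one hl]))
      revert h5
      generalize lg w = a
      revert a
      decide
    refine ⟨(g : H) ^ k, U.pow_mem g.2 k, ?_⟩
    rw [Nat.choose_self, pow_one, hl' _ (h.comm_mem_W y x) _ h2 (by rw [key _ (h.comm_mem_W y x) h1, key _ h2 h3])]
  · refine ⟨1, U.one_mem, ?_⟩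
    have e : r.choose 2 = r * j := by
      rw [Nat.choose_two_right, hj, Nat.add_sub_cancel, mul_comm 2 j, ← mul_assoc, Nat.mul_div_cancel _ two_pos]
    rw [e, pow_mul, h.comm_pow_r, one_pow, one_pow]

theorem exists_powSub [Finite H] (hQ : ¬ (r = 2 ∧ ¬ 4 ∣ Nat.card U)) :
    ∃ K : Subgroup H, (∀ x, x ∈ K ↔ ∃ c ∈ U, x ^ r = c ^ r) ∧ ¬ K ≤ U := by
  let K : Subgroup H :=
    { carrier := {x | ∃ c ∈ U, x ^ r = c ^ r}
      mul_mem' := by
        rintro x y ⟨c, hc, e⟩ ⟨d, hd, e'⟩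
        obtain ⟨f, hf, e''⟩ := h.mul_pow_mod hQ x y
        refine ⟨c * d * f, U.mul_mem (U.mul_mem hc hd) hf, ?_⟩
        rw [e'', e, e', h.mul_pow_of_mem _ hf, h.mul_pow_of_mem _ hd]
      one_mem' := ⟨1, U.one_mem, rfl⟩
      inv_mem' := by
        rintro x ⟨c, hc, e⟩
        exact ⟨c⁻¹, U.inv_mem hc, by rw [inv_pow, inv_pow, e]⟩ }
  refine ⟨K, fun _ => Iff.rfl, fun hK => ?_⟩
  obtain ⟨x, y, hxy⟩ := h.exists_comm_ne
  have := h.cyc
  obtain ⟨g, hg⟩ := IsCyclic.exists_generator (α := U)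
  obtain ⟨a, ha⟩ := Subgroup.mem_zpowers_iff.1 (hg ⟨_, h.pow x⟩)
  obtain ⟨b, hb⟩ := Subgroup.mem_zpowers_iff.1 (hg ⟨_, h.pow y⟩)
  have ha' : (g : H) ^ a = x ^ r := by simpa using congrArg Subtype.val ha
  have hb' : (g : H) ^ b = y ^ r := by simpa using congrArg Subtype.val hb
  by_cases hr : (r : ℤ) ∣ a
  · obtain ⟨j, rfl⟩ := hr
    refine hxy (h.comm_eq_one_left (hK ⟨(g : H) ^ j, U.zpow_mem g.2 j, ?_⟩) y)
    rw [← ha', mul_comm, zpow_mul, zpow_natCast]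
  · obtain ⟨u, v, huv⟩ : IsCoprime (r : ℤ) a :=
      (Nat.prime_iff_prime_int.1 h.prime).irreducible.coprime_iff_not_dvd.2 hr
    obtain ⟨c, hc, e⟩ := h.mul_pow_mod hQ y (x ^ (-(v * b)))
    have h1 : y * x ^ (-(v * b)) ∈ U := by
      refine hK ⟨(g : H) ^ (u * b) * c, U.mul_mem (U.zpow_mem g.2 _) hc, ?_⟩
      rw [e, h.mul_pow_of_mem _ hc, ← zpow_natCast (x ^ _), ← zpow_mul, mul_comm _ (r : ℤ), zpow_mul, zpow_natCast,
        ← ha', ← hb', ← zpow_mul, ← zpow_add, ← zpow_natCast (_ ^ (u * b)), ← zpow_mul]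
      congr 2
      linear_combination (-b) * huv
    apply hxy
    have h2 : y = y * x ^ (-(v * b)) * x ^ (v * b) := by group
    rw [h2, h.comm_mul_right, h.comm_eq_one_right _ h1, one_mul, commutatorElement_eq_one_iff_mul_comm]
    exact (Commute.zpow_right (Commute.refl x) _).eq

end Sty

end Cfsg.Agent.DS.Cl.Ext
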