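import Cfsg.Agent.DS.Cl.ExtR
import Cfsg.Agent.DS.Cl.ExtG

/-!
# `BoxExt`: normalizers of groups of symplectic type (helper98)
-/

set_option autoImplicit false

namespace Cfsg.Agent.DS.Cl.Ext

open Cfsg.Agent.DS.Cl Cfsg.Agent.H936
open scoped commutatorElement

theorem ps_of_commutator_le {G : Type*} [Group G] (K : Subgroup G) (hK : ∀ x y : G, ⁅x, y⁆ ∈ K) {k : ℕ}
    (h : PS k K) : PS (k + 1) G := by
  have : K.Normal := ⟨fun x hx g => by
    have e : g * x * g⁻¹ = ⁅g, x⁆ * x := by rw [commutatorElement_def]; group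
    rw [e]
    exact K.mul_mem (hK g x) hx⟩
  refine PS.of_normal K h (ps_one_of_comm fun a b => ?_)
  obtain ⟨x, rfl⟩ := QuotientGroup.mk'_surjective K a
  obtain ⟨y, rfl⟩ := QuotientGroup.mk'_surjective K b
  rw [← commutatorElement_eq_one_iff_mul_comm, ← map_commutatorElement]
  exact (QuotientGroup.eq_one_iff _).2 (hK x y)

variable {A : Type} [Ring A] [StarRing A] {F : FR A} {M N : Subgroup (RingAut A)}

omit [StarRing A] in
theorem exists_exp [Finite A] (hne : N ≠ ⊥) (hc : ∀ x ∈ N, ∀ y ∈ N, x * y = y * x)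
    (hinv : ∀ γ ∈ M, ∀ x ∈ N, γ * x * γ⁻¹ ∈ N)
    (hmin : ∀ N' : Subgroup (RingAut A), N' ≤ N → (∀ γ ∈ M, ∀ x ∈ N', γ * x * γ⁻¹ ∈ N') → N' = ⊥ ∨ N' = N) :
    ∃ r : ℕ, r.Prime ∧ ∀ x ∈ N, x ^ r = 1 := by
  have : Finite (RingAut A) := Finite.of_injective (fun γ : RingAut A => (γ : A → A)) DFunLike.coe_injective
  obtain ⟨r, hr, hd⟩ := Nat.exists_prime_and_dvd (n := Nat.card N) fun h1 => hne (Subgroup.card_eq_one.1 h1)
  have : Fact r.Prime := ⟨hr⟩
  obtain ⟨z, hz⟩ := exists_prime_orderOf_dvd_card' r hd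
  let N' : Subgroup (RingAut A) :=
    { carrier := {x | x ∈ N ∧ x ^ r = 1}
      mul_mem' := fun {x y} hx hy => ⟨N.mul_mem hx.1 hy.1, by
        rw [Commute.mul_pow (hc x hx.1 y hy.1), hx.2, hy.2, mul_one]⟩
      one_mem' := ⟨N.one_mem, one_pow _⟩
      inv_mem' := fun {x} hx => ⟨N.inv_mem hx.1, by rw [inv_pow, hx.2, inv_one]⟩ }
  refine ⟨r, hr, ?_⟩
  rcases hmin N' (fun x hx => hx.1) (fun γ hγ x hx => ⟨hinv γ hγ x hx.1, by
    rw [conj_pow, hx.2, mul_one, mul_inv_cancel]⟩) with h1 | h1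
  · exfalso
    have h2 : (z : RingAut A) ∈ N' := ⟨z.2, by
      rw [← hz]
      exact congrArg Subtype.val (pow_orderOf_eq_one z)⟩
    rw [h1, Subgroup.mem_bot] at h2
    rw [show z = 1 from Subtype.ext h2, orderOf_one] at hz
    exact hr.one_lt.ne hz
  · intro x hx
    rw [← h1] at hx
    exact hx.2

theorem map_mem_Nh (hM : M ≤ F.Aut) (hinv : ∀ γ ∈ M, ∀ x ∈ N, γ * x * γ⁻¹ ∈ N) (γ : M) (u : Nh F N) :
    Units.map ((γ : RingAut A) : A →* A) u ∈ Nh F N := by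
  have hγ := hM γ.2
  have h1 : (γ : RingAut A) (u : Aˣ) * star ((γ : RingAut A) (u : Aˣ)) = 1 := by
    rw [← hγ.1, ← map_mul, mul_star, map_one]
  refine ⟨?_, h1, ?_⟩
  · change cj A _ ∈ N
    rw [← conj_cj]
    exact hinv _ γ.2 _ u.2.1
  · change (γ : RingAut A) (u : Aˣ) * F.l * star ((γ : RingAut A) (u : Aˣ)) - F.l ∈ F.L
    have h2 := F.map_mem hγ.1 u.2.2.2
    have h3 := F.conj_mem hγ.2 ((γ : RingAut A) (u : Aˣ))
    have h4 := F.L.add_mem (F.L.sub_mem h2 h3) hγ.2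
    rw [map_sub, map_mul, map_mul, hγ.1] at h4
    convert h4 using 1
    noncomm_ring

theorem exists_res (hM : M ≤ F.Aut) (hinv : ∀ γ ∈ M, ∀ x ∈ N, γ * x * γ⁻¹ ∈ N) :
    ∃ f : M →* MulAut (Nh F N), ∀ (γ : M) (u : Nh F N), ((f γ u : Aˣ) : A) = (γ : RingAut A) (u : Aˣ) :=
  ⟨{ toFun := fun γ =>
      { toFun := fun u => ⟨_, map_mem_Nh hM hinv γ u⟩
        invFun := fun u => ⟨_, map_mem_Nh hM hinv γ⁻¹ u⟩
        left_inv := fun _ => Subtype.ext (Units.ext ((γ : RingAut A).symm_apply_apply _))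
        right_inv := fun _ => Subtype.ext (Units.ext ((γ : RingAut A).apply_symm_apply _))
        map_mul' := fun _ _ => Subtype.ext (Units.ext (map_mul (γ : RingAut A) _ _)) }
     map_one' := rfl
     map_mul' := fun _ _ => rfl }, fun _ _ => rfl⟩

theorem boxExt : BoxExt := by
  intro A _ _ _ F M N hA hM hNM hN hne hc hnorm hmin hsp
  have hsp' : Sp F N := hsp
  have hinv : ∀ γ ∈ M, ∀ x ∈ N, γ * x * γ⁻¹ ∈ N := fun γ hγ => (hnorm γ (hM hγ)).1 hγ
  obtain ⟨r, hr, hp⟩ := exists_exp hne hc hinv hmin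
  have h := sty_of hA hN hne hc hr hp hsp'
  have : Finite (Nh F N) := Finite.of_injective (fun u : Nh F N => ((u : Aˣ) : A))
    (Units.val_injective.comp Subtype.val_injective)
  obtain ⟨f, hf⟩ := exists_res hM hinv
  have hcj : ∀ (γ : RingAut A) (u v : Nh F N), γ (u : Aˣ) = (v : Aˣ) → γ * cj A u * γ⁻¹ = cj A v := by
    intro γ u v huv
    rw [conj_cj]
    exact congrArg (cj A) (Units.ext huv)
  have hT : (∀ x, ∃ c ∈ Uh F N, x ^ r = c ^ r) ∨ (r = 2 ∧ ¬ 4 ∣ Nat.card (Uh F N)) := by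
    refine or_iff_not_imp_right.2 fun hQ => ?_
    obtain ⟨K, hK, hKU⟩ := h.exists_powSub hQ
    rcases hmin (K.map ((cj A).comp (Nh F N).subtype)) (by rintro _ ⟨u, -, rfl⟩; exact u.2.1) (by
      rintro γ hγ _ ⟨u, hu, rfl⟩
      refine ⟨f ⟨γ, hγ⟩ u, ?_, (hcj γ u _ (hf ⟨γ, hγ⟩ u).symm).symm⟩
      obtain ⟨c, hc, e⟩ := (hK u).1 hu
      refine (hK _).2 ⟨f ⟨γ, hγ⟩ c, ?_, by rw [← map_pow, e, map_pow]⟩
      rw [mem_Uh, hf]
      exact map_cen γ hc) with h1 | h1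
    · refine absurd (fun u hu => ?_) hKU
      have h2 : cj A u ∈ K.map ((cj A).comp (Nh F N).subtype) := ⟨u, hu, rfl⟩
      rw [h1, Subgroup.mem_bot] at h2
      exact cj_eq_one_iff.1 h2
    · intro x
      have h2 : cj A x ∈ K.map ((cj A).comp (Nh F N).subtype) := by rw [h1]; exact x.2.1
      obtain ⟨k, hk, hkx⟩ := h2
      have h3 : k⁻¹ * x ∈ Uh F N := by
        rw [mem_Uh, ← cj_eq_one_iff, Subgroup.coe_mul, map_mul, Subgroup.coe_inv, map_inv, inv_mul_eq_one]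
        exact hkx
      have h4 := K.mul_mem hk ((hK _).2 ⟨_, h3, rfl⟩)
      rw [mul_inv_cancel_left] at h4
      exact (hK x).1 h4
  have h7 := h.ps_fix hT
  let g : (Lin A).subgroupOf M →* Fix (Uh F N) := (f.comp ((Lin A).subgroupOf M).subtype).codRestrict _
    fun γ c hc => Subtype.ext (Units.ext ((hf γ.1 c).trans (γ.2 _ hc)))
  have hg : Function.Bijective g := by
    constructor
    · rw [injective_iff_map_eq_one]
      intro γ hγ
      ext a
      change (γ.1 : RingAut A) a = a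
      refine hsp'.ind (P := fun a => (γ.1 : RingAut A) a = a) (fun c hc u => ?_)
        (fun a b ha hb => by rw [map_add, ha, hb]) a
      have h1 : f γ.1 = 1 := congrArg Subtype.val hγ
      have h2 : (γ.1 : RingAut A) c = c := γ.2 c hc
      rw [map_mul, h2, ← hf, h1]
      rfl
    · intro φ
      obtain ⟨γ, hγ, hγ', hγu⟩ := exists_ext hA h hsp' φ.2
      have hγM : γ ∈ M := by
        rw [hnorm γ hγ]
        intro x hx
        obtain ⟨u, hu, rfl⟩ := hN hx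
        rw [hcj γ ⟨u, hx, hu⟩ _ (hγu _)]
        exact (φ.1 ⟨u, hx, hu⟩).2.1
      refine ⟨⟨⟨γ, hγM⟩, hγ'⟩, Subtype.ext (MulEquiv.ext fun u => Subtype.ext (Units.ext ?_))⟩
      exact (hf ⟨γ, hγM⟩ u).trans (hγu u)
  refine (ps_of_commutator_le ((Lin A).subgroupOf M) (fun γ δ c hc => ?_)
    (PS.of_equiv (MulEquiv.ofBijective g hg).symm h7)).mono (by norm_num)
  change (γ : RingAut A) ((δ : RingAut A) ((γ : RingAut A)⁻¹ ((δ : RingAut A)⁻¹ c))) = c
  rw [comm_on_center hA (hM γ.2).1 (hM δ.2).1 (map_cen _ (map_cen _ hc))]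
  change (δ : RingAut A) ((γ : RingAut A) ((γ : RingAut A).symm ((δ : RingAut A).symm c))) = c
  rw [RingEquiv.apply_symm_apply, RingEquiv.apply_symm_apply]

end Cfsg.Agent.DS.Cl.Ext
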