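import Cfsg.Agent.DS.Cl.Ring

/-!
# `BoxExt`: the centre of a finite star-simple ring (helper98)

The automorphisms commuting with `star` commute on the centre; finite groups of central isometries are cyclic.
-/

set_option autoImplicit false

namespace Cfsg.Agent.DS.Cl.Ext

open Cfsg.Agent.DS.Cl

/-- An endomorphism of a finite field is a power map. -/
theorem exists_pow_field {K : Type*} [Field K] [Finite K] (g : K →+* K) : ∃ n : ℕ, ∀ x, g x = x ^ n := by
  obtain ⟨t, ht⟩ := IsCyclic.exists_monoid_generator (α := Kˣ)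
  obtain ⟨n, hn⟩ := ht (Units.map (g : K →* K) t)
  have hn' : t ^ n = Units.map (g : K →* K) t := hn
  refine ⟨n + Nat.card Kˣ, fun x => ?_⟩
  by_cases hx : x = 0
  · rw [hx, map_zero, zero_pow (Nat.add_pos_right _ Nat.card_pos).ne']
  obtain ⟨k, hk⟩ := ht (Units.mk0 x hx)
  have hk' : t ^ k = Units.mk0 x hx := hk
  have h1 : Units.map (g : K →* K) (Units.mk0 x hx) = Units.mk0 x hx ^ (n + Nat.card Kˣ) := by
    rw [pow_add, pow_card_eq_one', mul_one, ← hk', map_pow, ← hn', ← pow_mul, ← pow_mul, mul_comm]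
  simpa using congrArg Units.val h1

theorem exists_pow_of_map {C : Type*} [CommRing C] [Finite C] (σ g : C →+* C)
    (hg : ∀ x, g (σ x) = σ (g x)) (m : Ideal C) [m.IsMaximal] (hm : ∀ x ∈ m, σ x ∈ m → x = 0)
    (hgm : ∀ x ∈ m, g x ∈ m) : ∃ n : ℕ, ∀ x, g x = x ^ n := by
  let : Field (C ⧸ m) := Ideal.Quotient.field m
  have : Finite (C ⧸ m) := Finite.of_surjective _ Ideal.Quotient.mk_surjective
  have hle : m ≤ m.comap g := fun x hx => hgm x hx
  obtain ⟨n, hn⟩ := exists_pow_field (Ideal.quotientMap m g hle)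
  have key : ∀ x, g x - x ^ n ∈ m := by
    intro x
    rw [← Ideal.Quotient.eq, map_pow, ← hn, Ideal.quotientMap_mk]
  refine ⟨n, fun x => sub_eq_zero.1 (hm _ (key x) ?_)⟩
  rw [map_sub, map_pow, ← hg]
  exact key _

theorem exists_pow_comm {C : Type*} [CommRing C] [Finite C] [Nontrivial C] (σ g : C →+* C) (hσ : ∀ x, σ (σ x) = x)
    (hg : ∀ x, g (σ x) = σ (g x)) (hu : ∀ x e, x ≠ 0 → σ x = e * x → IsUnit x) :
    ∃ n : ℕ, (∀ x, g x = x ^ n) ∨ ∀ x, g x = σ x ^ n := by
  obtain ⟨m, hmax⟩ := Ideal.exists_maximal C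
  have h0 : ∀ x ∈ m, ∀ e, σ x = e * x → x = 0 := by
    intro x hx e he
    by_contra hne
    exact hmax.ne_top (m.eq_top_of_isUnit_mem hx (hu x e hne he))
  have hm : ∀ x ∈ m, σ x ∈ m → x = 0 := by
    intro x hx hx'
    have h1 := h0 _ (m.add_mem hx hx') 1 (by rw [map_add, hσ, one_mul, add_comm])
    exact h0 x hx (-1) (by linear_combination h1)
  have hp : (m.comap g).IsPrime := Ideal.comap_isPrime g m
  have h1 : m * m.comap σ ≤ m.comap g := by
    rw [Ideal.mul_le]
    intro x hx y hy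
    rw [hm (x * y) (m.mul_mem_right _ hx) (by rw [map_mul]; exact m.mul_mem_left _ hy)]
    exact Ideal.zero_mem _
  rcases hp.mul_le.1 h1 with h2 | h2
  · obtain ⟨n, hn⟩ := exists_pow_of_map σ g hg m hm fun x hx => h2 hx
    exact ⟨n, Or.inl hn⟩
  · obtain ⟨n, hn⟩ := exists_pow_of_map σ (g.comp σ) (fun x => hg (σ x)) m hm fun x hx =>
      h2 (show σ (σ x) ∈ m by rwa [hσ])
    refine ⟨n, Or.inr fun x => ?_⟩
    rw [← hn, RingHom.comp_apply, hσ]

variable {A : Type} [Ring A] [StarRing A]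

theorem isUnit_of_star (h : SS A) {c e : A} (hc : c ∈ Subring.center A) (hs : star c = e * c) (hne : c ≠ 0) :
    IsUnit c := by
  have h1 : ∀ x ∈ Ideal.span {c}, star x ∈ Ideal.span {c} := by
    intro x hx
    obtain ⟨b, rfl⟩ := Ideal.mem_span_singleton'.1 hx
    exact Ideal.mem_span_singleton'.2 ⟨e * star b, by rw [star_mul, hs, mul_assoc, mul_assoc, cen_comm hc]⟩
  rcases h.eq_bot_or_top (two_span_cen hc) h1 with h2 | h2
  · exact absurd (Ideal.span_singleton_eq_bot.1 h2) hne
  · have h3 : (1 : A) ∈ Ideal.span {c} := by rw [h2]; trivial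
    obtain ⟨b, hb⟩ := Ideal.mem_span_singleton'.1 h3
    exact ⟨⟨c, b, by rw [← cen_comm hc, hb], hb⟩, rfl⟩

omit [StarRing A] in
theorem isUnit_center {c : Subring.center A} (h : IsUnit (c : A)) : IsUnit c := by
  obtain ⟨u, hu⟩ := h
  have hu' : (u : A) ∈ Subring.center A := hu ▸ c.2
  refine IsUnit.of_mul_eq_one ⟨_, inv_cen hu'⟩ (Subtype.ext ?_)
  change (c : A) * ((u⁻¹ : Aˣ) : A) = 1
  rw [← hu, Units.mul_inv]

/-- `c - 1` is invertible for a central isometry `c ≠ 1`. -/
theorem isUnit_sub_one (h : SS A) {c : A} (hc : c ∈ Subring.center A) (hs : c * star c = 1) (hne : c ≠ 1) :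
    IsUnit (c - 1) := by
  refine isUnit_of_star h (e := -star c) (Subring.sub_mem _ hc (Subring.one_mem _)) ?_ (sub_ne_zero.2 hne)
  rw [star_sub, star_one, mul_sub, neg_mul, cen_comm hc, hs, mul_one]
  abel

theorem isCyclic_of_cen [Finite A] (h : SS A) {G : Type*} [Group G] (f : G →* A) (hf : Function.Injective f)
    (hc : ∀ x, f x ∈ Subring.center A) (hs : ∀ x, f x * star (f x) = 1) : IsCyclic G := by
  have := h.nontrivial
  have : Finite G := Finite.of_injective f hf
  obtain ⟨m, hmax⟩ := Ideal.exists_maximal (Subring.center A)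
  let : Field (Subring.center A ⧸ m) := Ideal.Quotient.field m
  let f' : G →* Subring.center A := f.codRestrict (Subring.center A) hc
  refine isCyclic_of_injective_ringHom ((Ideal.Quotient.mk m).toMonoidHom.comp f') ?_
  rw [injective_iff_map_eq_one]
  intro x hx
  by_contra hne
  have h1 : f' x - 1 ∈ m := by
    rw [← Ideal.Quotient.eq]
    exact hx
  refine hmax.ne_top (m.eq_top_of_isUnit_mem h1 (isUnit_center ?_))
  exact isUnit_sub_one h (hc x) (hs x) fun he => hne (hf (by rw [map_one]; exact he))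

theorem comm_on_center [Finite A] (h : SS A) {γ δ : RingAut A} (hγ : γ ∈ SAut A) (hδ : δ ∈ SAut A) {c : A}
    (hc : c ∈ Subring.center A) : γ (δ c) = δ (γ c) := by
  have := h.nontrivial
  let σ : Subring.center A →+* Subring.center A :=
    { toFun := fun x => ⟨star x.1, star_cen x.2⟩
      map_one' := Subtype.ext (star_one A)
      map_mul' := fun x y => Subtype.ext (by
        change star (x.1 * y.1) = star x.1 * star y.1
        rw [cen_comm y.2, star_mul])
      map_zero' := Subtype.ext (star_zero A)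
      map_add' := fun x y => Subtype.ext (star_add x.1 y.1) }
  let g : Subring.center A →+* Subring.center A :=
    (δ : A →+* A).restrict _ _ fun x hx => map_cen δ hx
  obtain ⟨n, hn⟩ := exists_pow_comm σ g (fun x => Subtype.ext (star_star x.1)) (fun x => Subtype.ext (hδ x.1))
    fun x e hx he => isUnit_center (isUnit_of_star h (e := e) x.2 (congrArg Subtype.val he)
      fun h0 => hx (Subtype.ext h0))
  rcases hn with hn | hn
  · have h1 : ∀ x ∈ Subring.center A, δ x = x ^ n := fun x hx =>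
      (congrArg Subtype.val (hn ⟨x, hx⟩)).trans (SubmonoidClass.coe_pow _ _)
    rw [h1 c hc, h1 _ (map_cen γ hc), map_pow]
  · have h1 : ∀ x ∈ Subring.center A, δ x = star x ^ n := fun x hx =>
      (congrArg Subtype.val (hn ⟨x, hx⟩)).trans (SubmonoidClass.coe_pow _ _)
    rw [h1 c hc, h1 _ (map_cen γ hc), map_pow, hγ]

end Cfsg.Agent.DS.Cl.Ext
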