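import Mathlib

/-!
# `BoxExt`, groups of symplectic type: the lifting lemma (helper98)

`H` is a finite group, `U` its centre, `H / U` is elementary abelian of exponent `r`.  An automorphism of `H / U`
preserving commutators and `r`-th powers (modulo `U ^ r`) lifts to an automorphism of `H` fixing `U` pointwise.
-/

set_option autoImplicit false

namespace Cfsg.Agent.DS.Cl.Ext

open scoped commutatorElement Pointwise

variable {H : Type*} [Group H]

/-- `U` is the cyclic centre of `H`, and `H / U` is a non-trivial elementary abelian `r`-group -/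
structure Sty (U : Subgroup H) (r : ℕ) : Prop where
  prime : r.Prime
  central : ∀ c ∈ U, ∀ x, x * c = c * x
  comm : ∀ x y : H, ⁅x, y⁆ ∈ U
  pow : ∀ x, x ^ r ∈ U
  nd : ∀ x, (∀ y, x * y = y * x) → x ∈ U
  cyc : IsCyclic U
  ne : ∃ x, x ∉ U

/-- the automorphisms fixing `U` pointwise -/
def Fix (U : Subgroup H) : Subgroup (MulAut H) where
  carrier := {φ | ∀ c ∈ U, φ c = c}
  mul_mem' := fun {φ ψ} hφ hψ c hc => by
    rw [MulAut.mul_apply, hψ c hc, hφ c hc]
  one_mem' := fun _ _ => rfl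
  inv_mem' := fun {φ} hφ c hc => by
    apply φ.injective
    rw [MulAut.apply_inv_self, hφ c hc]

/-- `π` is the projection onto `H / U`, written additively -/
structure Pr {V : Type*} [AddCommGroup V] (U : Subgroup H) (π : H → V) : Prop where
  mul : ∀ x y, π (x * y) = π x + π y
  surj : Function.Surjective π
  ker : ∀ x, π x = 0 ↔ x ∈ U

namespace Pr

variable {V : Type*} [AddCommGroup V] {U : Subgroup H} {π : H → V} (hπ : Pr U π)
include hπ

theorem one : π 1 = 0 := (hπ.ker 1).2 U.one_mem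

theorem inv (x : H) : π x⁻¹ = -π x := by
  rw [eq_neg_iff_add_eq_zero, ← hπ.mul, inv_mul_cancel, hπ.one]

theorem mul_mem (x : H) {c : H} (hc : c ∈ U) : π (x * c) = π x := by
  rw [hπ.mul, (hπ.ker c).2 hc, add_zero]

theorem exists_of_eq {x y : H} (h : π x = π y) : ∃ c ∈ U, y = x * c := by
  refine ⟨x⁻¹ * y, ?_, by group⟩
  rw [← hπ.ker, hπ.mul, hπ.inv, h, neg_add_cancel]

end Pr

namespace Sty

variable {U : Subgroup H} {r : ℕ} (h : Sty U r)
include h

theorem comm_mul_left (x x' y : H) : ⁅x * x', y⁆ = ⁅x, y⁆ * ⁅x', y⁆ := by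
  have h1 := h.central _ (h.comm x' y)
  calc ⁅x * x', y⁆ = x * ⁅x', y⁆ * (y * x⁻¹ * y⁻¹) := by simp only [commutatorElement_def]; group
    _ = x * (y * x⁻¹ * y⁻¹) * ⁅x', y⁆ := by rw [mul_assoc x, ← h1, ← mul_assoc]
    _ = _ := by simp only [commutatorElement_def]; group

theorem comm_mul_right (x y y' : H) : ⁅x, y * y'⁆ = ⁅x, y⁆ * ⁅x, y'⁆ := by
  rw [← commutatorElement_inv, h.comm_mul_left, mul_inv_rev, commutatorElement_inv, commutatorElement_inv,
    h.central _ (h.comm x y)]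

theorem comm_eq_one_left {c : H} (hc : c ∈ U) (y : H) : ⁅c, y⁆ = 1 :=
  commutatorElement_eq_one_iff_mul_comm.2 (h.central c hc y).symm

theorem comm_eq_one_right (x : H) {c : H} (hc : c ∈ U) : ⁅x, c⁆ = 1 :=
  commutatorElement_eq_one_iff_mul_comm.2 (h.central c hc x)

theorem comm_pow_left (x y : H) (n : ℕ) : ⁅x ^ n, y⁆ = ⁅x, y⁆ ^ n := by
  induction n with
  | zero => simp
  | succ n ih => rw [pow_succ, h.comm_mul_left, ih, pow_succ]

theorem comm_pow_r (x y : H) : ⁅x, y⁆ ^ r = 1 := by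
  rw [← h.comm_pow_left, h.comm_eq_one_left (h.pow x)]

theorem mul_pow (x y : H) (n : ℕ) : (x * y) ^ n = x ^ n * y ^ n * ⁅y, x⁆ ^ n.choose 2 := by
  induction n with
  | zero => simp
  | succ n ih =>
    have h1 : y ^ n * x = ⁅y, x⁆ ^ n * (x * y ^ n) := by
      rw [← h.comm_pow_left, commutatorElement_def]; group
    have h2 := h.central _ (U.pow_mem (h.comm y x) (n.choose 2))
    have h3 := h.central _ (U.pow_mem (h.comm y x) n)
    have h4 : (n + 1).choose 2 = n + n.choose 2 := by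
      rw [Nat.choose_succ_succ' n 1, Nat.choose_one_right]
    rw [pow_succ, ih, h4, pow_add ⁅y, x⁆, pow_succ x, pow_succ y]
    generalize ⁅y, x⁆ ^ n.choose 2 = d at h2 ⊢
    generalize ⁅y, x⁆ ^ n = e at h1 h3 ⊢
    calc x ^ n * y ^ n * d * (x * y) = x ^ n * (y ^ n * x) * y * d := by
          rw [mul_assoc, ← h2]; simp only [mul_assoc]
      _ = x ^ n * (x * y ^ n * e) * y * d := by rw [h1, h3]
      _ = x ^ n * (x * y ^ n) * (e * y) * d := by simp only [mul_assoc]
      _ = _ := by rw [← h3]; simp only [mul_assoc]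

theorem mul_pow_of_mem (x : H) {c : H} (hc : c ∈ U) (n : ℕ) : (x * c) ^ n = x ^ n * c ^ n :=
  Commute.mul_pow (h.central c hc x) n

theorem exists_comm_ne : ∃ x y : H, ⁅x, y⁆ ≠ 1 := by
  obtain ⟨x, hx⟩ := h.ne
  by_contra hc
  push Not at hc
  exact hx (h.nd x fun y => commutatorElement_eq_one_iff_mul_comm.1 (hc x y))

/-- **The lifting lemma.** -/
theorem exists_lift [Finite H] {V : Type*} [AddCommGroup V] {π : H → V} (hπ : Pr U π) (α : V ≃+ V)
    (h1 : ∀ x y x' y', π x' = α (π x) → π y' = α (π y) → ⁅x', y'⁆ = ⁅x, y⁆)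
    (h2 : ∀ x x', π x' = α (π x) → ∃ c ∈ U, x' ^ r = x ^ r * c ^ r) :
    ∃ φ ∈ Fix U, ∀ x, π (φ x) = α (π x) := by
  let P : Subgroup (H × H) :=
    { carrier := {p | π p.2 = α (π p.1)}
      mul_mem' := fun {p q} (hp : π p.2 = α (π p.1)) (hq : π q.2 = α (π q.1)) => by
        show π (p.2 * q.2) = α (π (p.1 * q.1))
        rw [hπ.mul, hπ.mul, map_add, hp, hq]
      one_mem' := by
        show π 1 = α (π 1)
        rw [hπ.one, map_zero]
      inv_mem' := fun {p} (hp : π p.2 = α (π p.1)) => by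
        show π p.2⁻¹ = α (π p.1⁻¹)
        rw [hπ.inv, hπ.inv, map_neg, hp] }
  have hP : ∀ p : H × H, p ∈ P ↔ π p.2 = α (π p.1) := fun _ => Iff.rfl
  obtain ⟨Γ, ⟨hΓP, hΓU, hΓ1⟩, hmax⟩ := WellFounded.has_min (wellFounded_gt (α := Subgroup (H × H)))
    {Γ | Γ ≤ P ∧ (∀ c ∈ U, (c, c) ∈ Γ) ∧ ∀ y, (1, y) ∈ Γ → y = 1}
    ⟨U.map ((MonoidHom.id H).prod (MonoidHom.id H)), by
      rintro _ ⟨c, hc, rfl⟩
      show π c = α (π c)
      rw [(hπ.ker c).2 hc, map_zero], fun c hc => ⟨c, hc, rfl⟩, by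
      rintro y ⟨c, -, hc⟩
      have h3 : c = 1 := congrArg Prod.fst hc
      have h4 : c = y := congrArg Prod.snd hc
      rw [← h4, h3]⟩
  have hall : ∀ x, ∃ y, (x, y) ∈ Γ := by
    intro x
    by_contra hx
    obtain ⟨y0, hy0⟩ := hπ.surj (α (π x))
    obtain ⟨c, hc, hcy⟩ := h2 x y0 hy0
    have hy : (y0 * c⁻¹) ^ r = x ^ r := by
      rw [h.mul_pow_of_mem _ (U.inv_mem hc), hcy, inv_pow, mul_inv_cancel_right]
    have hgP : (x, y0 * c⁻¹) ∈ P := by
      show π (y0 * c⁻¹) = α (π x)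
      rw [hπ.mul_mem _ (U.inv_mem hc), hy0]
    set g : H × H := (x, y0 * c⁻¹) with hg
    have hgr : g ^ r ∈ Γ := by
      have : g ^ r = (x ^ r, x ^ r) := Prod.ext rfl hy
      rw [this]
      exact hΓU _ (h.pow x)
    have hPn : P ≤ Subgroup.normalizer (Γ : Set (H × H)) := by
      have key : ∀ p ∈ P, ∀ q ∈ Γ, p * q * p⁻¹ ∈ Γ := by
        intro p hp q hq
        have e : p * q * p⁻¹ = (⁅p.1, q.1⁆, ⁅p.1, q.1⁆) * q := by
          refine Prod.ext ?_ ?_
          · show p.1 * q.1 * p.1⁻¹ = ⁅p.1, q.1⁆ * q.1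
            rw [commutatorElement_def]; group
          · show p.2 * q.2 * p.2⁻¹ = ⁅p.1, q.1⁆ * q.2
            rw [← h1 _ _ _ _ hp (hΓP hq), commutatorElement_def]; group
        rw [e]
        exact Γ.mul_mem (hΓU _ (h.comm _ _)) hq
      intro p hp
      rw [Subgroup.mem_normalizer_iff]
      intro q
      refine ⟨key p hp q, fun hq => ?_⟩
      have := key p⁻¹ (P.inv_mem hp) _ hq
      simpa [mul_assoc] using this
    have hzP : Subgroup.zpowers g ≤ P := by
      rw [Subgroup.zpowers_le]; exact hgP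
    have hsup := Subgroup.coe_mul_of_right_le_normalizer_left Γ (Subgroup.zpowers g) (hzP.trans hPn)
    refine hmax (Γ ⊔ Subgroup.zpowers g) ⟨sup_le hΓP hzP, fun c hc => Subgroup.mem_sup_left (hΓU c hc), ?_⟩ ?_
    · intro y hy'
      have hy2 : (1, y) ∈ ((Γ : Set (H × H)) * (Subgroup.zpowers g : Set (H × H))) := hsup ▸ hy'
      obtain ⟨q, hq, _, ⟨k, rfl⟩, hqk⟩ := hy2
      have hqk' : q * g ^ k = (1, y) := hqk
      by_cases hk : (r : ℤ) ∣ k
      · obtain ⟨j, rfl⟩ := hk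
        apply hΓ1
        rw [← hqk', zpow_mul, zpow_natCast]
        exact Γ.mul_mem hq (Γ.zpow_mem hgr j)
      · exfalso
        have hcop : IsCoprime (r : ℤ) k :=
          (Nat.prime_iff_prime_int.1 h.prime).irreducible.coprime_iff_not_dvd.2 hk
        obtain ⟨a, b, hab⟩ := hcop
        have h5 : x ^ k = q.1⁻¹ := by
          have h6 : q.1 * x ^ k = 1 := congrArg Prod.fst hqk'
          exact (eq_inv_of_mul_eq_one_right h6)
        have h6 : x ∈ Γ.map (MonoidHom.fst H H) := by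
          have e : x = (x ^ r) ^ a * (x ^ k) ^ b := by
            rw [← zpow_natCast, ← zpow_mul, ← zpow_mul, ← zpow_add, mul_comm (r : ℤ), mul_comm k, hab, zpow_one]
          rw [e]
          refine Subgroup.mul_mem _ (Subgroup.zpow_mem _ (Subgroup.mem_map.2 ⟨g ^ r, hgr, rfl⟩) _)
            (Subgroup.zpow_mem _ ?_ _)
          rw [h5]
          exact Subgroup.inv_mem _ (Subgroup.mem_map.2 ⟨q, hq, rfl⟩)
        obtain ⟨p, hp, hpx⟩ := h6
        exact hx ⟨p.2, by rw [← show p.1 = x from hpx]; exact hp⟩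
    · refine lt_of_le_of_ne le_sup_left fun he => hx ⟨y0 * c⁻¹, ?_⟩
      rw [he]
      exact Subgroup.mem_sup_right (Subgroup.mem_zpowers g)
  choose f hf using hall
  have huniq : ∀ x y, (x, y) ∈ Γ → f x = y := by
    intro x y hxy
    have h3 : (1, y⁻¹ * f x) ∈ Γ := by
      have := Γ.mul_mem (Γ.inv_mem hxy) (hf x)
      simpa using this
    exact (inv_mul_eq_one.1 (hΓ1 _ h3)).symm
  let φ : H →* H := MonoidHom.mk' f fun x y => huniq _ _ (Γ.mul_mem (hf x) (hf y))
  have hφU : ∀ c ∈ U, φ c = c := fun c hc => huniq _ _ (hΓU c hc)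
  have hφπ : ∀ x, π (φ x) = α (π x) := fun x => hΓP (hf x)
  have hinj : Function.Injective φ := by
    rw [injective_iff_map_eq_one]
    intro x hx
    have h3 : x ∈ U := by
      rw [← hπ.ker, ← α.map_eq_zero_iff, ← hφπ, hx, hπ.one]
    rw [← hφU x h3, hx]
  exact ⟨MulEquiv.ofBijective φ (Finite.injective_iff_bijective.1 hinj), hφU, hφπ⟩

end Sty

end Cfsg.Agent.DS.Cl.Ext
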