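import Cfsg.Agent.DS.Cl.ExtC
import Cfsg.Agent.DS.Cl.ExtL

/-!
# `BoxExt`: the ring as a twisted group ring (helper98)

`Nh F N` is the group of the isometries inducing elements of `N`, `Uh F N` the subgroup of the central ones.  Every
automorphism of `Nh F N` fixing `Uh F N` pointwise extends to an automorphism of the ring (`exists_ext`).
-/

set_option autoImplicit false

namespace Cfsg.Agent.DS.Cl.Ext

open Cfsg.Agent.DS.Cl
open scoped commutatorElement

variable {A : Type} [Ring A] [StarRing A]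

omit [StarRing A] in
theorem cj_eq_one_iff {u : Aˣ} : cj A u = 1 ↔ (u : A) ∈ Subring.center A := by
  rw [Subring.mem_center_iff]
  constructor
  · intro h x
    have h1 : (u : A) * x * (u⁻¹ : Aˣ) = x := congrArg (fun γ : RingAut A => γ x) h
    rw [Units.mul_inv_eq_iff_eq_mul] at h1
    exact h1.symm
  · intro h
    ext x
    change (u : A) * x * (u⁻¹ : Aˣ) = x
    rw [← h, Units.mul_inv_cancel_right]

omit [StarRing A] in
theorem conj_cj (γ : RingAut A) (u : Aˣ) : γ * cj A u * γ⁻¹ = cj A (Units.map (γ : A →* A) u) := by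
  ext x
  change γ ((u : A) * γ.symm x * (u⁻¹ : Aˣ)) = γ u * x * γ (u⁻¹ : Aˣ)
  rw [map_mul, map_mul, γ.apply_symm_apply]

variable (F : FR A) (N : Subgroup (RingAut A))

/-- the isometries inducing elements of `N` -/
def Nh : Subgroup Aˣ := N.comap (cj A) ⊓ F.Iso

/-- the central isometries -/
def Uh : Subgroup (Nh F N) where
  carrier := {u | ((u : Aˣ) : A) ∈ Subring.center A}
  mul_mem' := fun hu hv => (Subring.center A).mul_mem hu hv
  one_mem' := (Subring.center A).one_mem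
  inv_mem' := fun hu => inv_cen hu

/-- the lifts of the elements of `N` and the centre generate the ring -/
def Sp : Prop :=
  Subring.closure ((Subring.center A : Set A) ∪ {a | ∃ u ∈ F.Iso, cj A u ∈ N ∧ (u : A) = a}) = ⊤

variable {F N}

theorem mem_Uh {u : Nh F N} : u ∈ Uh F N ↔ ((u : Aˣ) : A) ∈ Subring.center A := Iff.rfl

theorem mul_star (u : Nh F N) : ((u : Aˣ) : A) * star ((u : Aˣ) : A) = 1 := u.2.2.1

theorem star_eq (u : Nh F N) : star ((u : Aˣ) : A) = (((u⁻¹ : Nh F N) : Aˣ) : A) := by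
  change _ = (((u : Aˣ)⁻¹ : Aˣ) : A)
  rw [← mul_one (((u : Aˣ)⁻¹ : Aˣ) : A), ← mul_star u, ← mul_assoc, Units.inv_mul, one_mul]

theorem Sp.ind (hsp : Sp F N) {P : A → Prop} (h1 : ∀ c ∈ Subring.center A, ∀ u : Nh F N, P (c * (u : Aˣ)))
    (h2 : ∀ a b, P a → P b → P (a + b)) (a : A) : P a := by
  let T : Submonoid A :=
    { carrier := {a | ∃ c ∈ Subring.center A, ∃ u : Nh F N, a = c * (u : Aˣ)}
      mul_mem' := by
        rintro _ _ ⟨c, hc, u, rfl⟩ ⟨d, hd, v, rfl⟩
        refine ⟨c * d, Subring.mul_mem _ hc hd, u * v, ?_⟩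
        rw [Subgroup.coe_mul, Units.val_mul, mul_assoc, mul_assoc, ← mul_assoc _ d, cen_comm hd, mul_assoc]
      one_mem' := ⟨1, Subring.one_mem _, 1, by simp⟩ }
  have h3 : Submonoid.closure ((Subring.center A : Set A) ∪ {a | ∃ u ∈ F.Iso, cj A u ∈ N ∧ (u : A) = a}) ≤ T := by
    rw [Submonoid.closure_le]
    rintro a (ha | ⟨u, hu, hu', rfl⟩)
    · exact ⟨a, ha, 1, by simp⟩
    · exact ⟨1, Subring.one_mem _, ⟨u, hu', hu⟩, (one_mul _).symm⟩
  have h4 : a ∈ AddSubgroup.closure (T : Set A) := by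
    have h5 : a ∈ Subring.closure ((Subring.center A : Set A) ∪ {a | ∃ u ∈ F.Iso, cj A u ∈ N ∧ (u : A) = a}) := by
      rw [show Subring.closure _ = ⊤ from hsp]; trivial
    rw [Subring.mem_closure_iff] at h5
    exact AddSubgroup.closure_mono h3 h5
  suffices h5 : P a ∧ P (-a) from h5.1
  induction h4 using AddSubgroup.closure_induction with
  | mem x hx =>
    obtain ⟨c, hc, u, rfl⟩ := hx
    exact ⟨h1 c hc u, by rw [← neg_mul]; exact h1 _ (Subring.neg_mem _ hc) u⟩
  | zero =>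
    have := h1 0 (Subring.zero_mem _) 1
    rw [zero_mul] at this
    exact ⟨this, by rwa [neg_zero]⟩
  | add x y _ _ hx hy => exact ⟨h2 _ _ hx.1 hy.1, by rw [neg_add]; exact h2 _ _ hx.2 hy.2⟩
  | neg x _ hx => exact ⟨hx.2, by rw [neg_neg]; exact hx.1⟩

theorem sty_of [Finite A] (hA : SS A) (hN : N ≤ F.Iso.map (cj A)) (hne : N ≠ ⊥)
    (hc : ∀ x ∈ N, ∀ y ∈ N, x * y = y * x) {r : ℕ} (hr : r.Prime) (hp : ∀ x ∈ N, x ^ r = 1) (hsp : Sp F N) :
    Sty (Uh F N) r where
  prime := hr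
  central := fun c hc x => Subtype.ext (Units.ext (cen_comm hc _))
  comm := fun x y => by
    rw [mem_Uh, ← cj_eq_one_iff]
    change cj A ⁅(x : Aˣ), (y : Aˣ)⁆ = 1
    rw [map_commutatorElement, commutatorElement_eq_one_iff_mul_comm]
    exact hc _ x.2.1 _ y.2.1
  pow := fun x => by
    rw [mem_Uh, ← cj_eq_one_iff, Subgroup.coe_pow, map_pow]
    exact hp _ x.2.1
  nd := fun x hx => by
    rw [mem_Uh, Subring.mem_center_iff]
    refine hsp.ind (fun c hc u => ?_) fun a b ha hb => by rw [add_mul, mul_add, ha, hb]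
    have h1 : ((x : Aˣ) : A) * (u : Aˣ) = (u : Aˣ) * (x : Aˣ) := congrArg (fun z : Nh F N => ((z : Aˣ) : A)) (hx u)
    rw [mul_assoc, ← h1, ← mul_assoc, ← mul_assoc, cen_comm hc]
  cyc := isCyclic_of_cen hA ((Units.coeHom A).comp ((Nh F N).subtype.comp (Uh F N).subtype))
    (Units.val_injective.comp (Subtype.val_injective.comp Subtype.val_injective)) (fun x => x.2) fun x => mul_star x.1
  ne := by
    obtain ⟨x, hx, hx1⟩ := (N.bot_or_exists_ne_one).resolve_left hne
    obtain ⟨u, hu, rfl⟩ := hN hx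
    exact ⟨⟨u, hx, hu⟩, fun h => hx1 (cj_eq_one_iff.2 h)⟩

section ext

variable {r : ℕ} (hA : SS A) (h : Sty (Uh F N) r)
include hA h

theorem L_eq : F.L = Lmax A := by
  obtain ⟨x, y, hxy⟩ := h.exists_comm_ne
  have hc : (((⁅x, y⁆ : Nh F N) : Aˣ) : A) ∈ Subring.center A := h.comm x y
  have hs := mul_star ⁅x, y⁆
  have hne : (((⁅x, y⁆ : Nh F N) : Aˣ) : A) ≠ 1 := fun he => hxy (Subtype.ext (Units.ext he))
  generalize (((⁅x, y⁆ : Nh F N) : Aˣ) : A) = z at hc hs hne
  obtain ⟨w, hw⟩ := isUnit_sub_one hA hc hs hne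
  have hw' : (w : A) ∈ Subring.center A := hw ▸ Subring.sub_mem _ hc (Subring.one_mem _)
  have h1 : (z - 1) * ((w⁻¹ : Aˣ) : A) = 1 := by rw [← hw, Units.mul_inv]
  have h2 : star ((w⁻¹ : Aˣ) : A) * (star z - 1) = 1 := by
    have := congrArg star h1
    rwa [star_mul, star_sub, star_one] at this
  have h3 : (star z - 1) * (-(z * ((w⁻¹ : Aˣ) : A))) = 1 := by
    calc (star z - 1) * (-(z * ((w⁻¹ : Aˣ) : A))) = (z - star z * z) * ((w⁻¹ : Aˣ) : A) := by noncomm_ring
      _ = 1 := by rw [cen_comm hc, hs, h1]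
  have h4 : star ((w⁻¹ : Aˣ) : A) = -(z * ((w⁻¹ : Aˣ) : A)) := by
    rw [← mul_one (star _), ← h3, ← mul_assoc, h2, one_mul]
  refine F.L_eq (c := -((w⁻¹ : Aˣ) : A)) (Subring.neg_mem _ (inv_cen hw')) ?_
  rw [star_neg, h4, ← h1]
  noncomm_ring

theorem indep {ι : Type*} (s : ι → Nh F N) (hs : ∀ i j, s i * (s j)⁻¹ ∈ Uh F N → i = j) (t : Finset ι) :
    ∀ g : ι → A, (∀ i, g i ∈ Subring.center A) → ∑ i ∈ t, g i * (s i : Aˣ) = 0 → ∀ i ∈ t, g i = 0 := by
  classical
  induction t using Finset.induction_on with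
  | empty => intro g _ _ i hi; simp at hi
  | insert a t ha ih =>
    intro g hg h0
    have key : ∀ i ∈ t, g i = 0 := by
      intro i hi
      obtain ⟨x, hx⟩ : ∃ x, ⁅x, s i * (s a)⁻¹⁆ ≠ 1 := by
        by_contra hc
        push Not at hc
        have := hs _ _ (h.nd _ fun y => (commutatorElement_eq_one_iff_mul_comm.1 (hc y)).symm)
        exact ha (this ▸ hi)
      let κ : ι → A := fun j => ((⁅x, s j⁆ : Nh F N) : Aˣ)
      have hκ : ∀ j, κ j ∈ Subring.center A := fun j => h.comm x (s j)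
      have h1 : ∀ j, ((x : Aˣ) : A) * (g j * (s j : Aˣ)) * ((x⁻¹ : Nh F N) : Aˣ) = κ j * g j * (s j : Aˣ) := by
        intro j
        have e : x * s j * x⁻¹ = ⁅x, s j⁆ * s j := by rw [commutatorElement_def]; group
        have e' : ((x : Aˣ) : A) * (s j : Aˣ) * ((x⁻¹ : Nh F N) : Aˣ) = κ j * (s j : Aˣ) :=
          congrArg (fun z : Nh F N => ((z : Aˣ) : A)) e
        rw [← mul_assoc, cen_comm (hg j), mul_assoc, mul_assoc, ← mul_assoc _ ((s j : Aˣ) : A), e', ← mul_assoc,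
          cen_comm (hκ j)]
      have h2 : ∑ j ∈ insert a t, κ j * g j * (s j : Aˣ) = 0 := by
        simp only [← h1]
        rw [← Finset.sum_mul, ← Finset.mul_sum, h0, mul_zero, zero_mul]
      have h3 : ∑ j ∈ insert a t, (κ j - κ a) * g j * (s j : Aˣ) = 0 := by
        simp only [sub_mul, Finset.sum_sub_distrib, h2, mul_assoc (κ a)]
        rw [← Finset.mul_sum, h0, mul_zero, sub_zero]
      rw [Finset.sum_insert ha, sub_self, zero_mul, zero_mul, zero_add] at h3
      have h4 := ih _ (fun j => Subring.mul_mem _ (Subring.sub_mem _ (hκ j) (hκ a)) (hg j)) h3 i hi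
      have h5 : κ i - κ a = ((((⁅x, s i * (s a)⁻¹⁆ : Nh F N) : Aˣ) : A) - 1) * κ a := by
        have e : ⁅x, s i⁆ = ⁅x, s i * (s a)⁻¹⁆ * ⁅x, s a⁆ := by rw [← h.comm_mul_right, inv_mul_cancel_right]
        have e' : κ i = (((⁅x, s i * (s a)⁻¹⁆ : Nh F N) : Aˣ) : A) * κ a :=
          congrArg (fun z : Nh F N => ((z : Aˣ) : A)) e
        rw [e', sub_mul, one_mul]
      have h6 : IsUnit (κ i - κ a) := by
        rw [h5]
        exact (isUnit_sub_one hA (h.comm _ _) (mul_star _) fun he => hx (Subtype.ext (Units.ext he))).mul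
          (Units.isUnit _)
      exact (h6.mul_right_eq_zero).1 h4
    have h7 : g a = 0 := by
      rw [Finset.sum_insert ha, Finset.sum_eq_zero (fun i hi => by rw [key i hi, zero_mul]), add_zero] at h0
      exact (Units.mul_left_eq_zero _).1 h0
    intro i hi
    rcases Finset.mem_insert.1 hi with rfl | hi
    · exact h7
    · exact key i hi

theorem exists_add [Finite A] (hsp : Sp F N) {φ : MulAut (Nh F N)} (hφ : φ ∈ Fix (Uh F N)) :
    ∃ g : A →+ A, ∀ c ∈ Subring.center A, ∀ u : Nh F N, g (c * (u : Aˣ)) = c * (φ u : Aˣ) := by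
  classical
  have : Finite (Nh F N) := Finite.of_injective (fun u : Nh F N => ((u : Aˣ) : A))
    (Units.val_injective.comp Subtype.val_injective)
  let : Fintype (Nh F N ⧸ Uh F N) := Fintype.ofFinite _
  let s : Nh F N ⧸ Uh F N → Nh F N := Quotient.out
  have hs : ∀ i j, s i * (s j)⁻¹ ∈ Uh F N → i = j := by
    intro i j hij
    rw [← Quotient.out_eq i, ← Quotient.out_eq j]
    refine (QuotientGroup.eq.2 ?_).symm
    have e : (s j)⁻¹ * s i = s i * (s j)⁻¹ := by
      rw [inv_mul_eq_iff_eq_mul, h.central _ hij, inv_mul_cancel_right]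
    change (s j)⁻¹ * s i ∈ _
    rwa [e]
  let Φ : (Nh F N ≃* Nh F N) → ((Nh F N ⧸ Uh F N) → Subring.center A) →+ A := fun ψ =>
    AddMonoidHom.mk' (fun g => ∑ i, (g i : A) * (ψ (s i) : Aˣ)) fun g g' => by
      rw [← Finset.sum_add_distrib]
      refine Finset.sum_congr rfl fun i _ => ?_
      rw [← add_mul]
      rfl
  have hΦ : ∀ c ∈ Subring.center A, ∀ u : Nh F N, ∃ g, ∀ ψ ∈ Fix (Uh F N), Φ ψ g = c * (ψ u : Aˣ) := by
    intro c hc u
    obtain ⟨d, hd⟩ := QuotientGroup.mk_out_eq_mul (Uh F N) u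
    have hd' : u = s (QuotientGroup.mk u) * (d⁻¹ : Uh F N) := by
      change u = Quotient.out _ * _
      rw [hd, Subgroup.coe_inv, mul_inv_cancel_right]
    refine ⟨Pi.single (QuotientGroup.mk u) ⟨c * (((d⁻¹ : Uh F N) : Nh F N) : Aˣ), Subring.mul_mem _ hc (d⁻¹).2⟩,
      fun ψ hψ => ?_⟩
    change ∑ i, _ = _
    rw [Finset.sum_eq_single (QuotientGroup.mk u) (fun i _ hi => by rw [Pi.single_eq_of_ne hi]; simp) (by simp),
      Pi.single_eq_same]
    conv_rhs => rw [hd', map_mul, hψ _ (d⁻¹).2, h.central _ (d⁻¹).2]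
    rw [Subgroup.coe_mul, Units.val_mul, mul_assoc]
  have hbij : Function.Bijective (Φ 1) := by
    constructor
    · rw [injective_iff_map_eq_zero]
      intro g hg
      funext i
      exact Subtype.ext (indep hA h s hs Finset.univ (fun i => g i) (fun i => (g i).2) hg i (Finset.mem_univ i))
    · refine hsp.ind (fun c hc u => ?_) ?_
      · obtain ⟨g, hg⟩ := hΦ c hc u
        exact ⟨g, hg 1 (one_mem _)⟩
      · rintro _ _ ⟨g, rfl⟩ ⟨g', rfl⟩
        exact ⟨g + g', map_add _ _ _⟩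
  refine ⟨(Φ φ).comp (AddEquiv.ofBijective (Φ 1) hbij).symm.toAddMonoidHom, fun c hc u => ?_⟩
  obtain ⟨g, hg⟩ := hΦ c hc u
  have h1 : (AddEquiv.ofBijective (Φ 1) hbij).symm (c * (u : Aˣ)) = g := by
    rw [AddEquiv.symm_apply_eq]
    exact (hg 1 (one_mem _)).symm
  rw [← hg φ hφ, ← h1]
  rfl

theorem exists_ext [Finite A] (hsp : Sp F N) {φ : MulAut (Nh F N)} (hφ : φ ∈ Fix (Uh F N)) :
    ∃ γ ∈ F.Aut, γ ∈ Lin A ∧ ∀ u : Nh F N, γ (u : Aˣ) = (φ u : Aˣ) := by
  obtain ⟨g, hg⟩ := exists_add hA h hsp hφ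
  have h1 : ∀ u : Nh F N, g (u : Aˣ) = (φ u : Aˣ) := fun u => by simpa using hg 1 (Subring.one_mem _) u
  have h2 : ∀ c ∈ Subring.center A, g c = c := fun c hc => by simpa using hg c hc 1
  have h3 : ∀ a b, g (a * b) = g a * g b := by
    refine hsp.ind (fun c hc u => hsp.ind (fun d hd v => ?_) fun a b ha hb => ?_) fun a b ha hb x => ?_
    · have e : ∀ x y : A, c * x * (d * y) = c * d * (x * y) := fun x y => by
        rw [mul_assoc, mul_assoc, ← mul_assoc _ d, cen_comm hd, mul_assoc]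
      rw [hg c hc, hg d hd, e, e, ← Units.val_mul, ← Subgroup.coe_mul, hg _ (Subring.mul_mem _ hc hd), map_mul]
      rfl
    · rw [mul_add, map_add, ha, hb, map_add, mul_add]
    · rw [add_mul, map_add, ha, hb, map_add, add_mul]
  let g' : A →+* A := { g with map_one' := h2 1 (Subring.one_mem _), map_mul' := h3 }
  have hsurj : Function.Surjective g' := by
    refine hsp.ind (fun c hc u => ⟨c * (φ⁻¹ u : Aˣ), ?_⟩) ?_
    · change g _ = _
      rw [hg c hc, MulAut.apply_inv_self]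
    · rintro _ _ ⟨a, rfl⟩ ⟨b, rfl⟩
      exact ⟨a + b, map_add _ _ _⟩
  let γ : RingAut A := RingEquiv.ofBijective g' (Finite.surjective_iff_bijective.1 hsurj)
  have hs : γ ∈ SAut A := by
    refine hsp.ind (fun c hc u => ?_) fun a b ha hb => by rw [star_add, map_add, ha, hb, map_add, star_add]
    change g _ = star (g _)
    rw [hg c hc, star_mul, star_mul, cen_comm (star_cen hc), cen_comm (star_cen hc), star_eq, star_eq,
      hg _ (star_cen hc), map_inv]
  refine ⟨γ, ⟨hs, ?_⟩, h2, h1⟩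
  rw [L_eq hA h]
  change star (γ F.l - F.l) = -(γ F.l - F.l)
  rw [star_sub, ← hs, eq_sub_of_add_eq' F.l_add, map_sub, map_one]
  abel

end ext

end Cfsg.Agent.DS.Cl.Ext
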