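import Cfsg.Agent.DS.Cl.Row
import Cfsg.Agent.DS.Cl.ModL
import Cfsg.Agent.DS.Cl.ModU
import Cfsg.Agent.DS.Cl.ModO
import Cfsg.Agent.AutOrth.Final
import Cfsg.Agent.ClassicalGeometry.OrthSemiForms
import Cfsg.Agent.ClassicalGeometry.SympAutOddA
import Cfsg.Agent.ClassicalGeometry.SympAutExists

/-!
# S5881, classical groups: the six rows from `BoxMain`, `BoxB2`, `BoxD4` (helper12)
-/

set_option autoImplicit false

namespace Cfsg.Agent.DS.Cl.Fwd

open Cfsg Cfsg.Agent.H936 Cfsg.Agent.DS Cfsg.Agent.DS.Cl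

theorem boxPSL (hM : BoxMain) : BoxPSL := by
  rintro big G _ _ S H hs ⟨F, _, _, n, hn, hn2, ⟨e⟩⟩
  exact row_of (boxRow hM) big hs e (boxModL F n hn hn2) fun _ => trivial

theorem boxPSU (hM : BoxMain) : BoxPSU := by
  rintro big G _ _ S H hs ⟨F, _, _, n, q, hF, hn, h32, ⟨e⟩⟩
  exact row_of (boxRow hM) big hs e (boxModU F n q hF hn h32) fun _ => trivial

theorem boxPSp (hM : BoxMain) (hB : BoxB2) : BoxPSp := by
  rintro big G _ _ S H hs ⟨F, _, _, m, hm, hm2, ⟨e⟩⟩
  by_cases hcase : m = 2 ∧ (2 : F) = 0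
  · obtain ⟨rfl, h2⟩ := hcase
    exact hB big G S H hs ⟨F, inferInstance, inferInstance, hm2 rfl, h2, ⟨e⟩⟩
  · refine row_of (boxRow hM) big hs e (boxModSp F m hm hm2) fun α => ?_
    refine Cfsg.Agent.ClassicalGeometry.SympAutExists.exists_semi hm α
      (Cfsg.Agent.ClassicalGeometry.SympAutOddA.recog hm ?_ α)
    by_cases h : m = 2
    · exact Or.inr fun h2 => hcase ⟨h, h2⟩
    · left
      omega

section orth

open Cfsg.Agent.LieClassical.OrthForms Cfsg.Agent.ClassicalGeometry.OrthSemiForms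

theorem row_orth (hM : BoxMain) (big : Big) {G : Type} [Group G] [Finite G] {S H : Subgroup G} (hs : Setup S H)
    {F ι : Type} [Field F] [Fintype F] [Fintype ι] [DecidableEq ι] {Q : QuadraticForm F (ι → F)}
    (hG : Cfsg.Agent.LieClassical.OrthTrans.Good Q)
    (hsurj : Function.Surjective (Cfsg.Agent.ClassicalGeometry.OrthSemi.Psi Q)) {f : (ι → F) → F} (hf : ⇑Q = f)
    (e : S ≃* POmega F f) : PS 9 H := by
  subst hf
  exact row_of (boxRow hM) big hs (e.trans (pomegaEquiv hG)) (boxModO F _ Q hG) hsurj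

theorem boxOOdd (hM : BoxMain) : BoxOOdd := by
  rintro big G _ _ S H hs ⟨F, _, _, m, hm, hq, ⟨e⟩⟩
  have h2 : (2 : F) ≠ 0 := by
    intro h2
    have h3 : ringChar F = 2 := (Nat.prime_dvd_prime_iff_eq (CharP.char_is_prime F _) Nat.prime_two).1
      ((ringChar.spec F 2).1 (by exact_mod_cast h2))
    have h4 := FiniteField.even_card_of_char_two h3
    obtain ⟨k, hk⟩ := hq
    omega
  exact row_orth hM big hs (good_odd (by omega) h2) (Cfsg.Agent.AutOrth.Final.surjective_odd hm h2)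
    (coe_oddForm _ _) e

theorem boxOPlus (hM : BoxMain) (hD : BoxD4) : BoxOPlus := by
  rintro big G _ _ S H hs ⟨F, _, _, m, hm, ⟨e⟩⟩
  by_cases h4 : m = 4
  · subst h4
    exact hD big G S H hs ⟨F, inferInstance, inferInstance, ⟨e⟩⟩
  · exact row_orth hM big hs (good_plus (by omega)) (Cfsg.Agent.AutOrth.Final.surjective_plus (by omega))
      (coe_plusForm _ _) e

theorem boxOMinus (hM : BoxMain) : BoxOMinus := by
  rintro big G _ _ S H hs ⟨F, _, _, m, a, b, hm, hab, ⟨e⟩⟩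
  exact row_orth hM big hs (good_minus (by omega) a b hab)
    (Cfsg.Agent.AutOrth.Final.surjective_minus (by omega) hab) (coe_minusForm _ _ a b) e

end orth

end Cfsg.Agent.DS.Cl.Fwd
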