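import Cfsg.Agent.DS.Cl.Main
import Cfsg.Agent.DS.Cl.Par
import Cfsg.Agent.DS.Cl.NS
import Cfsg.Agent.DS.Cl.Rows

/-!
# The classical rows (helper54)
-/

set_option autoImplicit false

namespace Cfsg.Agent.DS.Cl.Final

open Cfsg.Agent.DS

theorem boxMain : BoxMain := Main.boxMain (boxPar P5.boxP5) Fwd.boxNS

theorem boxRow : BoxRow := Fwd.boxRow boxMain

theorem boxPSL : BoxPSL := Fwd.boxPSL boxMain

theorem boxPSU : BoxPSU := Fwd.boxPSU boxMain

theorem boxOOdd : BoxOOdd := Fwd.boxOOdd boxMain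

theorem boxOMinus : BoxOMinus := Fwd.boxOMinus boxMain

theorem boxPSp (hB : BoxB2) : BoxPSp := Fwd.boxPSp boxMain hB

theorem boxOPlus (hD : BoxD4) : BoxOPlus := Fwd.boxOPlus boxMain hD

end Cfsg.Agent.DS.Cl.Final
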