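import Cfsg.Agent.DS.Cl.Inv

/-!
# Field extension subgroups and the stabilizers of a pair of totally singular subspaces of half dimension
-/

set_option autoImplicit false

namespace Cfsg.Agent.DS.Cl

open Cfsg Cfsg.Agent.H936 Cfsg.Agent.DS

variable {A : Type} [Ring A] [StarRing A] [Finite A]

/-- averaging over the units of a subfield on which `star` is trivial -/
theorem exists_avg (Z : Subring A) (hs : ∀ x ∈ Z, star x = x)
    (hu : ∀ x ∈ Z, x ≠ 0 → ∃ y ∈ Z, x * y = 1 ∧ y * x = 1) [Nontrivial A] :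
    ∃ π : A →+ A, (∀ a, π a ∈ Subring.centralizer (Z : Set A)) ∧ (∀ a ∈ Subring.centralizer (Z : Set A), π a = a) ∧
      (∀ a, π (star a) = star (π a)) ∧
      ∀ γ : RingAut A, (∀ x, x ∈ Z ↔ γ x ∈ Z) → ∀ a, γ (π a) = π (γ a) := by
  classical
  have := Fintype.ofFinite A
  let T : Finset Aˣ := Finset.univ.filter fun u => (u : A) ∈ Z
  have hT : ∀ u, u ∈ T ↔ (u : A) ∈ Z := fun u => by simp [T]
  have hinv : ∀ u : Aˣ, (u : A) ∈ Z → ((u⁻¹ : Aˣ) : A) ∈ Z := by
    intro u hu'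
    obtain ⟨y, hy, h1, -⟩ := hu _ hu' u.ne_zero
    have : ((u⁻¹ : Aˣ) : A) = y := by rw [← mul_one ((u⁻¹ : Aˣ) : A), ← h1, ← mul_assoc, Units.inv_mul, one_mul]
    exact this ▸ hy
  have hcard : (T.card : A) = -1 := by
    let T' : Finset A := Finset.univ.filter fun x => x ∈ Z
    have h1 : T.card = (T'.erase 0).card := by
      refine Finset.card_bij (fun u _ => (u : A)) (fun u hu' => ?_) (fun u _ v _ huv => Units.ext huv) fun x hx => ?_
      · simp only [T', Finset.mem_erase, Finset.mem_filter, Finset.mem_univ, true_and]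
        exact ⟨u.ne_zero, (hT u).1 hu'⟩
      · simp only [T', Finset.mem_erase, Finset.mem_filter, Finset.mem_univ, true_and] at hx
        obtain ⟨y, -, h2, h3⟩ := hu x hx.2 hx.1
        exact ⟨⟨x, y, h2, h3⟩, (hT _).2 hx.2, rfl⟩
    have h2 : (T'.erase 0).card + 1 = T'.card := Finset.card_erase_add_one (by simp [T'])
    have h3 : T'.card = Nat.card Z := by
      rw [Nat.card_eq_fintype_card, Fintype.card_subtype]
    have h4 : (Nat.card Z : Z) = 0 := by
      rw [← nsmul_one]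
      exact card_nsmul_eq_zero'
    have h5 : (Nat.card Z : A) = 0 := by
      have h6 := congrArg Z.subtype h4
      rwa [map_natCast, map_zero] at h6
    rw [← h3, ← h2, ← h1, Nat.cast_add, Nat.cast_one] at h5
    exact eq_neg_of_add_eq_zero_left h5
  let π : A →+ A :=
    { toFun := fun a => -∑ u ∈ T, cj A u a
      map_zero' := by simp
      map_add' := fun a b => by simp only [map_add, Finset.sum_add_distrib, neg_add] }
  have hπ : ∀ a, π a = -∑ u ∈ T, cj A u a := fun _ => rfl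
  refine ⟨π, fun a z hz => ?_, fun a ha => ?_, fun a => ?_, fun γ hγ a => ?_⟩
  · by_cases h0 : z = 0
    · simp [h0]
    obtain ⟨y, -, h2, h3⟩ := hu z hz h0
    let v : Aˣ := ⟨z, y, h2, h3⟩
    have h4 : cj A v (π a) = π a := by
      rw [hπ, map_neg, map_sum]
      congr 1
      refine Finset.sum_equiv (Equiv.mulLeft v) (fun u => ?_) fun u _ => ?_
      · rw [hT, hT]
        refine ⟨fun h5 => Z.mul_mem hz h5, fun h5 => ?_⟩
        have h6 := Z.mul_mem (hinv v hz) h5
        simpa using h6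
      · rw [Equiv.coe_mulLeft, map_mul, ra_mul]
    have h5 := cj_mul_eq v (π a)
    rw [h4] at h5
    exact h5.symm
  · rw [hπ, Finset.sum_congr rfl fun u hu' => cj_eq_of_mul (b := a) (ha _ ((hT u).1 hu')), Finset.sum_const,
      nsmul_eq_mul, hcard]
    simp
  · rw [hπ, hπ, star_neg, star_sum]
    congr 1
    refine Finset.sum_equiv (Equiv.inv Aˣ) (fun u => ?_) fun u hu' => ?_
    · rw [hT, hT]
      exact ⟨hinv u, fun h5 => by simpa using hinv _ h5⟩
    · have h5 := (hT u).1 hu'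
      rw [Equiv.inv_apply, cj_apply, cj_apply, star_mul, star_mul, inv_inv, hs _ h5, hs _ (hinv u h5), mul_assoc]
  · rw [hπ, hπ, map_neg, map_sum]
    congr 1
    refine Finset.sum_equiv (Units.mapEquiv γ.toMulEquiv).toEquiv (fun u => ?_) fun u _ => ?_
    · rw [hT, hT]
      exact hγ _
    · rw [cj_apply, cj_apply, map_mul, map_mul]
      rfl

/-- the centralizer of an invariant commutative subring carries a compatible form -/
theorem exists_bd_fld (h : SS A) (F : FR A) {M : Subgroup (RingAut A)} (hM : M ≤ F.Aut) (hI : Irr M)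
    (hD : ∀ D : Finset A, Fr D → ¬ Inv M D) {Z : Subring A} (hs : ∀ x ∈ Z, star x ∈ Z)
    (hc : ∀ x ∈ Z, ∀ y ∈ Z, x * y = y * x) (hZ : Inv M Z) :
    ∃ B : BD F, B.e = 1 ∧ (∀ x, x ∈ B.car ↔ x ∈ Subring.centralizer (Z : Set A)) ∧ F.l - B.l ∈ F.L := by
  have := h.nontrivial
  have hM' : M ≤ SAut A := hM.trans F.Aut_le_SAut
  have hsZ := ss_of_inv h hM' hI hD hs hZ
  have hsA := ss_of_inv h hM' hI hD (star_centralizer hs) (inv_centralizer hZ)
  have hcZ : ∀ x : (Blk.ofSubring Z hs).T, x ∈ Subring.center (Blk.ofSubring Z hs).T := fun x =>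
    (Blk.ofSubring Z hs).mem_center_iff.2 fun y hy => hc y hy _ ((Blk.ofSubring Z hs).val_mem x)
  have hl : ∀ l' : A, l' + star l' = 1 → star (F.l - l') = -(F.l - l') := fun l' hl' => by
    have h1 : star F.l = 1 - F.l := by rw [← F.l_add]; abel
    have h2 : star l' = 1 - l' := by rw [← hl']; abel
    rw [star_sub, h1, h2]; abel
  by_cases htr : ∀ x ∈ Z, star x = x
  · obtain ⟨π, p1, p2, p3, p4⟩ := exists_avg Z htr fun x hx h0 =>
      Blk.isUnit_val (hsZ.isUnit_of_cen (hcZ ((Blk.ofSubring Z hs).mk' x hx))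
        ((Blk.ofSubring Z hs).val_inj (htr x hx)) fun h1 => h0 (congrArg (Blk.ofSubring Z hs).val h1))
    have h1 : π F.l + star (π F.l) = 1 := by rw [← p3, ← map_add, F.l_add, p2 _ (Subring.one_mem _)]
    have hπL : ∀ x ∈ F.L, π x ∈ F.L := by
      intro x hx
      rcases F.par with h2 | h2 <;> rw [h2] at hx ⊢
      · obtain ⟨a, rfl⟩ := hx
        exact ⟨π a, by rw [map_sub, p3]⟩
      · have hx' : star x = -x := hx
        show star (π x) = -π x
        rw [← p3, hx', map_neg]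
    refine ⟨⟨Blk.ofSubring _ (star_centralizer hs), π F.l, p1 _, h1, Or.inr fun a ha => ⟨π a, p1 _, ?_⟩,
      Or.inr hsA⟩, rfl, fun _ => Iff.rfl, ?_⟩
    · rw [← p3, ← map_sub, p2 _ ha]
    · refine FR.mem_L_of_inv h hM' hI (hl _ h1) fun γ hγ => ?_
      have h2 := F.L.sub_mem (hM hγ).2 (hπL _ (hM hγ).2)
      convert h2 using 1
      rw [map_sub, map_sub, p4 γ (Blk.mem_stab (B := Blk.ofSubring Z hs) hZ hγ)]
      abel
  · push Not at htr
    obtain ⟨z, hz, hz'⟩ := htr
    obtain ⟨c', -, hc'⟩ := hsZ.exists_trace_one (hcZ ((Blk.ofSubring Z hs).mk' z hz))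
      fun h1 => hz' (congrArg (Blk.ofSubring Z hs).val h1)
    obtain ⟨c, hcm, h1⟩ : ∃ c ∈ Z, c + star c = 1 :=
      ⟨_, (Blk.ofSubring Z hs).val_mem c', congrArg (Blk.ofSubring Z hs).val hc'⟩
    have h2 : ∀ x ∈ Subring.centralizer (Z : Set A), star x = -x → x = c * x - star (c * x) := by
      intro x hx hx'
      rw [star_mul, hx', neg_mul, sub_neg_eq_add, ← hx _ (hs c hcm), ← add_mul, h1, one_mul]
    have h3 : ∀ x ∈ Z, x ∈ Subring.centralizer (Z : Set A) := fun x hx y hy => hc y hy x hx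
    refine ⟨⟨Blk.ofSubring _ (star_centralizer hs), c, h3 c hcm, h1, Or.inr fun a ha =>
      ⟨c * (a - star a), Subring.mul_mem _ (h3 c hcm) ha, h2 _ ha (by rw [star_sub, star_star, neg_sub])⟩,
      Or.inr hsA⟩, rfl, fun _ => Iff.rfl, ?_⟩
    refine FR.mem_L_of_inv h hM' hI (hl _ h1) fun γ hγ => ?_
    have h4 : γ c - c ∈ F.L := by
      have h5 : star (γ c) = 1 - γ c := by rw [← hM' hγ, ← map_one γ, ← h1, map_add]; abel
      have h6 : star c = 1 - c := by rw [← h1]; abel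
      rw [h2 (γ c - c) (h3 _ (Z.sub_mem (hZ γ hγ c hcm) hcm)) (by rw [star_sub, h5, h6]; abel)]
      exact F.sub_star_mem _
    convert F.L.sub_mem (hM hγ).2 h4 using 1
    rw [map_sub]
    abel

theorem boxFld (hP5 : BoxP5) : BoxFld := by
  intro A _ _ _ F M h hI hD Z _ hZC hs hc hZ
  obtain ⟨B, he, hB, hl⟩ := exists_bd_fld h.ss F h.le hI hD hs hc hZ
  have hsZ := ss_of_inv h.ss h.le_SAut hI hD hs hZ
  set Z' := Blk.ofSubring Z hs
  let K := F.Aut ⊓ Z'.stab
  have hKZ : Inv K Z := fun γ hγ x hx => (hγ.2 x).1 hx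
  have hS : ¬ F.S ≤ K := by
    intro hS
    apply hZC
    intro z hz
    have h1 : ⁅K, K⁆ ≤ Fix (Z : Set A) := by
      rw [Subgroup.commutator_le]
      intro γ hγ δ hδ x hx
      have h2 : ∀ y ∈ Z, γ (δ y) = δ (γ y) := fun y hy =>
        congrArg Z'.val (hsZ.comm_cen (Z'.res_SAut (γ := ⟨γ, hγ.2⟩) hγ.1.1) (Z'.res_SAut (γ := ⟨δ, hδ.2⟩) hδ.1.1)
          (c := Z'.mk' y hy) (Z'.mem_center_iff.2 fun w hw => hc w hw y hy))
      rw [commutatorElement_def, ra_mul, ra_mul, ra_mul, h2 _ (hKZ _ (inv_mem hγ) _ (hKZ _ (inv_mem hδ) x hx)),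
        ra_apply_inv, ra_apply_inv]
    exact FR.cen_of_S h.span fun s hs' => h1 (Subgroup.commutator_mono hS hS (h.perfect hs')) z hz
  rw [h.eq_of_le (P := K) (le_inf h.le (Blk.mem_stab hZ)) inf_le_left hS]
  have hL : Levi (fun _ : Unit => B) :=
    ⟨fun i j hij => absurd rfl hij, by simp [he], by simpa using hl, fun _ g hg => by
      rw [he, mul_one, hB]
      exact fun z hz => (hg z ((hB z).2 fun y hy => hc y hy z hz)).symm⟩
  refine (hL.ps hP5 h.ss inf_le_left (fun _ γ hγ x hx => ?_) fun u hu _ hu' => ⟨FR.cj_mem_Aut hu, fun x => ?_⟩).mono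
    (by norm_num)
  · exact (hB _).2 (inv_centralizer hKZ γ hγ x ((hB x).1 hx))
  · rw [he, sub_self, sub_zero, hB] at hu'
    have h1 : ∀ y ∈ Z, cj A u y = y := fun y hy => cj_eq_of_mul (hu' y hy).symm
    refine ⟨fun hx => by rwa [h1 x hx], fun hx => ?_⟩
    have h2 := (cj A u).injective (h1 _ hx)
    exact h2 ▸ hx

end Cfsg.Agent.DS.Cl
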