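import Cfsg.Agent.DS.Cl.Inv
import Cfsg.Agent.DS.Cl.Act

/-!
# Orthogonal decompositions
-/

set_option autoImplicit false

namespace Cfsg.Agent.DS.Cl

open Cfsg Cfsg.Agent.H936 Cfsg.Agent.DS

variable {A : Type} [Ring A] [StarRing A]

theorem FR.star_l (F : FR A) : star F.l = 1 - F.l := by rw [← F.l_add]; abel

theorem FR.cross_mem (F : FR A) {a b : A} (h : b * star a = 0) : a * F.l * star b + b * F.l * star a ∈ F.L := by
  have h1 := F.sub_star_mem (a * F.l * star b)
  rw [star_mul, star_mul, star_star, F.star_l, sub_mul, one_mul, mul_sub, h, zero_sub, sub_neg_eq_add,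
    ← mul_assoc] at h1
  exact h1

theorem FR.sum_sub_mem (F : FR A) (s : Finset A) (hs : ∀ e ∈ s, star e = e)
    (ho : ∀ e ∈ s, ∀ e' ∈ s, e ≠ e' → e * e' = 0) :
    (∑ e ∈ s, e) * F.l * (∑ e ∈ s, e) - ∑ e ∈ s, e * F.l * e ∈ F.L := by
  classical
  induction s using Finset.induction_on with
  | empty => simp
  | insert e s he ih =>
    have h1 := ih (fun x hx => hs x (Finset.mem_insert_of_mem hx)) fun x hx y hy =>
      ho x (Finset.mem_insert_of_mem hx) y (Finset.mem_insert_of_mem hy)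
    have h2 : star (∑ e ∈ s, e) = ∑ e ∈ s, e := by
      rw [star_sum]
      exact Finset.sum_congr rfl fun x hx => hs x (Finset.mem_insert_of_mem hx)
    have h3 := F.cross_mem (a := e) (b := ∑ e ∈ s, e) (by
      rw [hs e (Finset.mem_insert_self e s), Finset.sum_mul]
      exact Finset.sum_eq_zero fun x hx => ho x (Finset.mem_insert_of_mem hx) e (Finset.mem_insert_self e s)
        fun h => he (h ▸ hx))
    rw [h2, hs e (Finset.mem_insert_self e s)] at h3
    rw [Finset.sum_insert he, Finset.sum_insert he]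
    convert F.L.add_mem h1 h3 using 1
    noncomm_ring

/-- a central element killing a non-zero symmetric element vanishes -/
theorem SS.cen_eq_zero (h : SS A) {c f : A} (hc : c ∈ Subring.center A) (hf : star f = f) (h0 : f ≠ 0)
    (hcf : c * f = 0) : c = 0 := by
  let J : Ideal A :=
    { carrier := {a | c * a = 0 ∧ star c * a = 0}
      add_mem' := fun ha hb => ⟨by rw [mul_add, ha.1, hb.1, add_zero], by rw [mul_add, ha.2, hb.2, add_zero]⟩
      zero_mem' := ⟨mul_zero _, mul_zero _⟩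
      smul_mem' := fun a x hx => ⟨by rw [smul_eq_mul, ← mul_assoc, ← cen_comm hc, mul_assoc, hx.1, mul_zero],
        by rw [smul_eq_mul, ← mul_assoc, ← cen_comm (star_cen hc), mul_assoc, hx.2, mul_zero]⟩ }
  rcases h.eq_bot_or_top (I := J) (fun x hx a => ⟨by rw [← mul_assoc, hx.1, zero_mul], by
    rw [← mul_assoc, hx.2, zero_mul]⟩) (fun x hx => ⟨by
      rw [← cen_comm hc, ← star_star c, ← star_mul, hx.2, star_zero], by
      rw [← cen_comm (star_cen hc), ← star_mul, hx.1, star_zero]⟩) with h1 | h1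
  · have h2 : f ∈ J := ⟨hcf, by rw [← cen_comm (star_cen hc), ← hf, ← star_mul, hcf, star_zero]⟩
    rw [h1] at h2
    exact absurd h2 h0
  · have h2 : (1 : A) ∈ J := by rw [h1]; trivial
    simpa using h2.1

/-- the two-sided ideal of the `z` with `a A z A b = 0` -/
def annI {A : Type} [Ring A] (a b : A) : Ideal A where
  carrier := {z | ∀ x y, a * x * z * y * b = 0}
  add_mem' := fun {u v} hu hv x y => by rw [mul_add, add_mul, add_mul, hu, hv, add_zero]
  zero_mem' := fun x y => by simp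
  smul_mem' := fun c z hz x y => by
    have h := hz (x * c) y
    simpa only [smul_eq_mul, mul_assoc] using h

omit [StarRing A] in
theorem two_annI (a b : A) : Two (annI a b) := fun z hz c x y => by
  have h := hz x (c * y)
  simpa only [mul_assoc] using h

/-- a simple finite ring is prime -/
theorem SS.prime [Finite A] (h : SS A) (hε : ¬ ∃ ε : A, Eps ε) {x y : A} (hx : x ≠ 0) (hy : y ≠ 0) :
    ∃ a, x * a * y ≠ 0 := by
  by_contra hcon
  push Not at hcon
  rcases h.two_of_not_eps hε (two_annI x 1) with h1 | h1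
  · have h2 : y ∈ annI x 1 := fun a b => by rw [hcon, zero_mul, zero_mul]
    rw [h1] at h2
    exact hy h2
  · have h2 : (1 : A) ∈ annI x 1 := by rw [h1]; trivial
    exact hx (by simpa using h2 1 1)

/-- the same for the simple factor `ε A` -/
theorem SS.prime_eps (h : SS A) {ε : A} (hε : Eps ε) {x y : A} (hx : ε * x ≠ 0) (hy : ε * y ≠ 0) :
    ∃ a, ε * x * a * y ≠ 0 := by
  by_contra hcon
  push Not at hcon
  let J : Ideal A := annI (ε * x) 1 ⊓ Ideal.span {ε}
  have h1 : ε ∈ J := h.eps_mem hε (fun z hz a => ⟨two_annI _ _ z hz.1 a, two_span_cen hε.cen z hz.2 a⟩)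
    (fun h2 => by
      have h3 : ε * y ∈ J := ⟨fun a b => by
        rw [← mul_assoc, mul_assoc (ε * x) a, hcon, zero_mul, zero_mul],
        Ideal.mem_span_singleton'.2 ⟨y, hε.comm y⟩⟩
      rw [h2] at h3
      exact hy h3)
    fun z hz => by
      obtain ⟨b, rfl⟩ := Ideal.mem_span_singleton'.1 hz.2
      rw [hε.comm, ← mul_assoc, hε.idem]
  have h2 := h1.1 1 1
  rw [mul_one, mul_one, mul_one, hε.comm, ← mul_assoc, hε.idem] at h2
  exact hx h2

theorem Eps.mul_ne_zero {ε f : A} (hε : Eps ε) (hf : star f = f) (h0 : f ≠ 0) : ε * f ≠ 0 := by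
  intro h1
  have h2 := congrArg star h1
  rw [star_mul, hf, hε.st.comm, star_zero] at h2
  exact h0 (by rw [hε.split f, h1, h2, add_zero])

/-- a commutative form ring with trivial isometry group is `F₂ × F₂` -/
theorem small_ring {R : Type} [Ring R] [StarRing R] [Finite R] (hss : SS R) (F : FR R) (h2 : ∀ a b : R, a * b = b * a)
    (h1 : ∀ u ∈ F.Iso, (u : R) = 1) : (∃ η : R, Eps η) ∧ ∀ η : R, Eps η → ∀ y, η * y = y → y ≠ 0 → y = η := by
  have := hss.nontrivial
  have hcen : ∀ a : R, a ∈ Subring.center R := fun a => Subring.mem_center_iff.2 fun b => h2 b a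
  have h3 : ∀ v : Rˣ, star (v : R) = v := by
    intro v
    have h4 : ((star v * v⁻¹ : Rˣ) : R) * star ((star v * v⁻¹ : Rˣ) : R) = 1 := by
      rw [Units.val_mul, Units.coe_star, star_mul, star_star, h2 (star _) v, ← mul_assoc, mul_assoc _ _ (v : R),
        Units.inv_mul, mul_one, ← star_mul, Units.inv_mul, star_one]
    have h5 := h1 (star v * v⁻¹) ⟨h4, by
      rw [h2 _ F.l, mul_assoc, h4, mul_one, sub_self]; exact zero_mem _⟩
    rw [Units.val_mul, Units.mul_inv_eq_one] at h5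
    exact h5
  constructor
  · by_contra hcon
    have h5 : ∀ a : R, star a = a := fun a => by
      by_cases h0 : a = 0
      · simp [h0]
      · obtain ⟨v, rfl⟩ := hss.isUnit_of_not_eps hcon (hcen a) h0
        exact h3 v
    have h6 := h1 (-1) ⟨by simp, by simp⟩
    have h7 := F.l_add
    rw [h5, ← mul_two, ← one_add_one_eq_two] at h7
    nth_rewrite 1 [← h6] at h7
    simp at h7
  · intro η hη y hy y0
    obtain ⟨d, -, hd⟩ := hss.eps_inv hη (hcen y) (by rwa [hy])
    have hsy : star η * y = 0 := by rw [← hy, ← mul_assoc, hη.sm, zero_mul]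
    have h6 : (η * d + star η) * (y + star η) = 1 := by
      rw [add_mul, mul_add, mul_add, mul_assoc, hd, hη.idem, hsy, hη.st.idem, mul_assoc, h2 d, ← mul_assoc, hη.ms]
      simp [hη.add]
    have h7 := h3 ⟨y + star η, η * d + star η, by rw [h2 _ (η * d + star η), h6], h6⟩
    change star (y + star η) = y + star η at h7
    have h8 := congrArg (η * ·) h7
    have h9 : η * star y = 0 := by rw [← star_star η, ← star_mul, h2 y, hsy, star_zero]
    simp only [star_add, star_star, mul_add, h9, hη.idem, hy, hη.ms, zero_add, add_zero] at h8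
    exact h8.symm

namespace Fr

variable {D : Finset A} (h : Fr D)
include h

/-- the blocks of a frame -/
def bd (hA : SS A) (F : FR A) (e : D) : BD F := BD.corner hA F e (h.idem e e.2) (h.symm e e.2)

theorem levi (hA : SS A) (F : FR A) : Levi (h.bd hA F) where
  orth i j hij := h.orth i i.2 j j.2 fun e => hij (Subtype.ext e)
  sum := (Finset.sum_coe_sort D fun e => e).trans h.sum
  l_sub := by
    have h1 := F.sum_sub_mem D h.symm h.orth
    rw [h.sum, one_mul, mul_one, ← Finset.sum_coe_sort D] at h1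
    exact h1
  cent i := BD.corner_cent hA F _ _ _

theorem up_comm {e f v : A} (he : e ∈ D) (hf : f ∈ D) (h1 : e * v = v) (h2 : v * e = v) :
    (v + (1 - e)) * f = f * (v + (1 - e)) := by
  by_cases hef : f = e
  · subst hef
    rw [add_mul, mul_add, h1, h2, sub_mul, mul_sub, one_mul, mul_one]
  · have h3 : v * f = 0 := by rw [← h2, mul_assoc, h.orth e he f hf (Ne.symm hef), mul_zero]
    have h4 : f * v = 0 := by rw [← h1, ← mul_assoc, h.orth f hf e he hef, zero_mul]
    rw [add_mul, mul_add, h3, h4, sub_mul, mul_sub, one_mul, mul_one, h.orth e he f hf (Ne.symm hef),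
      h.orth f hf e he hef]

theorem ps_fix [Finite A] (hP5 : BoxP5) (hA : SS A) {F : FR A} :
    PS 6 ↥(F.Aut ⊓ ptStab (RingAut A) (D : Set A)) := by
  refine (h.levi hA F).ps hP5 hA inf_le_left (fun e γ hγ x hx => ?_) fun u hu e he => ⟨FR.cj_mem_Aut hu, fun f hf => ?_⟩
  · have h1 : γ e = e := hγ.2 e e.2
    exact ⟨by rw [← h1, ← map_mul, hx.1], by rw [← h1, ← map_mul, hx.2]⟩
  · have h1 := h.up_comm e.2 hf he.1 he.2
    rw [show ((h.bd hA F e).e) = e from rfl, sub_add_cancel] at h1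
    exact cj_eq_of_mul h1

theorem exists_ne {e : A} (_ : e ∈ D) : ∃ f ∈ D, f ≠ e := by
  obtain ⟨a, ha, b, hb, hab⟩ := Finset.one_lt_card.1 h.two
  by_cases h1 : a = e
  · exact ⟨b, hb, fun h2 => hab (h1.trans h2.symm)⟩
  · exact ⟨a, ha, h1⟩

theorem ne_one {e : A} (he : e ∈ D) : e ≠ 1 := by
  obtain ⟨f, hf, hfe⟩ := h.exists_ne he
  intro h1
  have h2 := h.orth f hf e he hfe
  rw [h1, mul_one] at h2
  exact h.ne f hf h2

/-- the transposition of two isometric members of a frame -/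
theorem exists_swap [Finite A] {F : FR A} {e f : A} (he : e ∈ D) (hf : f ∈ D) (hef : e ≠ f) {u : Aˣ} (hu : u ∈ F.Iso)
    (hue : cj A u e = f) : ∃ w ∈ F.Iso, cj A w e = f ∧ cj A w f = e ∧ ∀ g ∈ D, g ≠ e → g ≠ f → cj A w g = g := by
  have ee := h.idem e he
  have ff := h.idem f hf
  have ef := h.orth e he f hf hef
  have fe := h.orth f hf e he hef.symm
  have se := h.symm e he
  have sf := h.symm f hf
  have h1 : (u : A) * e = f * u := by rw [← cj_mul_eq, hue]
  obtain ⟨x, hx⟩ : ∃ x, x = (u : A) * e := ⟨_, rfl⟩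
  have xe : x * e = x := by rw [hx, mul_assoc, ee]
  have fx : f * x = x := by rw [hx, h1, ← mul_assoc, ff]
  have xf : x * f = 0 := by rw [← xe, mul_assoc, ef, mul_zero]
  have ex : e * x = 0 := by rw [← fx, ← mul_assoc, ef, zero_mul]
  have ey : e * star x = star x := by rw [← se, ← star_mul, xe]
  have yf : star x * f = star x := by rw [← sf, ← star_mul, fx]
  have fy : f * star x = 0 := by rw [← sf, ← star_mul, xf, star_zero]
  have ye : star x * e = 0 := by rw [← se, ← star_mul, ex, star_zero]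
  have xx : x * x = 0 := by nth_rewrite 1 [← xe]; rw [mul_assoc, ex, mul_zero]
  have yy : star x * star x = 0 := by rw [← star_mul, xx, star_zero]
  have xy : x * star x = f := by
    rw [hx, h1, star_mul, sf, mul_assoc, ← mul_assoc (u : A), hu.1, one_mul, ff]
  have yx : star x * x = e := by
    rw [hx, star_mul, se, mul_assoc, ← mul_assoc (star (u : A)), FR.Iso.sm hu, one_mul, ee]
  obtain ⟨w, hw⟩ : ∃ w, w = x + star x + (1 - e - f) := ⟨_, rfl⟩
  have sw : star w = w := by rw [hw]; simp only [star_add, star_sub, star_one, star_star, se, sf]; abel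
  have we : w * e = x := by rw [hw]; simp [add_mul, sub_mul, xe, ye, ee, fe]
  have wf : w * f = star x := by rw [hw]; simp [add_mul, sub_mul, xf, yf, ef, ff]
  have ew : e * w = star x := by rw [← se, ← sw, ← star_mul, we]
  have fw : f * w = x := by rw [← sf, ← sw, ← star_mul, wf, star_star]
  have ww : w * star w = 1 := by
    rw [sw]
    nth_rewrite 1 [hw]
    have a1 : x * w = f := by rw [hw]; simp [mul_add, mul_sub, xx, xy, xe, xf]
    have a2 : star x * w = e := by rw [hw]; simp [mul_add, mul_sub, yy, yx, ye, yf]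
    rw [add_mul, add_mul, a1, a2, sub_mul, sub_mul, one_mul, ew, fw, hw]
    abel
  obtain ⟨r, hr⟩ : ∃ r, r = 1 - e - f := ⟨_, rfl⟩
  have sr : star r = r := by rw [hr]; simp only [star_sub, star_one, se, sf]
  have wr : w * r = r := by rw [hr, mul_sub, mul_sub, mul_one, we, wf, hw]; abel
  have rw' : r * w = r := by rw [← sr, ← sw, ← star_mul, wr]
  have hl : F.l - (e * F.l * e + f * F.l * f + r * F.l * r) ∈ F.L := by
    have c1 := F.cross_mem (a := e) (b := f) (by rw [se, fe])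
    have c2 := F.cross_mem (a := e) (b := r) (by rw [se, hr]; simp [sub_mul, ee, fe])
    have c3 := F.cross_mem (a := f) (b := r) (by rw [sf, hr]; simp [sub_mul, ff, ef])
    rw [se, sf] at c1
    rw [se, sr] at c2
    rw [sf, sr] at c3
    convert F.L.add_mem (F.L.add_mem c1 c2) c3 using 1
    rw [hr]
    noncomm_ring
  have hIso : mkU w ww ∈ F.Iso := by
    refine ⟨ww, ?_⟩
    rw [mkU_val]
    have d1 := F.conj_mem hl w
    have d2 := F.conj_mem hu.2 f
    have d3 := F.conj_mem (inv_mem hu).2 e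
    rw [FR.Iso.inv_eq hu, star_star, se] at d3
    rw [sf] at d2
    have e1 : w * (e * F.l * e) * star w = f * (u * F.l * star (u : A)) * f := by
      rw [sw, ← mul_assoc, ← mul_assoc, we, mul_assoc, ew, hx, h1, star_mul, sf]; simp only [mul_assoc]
    have e2 : w * (f * F.l * f) * star w = e * (star (u : A) * F.l * u) * e := by
      rw [sw, ← mul_assoc, ← mul_assoc, wf, mul_assoc, fw, hx, star_mul, se]; simp only [mul_assoc]
    have e3 : w * (r * F.l * r) * star w = r * F.l * r := by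
      rw [sw, ← mul_assoc, ← mul_assoc, wr, mul_assoc, rw']
    rw [mul_sub, mul_add, mul_add, sub_mul, add_mul, add_mul, e1, e2, e3] at d1
    convert F.L.sub_mem (F.L.add_mem (F.L.add_mem d1 d2) d3) hl using 1
    noncomm_ring
  refine ⟨_, hIso, cj_eq_of_mul (we.trans fw.symm), cj_eq_of_mul (wf.trans ew.symm), fun g hg ge gf =>
    cj_eq_of_mul ?_⟩
  have rg : r * g = g := by rw [hr]; simp [sub_mul, h.orth e he g hg ge.symm, h.orth f hf g hg gf.symm]
  have gr : g * r = g := by rw [hr]; simp [mul_sub, h.orth g hg e he ge, h.orth g hg f hf gf]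
  rw [mkU_val]
  conv_lhs => rw [← rg, ← mul_assoc, wr, rg]
  conv_rhs => rw [← gr, mul_assoc, rw', gr]

/-- the simple group does not stabilize a frame -/
theorem not_le_stab [Finite A] (hNC : BoxNC) {F : FR A} {M : Subgroup (RingAut A)} (hM : Ctx F M) :
    ¬ F.S ≤ setStab (RingAut A) (D : Set A) := by
  classical
  intro hS
  have hA := hM.ss
  have := hA.nontrivial
  have hL := h.levi hA F
  have hK := hM.eq_one_of_norm (K := F.Aut ⊓ Lin A ⊓ ptStab (RingAut A) (D : Set A)) inf_le_left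
    (fun s hs k hk => ⟨⟨F.Aut.mul_mem (F.Aut.mul_mem (F.S_le_Aut hs) hk.1.1) (F.Aut.inv_mem (F.S_le_Aut hs)),
      Lin_conj hk.1.2 s⟩, conj_mem_ptStab (hS hs) hk.2⟩) (fun hle => by
      obtain ⟨e, he⟩ : D.Nonempty := Finset.card_pos.1 (by have := h.two; omega)
      rcases hA.idem_symm (FR.cen_of_S hM.span fun s hs => (hle hs).2 e he) (h.symm e he) (h.idem e he) with h1 | h1
      · exact h.ne e he h1
      · exact h.ne_one he h1)
  -- the isometry groups of the blocks are trivial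
  have h1 : ∀ e : D, ∀ u ∈ (h.bd hA F e).fr.Iso, (u : (h.bd hA F e).T) = 1 := by
    intro e u hu
    have hv := (h.bd hA F e).val_mem u
    have h2 := hL.up_mem hv (congrArg (h.bd hA F e).val hu.1) hu.2
    have h3 := cj_eq_one_iff.1 (hK _ ⟨⟨FR.cj_mem_Aut h2, cj_mem_Lin _⟩, fun f hf =>
      cj_eq_of_mul (h.up_comm e.2 hf hv.1 hv.2)⟩)
    obtain ⟨f, hf, hfe⟩ := h.exists_ne e.2
    have h4 := hA.cen_eq_zero (Subring.sub_mem _ h3 (Subring.one_mem _)) (h.symm f hf) (h.ne f hf) (by
      have a1 : (h.bd hA F e).val u * f = 0 := hL.mul_eq_zero (i := e) (j := ⟨f, hf⟩)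
        (fun e' => hfe (congrArg Subtype.val e').symm) hv (h.bd hA F ⟨f, hf⟩).e_mem
      have a2 : (h.bd hA F e).e * f = 0 := hL.orth e ⟨f, hf⟩ (fun e' => hfe (congrArg Subtype.val e').symm)
      rw [mkU_val, add_sub_assoc, sub_sub_cancel_left, add_mul, neg_mul, a1, a2, neg_zero, add_zero])
    rw [mkU_val, add_sub_assoc, sub_sub_cancel_left, ← sub_eq_add_neg, sub_eq_zero] at h4
    exact (h.bd hA F e).val_inj h4
  have hss : ∀ e : D, SS (h.bd hA F e).T := fun e => Blk.ss_corner hA (h.idem e e.2) (h.symm e e.2) (h.ne e e.2)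
  have h2 : ∀ e : D, ∀ a b : (h.bd hA F e).T, a * b = b * a := by
    intro e
    by_contra hcon
    push Not at hcon
    obtain ⟨u, hu, huc⟩ := hNC _ (hss e) (h.bd hA F e).fr hcon
    exact huc (h1 e u hu ▸ Subring.one_mem _)
  have hcen : ∀ e : D, ∀ a : (h.bd hA F e).T, a ∈ Subring.center (h.bd hA F e).T := fun e a =>
    Subring.mem_center_iff.2 fun b => h2 e b a
  have h3 := fun e : D => small_ring (hss e) (h.bd hA F e).fr (h2 e) (h1 e)
  obtain ⟨ε, hε⟩ : ∃ ε : A, Eps ε := by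
    by_contra hcon
    obtain ⟨e, he⟩ : D.Nonempty := Finset.card_pos.1 (by have := h.two; omega)
    let B := h.bd hA F ⟨e, he⟩
    obtain ⟨η, hη⟩ : ∃ η : B.T, Eps η := (h3 ⟨e, he⟩).1
    have : Nontrivial B.T := (hss ⟨e, he⟩).nontrivial
    obtain ⟨a, ha⟩ := hA.prime hcon (x := B.val η) (y := B.val (star η)) (fun h0 => hη.ne_zero (B.val_inj h0))
      fun h0 => hη.st.ne_zero (B.val_inj h0)
    apply ha
    obtain ⟨z, hz⟩ : ∃ z : B.T, B.val z = e * a * e := ⟨B.mk' _ (Blk.corner_mem (h.idem e he) (h.symm e he) a), rfl⟩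
    have h5 := congrArg B.val (show η * z * star η = 0 by rw [h2 _ η, mul_assoc, hη.ms, mul_zero])
    have h6 : B.val η * e = B.val η := (B.val_mem η).2
    have h7 : e * B.val (star η) = B.val (star η) := (B.val_mem (star η)).1
    rw [← h6, ← h7]
    simpa only [Blk.val_mul, hz, mul_assoc, map_zero] using h5
  -- `ε e A e = {0, ε e}`
  have h5 : ∀ e ∈ D, ∀ x, ε * x = x → e * x = x → x * e = x → x ≠ 0 → x = ε * e := by
    intro e he x x1 x2 x3 x0
    let B := h.bd hA F ⟨e, he⟩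
    obtain ⟨η, hη⟩ : ∃ η : B.T, B.val η = ε * e := ⟨B.mk' (ε * e) ⟨by
      rw [← mul_assoc, hε.comm, mul_assoc, h.idem e he], by rw [mul_assoc, h.idem e he]⟩, rfl⟩
    have hη' : Eps η :=
      ⟨hcen _ _, B.val_inj (by
        rw [Blk.val_mul, hη, mul_assoc, ← mul_assoc e, hε.comm e, mul_assoc, h.idem e he, ← mul_assoc, hε.idem]),
        B.val_inj (by
          rw [map_add, Blk.val_star, hη, star_mul, h.symm e he, hε.st.comm, ← add_mul, hε.add, one_mul]
          rfl)⟩
    rw [← hη]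
    exact congrArg B.val ((h3 ⟨e, he⟩).2 η hη' (B.mk' x ⟨x2, x3⟩) (B.val_inj (by
      rw [Blk.val_mul, hη]
      change ε * e * x = x
      rw [mul_assoc, x2, x1])) fun h0 => x0 (congrArg B.val h0))
  obtain ⟨e, he⟩ : D.Nonempty := Finset.card_pos.1 (by have := h.two; omega)
  obtain ⟨f, hf, hfe⟩ := h.exists_ne he
  have hεe := hε.mul_ne_zero (h.symm e he) (h.ne e he)
  obtain ⟨a, ha⟩ := hA.prime_eps hε hεe (hε.mul_ne_zero (h.symm f hf) (h.ne f hf))
  obtain ⟨x, hx⟩ : ∃ x, x = ε * e * a * f := ⟨_, rfl⟩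
  rw [← hx] at ha
  have x1 : ε * x = x := by rw [hx, ← mul_assoc, ← mul_assoc, ← mul_assoc, hε.idem]
  have x2 : e * x = x := by rw [hx, ← mul_assoc, ← mul_assoc, ← mul_assoc, hε.comm, mul_assoc ε e e, h.idem e he]
  have x3 : x * f = x := by rw [hx, mul_assoc, h.idem f hf]
  obtain ⟨b, hb⟩ := hA.prime_eps hε (x := x) (by rwa [x1]) hεe
  obtain ⟨y, hy⟩ : ∃ y, y = f * b * e := ⟨_, rfl⟩
  have xy : x * y = ε * e := by
    have e1 : x * y = ε * x * b * e := by rw [hy, x1, ← mul_assoc, ← mul_assoc, x3]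
    exact h5 e he _ (by rw [← mul_assoc, x1]) (by rw [← mul_assoc, x2]) (by rw [hy]; simp [mul_assoc, h.idem e he])
      (e1 ▸ hb)
  have yx : y * x = ε * f := by
    refine h5 f hf _ (by rw [← mul_assoc, ← hε.comm, mul_assoc, x1])
      (by rw [hy, ← mul_assoc, ← mul_assoc, ← mul_assoc, h.idem f hf]) (by rw [mul_assoc, x3]) fun h0 => ha ?_
    have e0 : ε * e * x = x := by rw [mul_assoc, x2, x1]
    rw [← e0, ← xy, mul_assoc, h0, mul_zero]
  have huniq : ∀ x', ε * x' = x' → e * x' = x' → x' * f = x' → x' ≠ 0 → x' = x := by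
    intro x' y1 y2 y3 y0
    have e1 : x' * y * x = x' := by rw [mul_assoc, yx, ← mul_assoc, hε.comm, y1, y3]
    have e2 : x' * y = ε * e := h5 e he _ (by rw [← mul_assoc, y1]) (by rw [← mul_assoc, y2])
      (by rw [hy]; simp [mul_assoc, h.idem e he]) fun h0 => y0 (by rw [← e1, h0, zero_mul])
    rw [← e1, e2, mul_assoc, x2, x1]
  have := Fintype.ofFinite A
  let T : Finset A := Finset.univ.filter fun z => ε * z = z ∧ ∃ e' ∈ D, ∃ f' ∈ D, e' * z = z ∧ z * f' = z
  have hT : ∀ z, z ∈ T ↔ ε * z = z ∧ ∃ e' ∈ D, ∃ f' ∈ D, e' * z = z ∧ z * f' = z := fun z => by simp [T]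
  have hTS : ∀ s ∈ F.S, ∀ z ∈ T, s z ∈ T := by
    intro s hs z hz
    obtain ⟨z1, e', he', f', hf', z2, z3⟩ := (hT z).1 hz
    refine (hT _).2 ⟨?_, s e', (hS hs e').1 he', s f', (hS hs f').1 hf', by rw [← map_mul, z2], by rw [← map_mul, z3]⟩
    conv_lhs => rw [← F.PI_le_Lin (F.S_le_PI hs) ε hε.cen, ← map_mul, z1]
  have hJ : ∑ z ∈ T, z ∈ Subring.center A := by
    refine FR.cen_of_S hM.span fun s hs => ?_
    rw [map_sum]
    refine Finset.sum_equiv s.toEquiv (fun z => ⟨hTS s hs z, fun hz => ?_⟩) fun _ _ => rfl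
    have h6 := hTS _ (inv_mem hs) _ hz
    exact (ra_inv_apply s z) ▸ h6
  have h6 : e * (∑ z ∈ T, z) * f = x := by
    rw [Finset.mul_sum, Finset.sum_mul, Finset.sum_eq_single x, x2, x3]
    · intro z hz hzx
      obtain ⟨z1, e', he', f', hf', z2, z3⟩ := (hT z).1 hz
      by_contra h0
      by_cases e1 : e = e'
      swap
      · exact h0 (by rw [← z2, ← mul_assoc, h.orth e he e' he' e1, zero_mul, zero_mul])
      by_cases e2 : f' = f
      swap
      · exact h0 (by rw [← z3, mul_assoc, mul_assoc, h.orth f' hf' f hf e2, mul_zero, mul_zero])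
      subst e1 e2
      exact hzx (huniq z z1 z2 z3 fun h7 => h0 (by rw [h7, mul_zero, zero_mul]))
    · intro hx'
      exact absurd ((hT x).2 ⟨x1, e, he, f, hf, x2, x3⟩) hx'
  rw [cen_comm hJ, mul_assoc, h.orth e he f hf hfe.symm, mul_zero] at h6
  exact ha h6.symm

end Fr

theorem boxIdem (hP5 : BoxP5) (hNC : BoxNC) : BoxIdem := by
  classical
  intro A _ _ _ F M h D hD hinv
  have hM : ∀ D : Finset A, Fr D → Inv M D → M = F.Aut ⊓ setStab (RingAut A) (D : Set A) := fun D hD hinv =>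
    h.eq_of_le (le_inf h.le (le_setStab hinv)) inf_le_left fun hle => hD.not_le_stab hNC h (hle.trans inf_le_right)
  have hker : ∀ D : Finset A, Fr D → Inv M D → PS 6 ↥(M ⊓ ptStab (RingAut A) (D : Set A)) := fun D hD hinv => by
    have h1 : M ⊓ ptStab (RingAut A) (D : Set A) = F.Aut ⊓ ptStab (RingAut A) (D : Set A) := by
      rw [hM D hD hinv, inf_assoc, inf_eq_right.2 (le_setStab fun g hg x hx => by rwa [hg x hx])]
    rw [h1]
    exact hD.ps_fix hP5 h.ss
  by_cases htr : ∀ e ∈ D, ∀ f ∈ D, ∃ u ∈ F.Iso, cj A u e = f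
  · refine ps_of_flip (a := 6) (s := (D : Set A)) (le_setStab hinv) (hker D hD hinv) fun γ hγ e he hne => ?_
    have hf : γ e ∈ D := hinv γ hγ e he
    obtain ⟨u, hu, hue⟩ := htr e he _ hf
    obtain ⟨w, hw, w1, w2, w3⟩ := hD.exists_swap he hf hne.symm hu hue
    refine ⟨cj A w, ?_, w1, w2, w3⟩
    rw [hM D hD hinv]
    refine ⟨FR.cj_mem_Aut hw, fun g => ?_⟩
    change g ∈ D ↔ cj A w g ∈ D
    by_cases n1 : g = e
    · rw [n1, w1]; exact iff_of_true he hf
    by_cases n2 : g = γ e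
    · rw [n2, w2]; exact iff_of_true hf he
    refine ⟨fun h1 => by rwa [w3 _ h1 n1 n2], fun h1 => ?_⟩
    have n3 : cj A w g ≠ e := fun e' => n2 ((cj A w).injective (e'.trans w2.symm))
    have n4 : cj A w g ≠ γ e := fun e' => n1 ((cj A w).injective (e'.trans w1.symm))
    exact (cj A w).injective (w3 _ h1 n3 n4) ▸ h1
  · push Not at htr
    obtain ⟨e, he, f, hf, hef⟩ := htr
    let Q := M ⊓ F.PI
    let Z : Subring A := Subring.centralizer (Subring.centralizer (D : Set A) : Set A) ⊓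
      ⨅ γ : Q, (γ.1 : A →+* A).eqLocus (RingHom.id A)
    have hZ : ∀ z, z ∈ Z ↔ z ∈ Subring.centralizer (Subring.centralizer (D : Set A) : Set A) ∧ ∀ γ ∈ Q, γ z = z :=
      fun z => by
        rw [Subring.mem_inf, Subring.mem_iInf]
        exact and_congr Iff.rfl ⟨fun h1 γ hγ => h1 ⟨γ, hγ⟩, fun h1 γ => h1 γ γ.2⟩
    have hDD : ∀ x ∈ D, x ∈ Subring.centralizer (D : Set A) := fun x hx y hy => by
      by_cases hxy : y = x
      · rw [hxy]
      · rw [hD.orth y hy x hx hxy, hD.orth x hx y hy (Ne.symm hxy)]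
    let s := D.filter fun g => ∃ u ∈ F.Iso, cj A u e = g
    have hs : ∀ g, g ∈ s ↔ g ∈ D ∧ ∃ u ∈ F.Iso, cj A u e = g := fun g => Finset.mem_filter
    have hsQ : ∀ γ ∈ Q, ∀ g ∈ s, γ g ∈ s := by
      rintro _ ⟨hγ, v, hv, rfl⟩ g hg
      obtain ⟨g1, u, hu, rfl⟩ := (hs g).1 hg
      exact (hs _).2 ⟨hinv _ hγ _ g1, v * u, mul_mem hv hu, by rw [map_mul, ra_mul]⟩
    have hmul : ∀ g ∈ D, g * ∑ x ∈ s, x = if g ∈ s then g else 0 := by
      intro g hg
      rw [Finset.mul_sum]
      split_ifs with h1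
      · rw [Finset.sum_eq_single g (fun y hy hyx => hD.orth g hg y ((hs y).1 hy).1 hyx.symm) (fun h2 => absurd h1 h2),
          hD.idem g hg]
      · exact Finset.sum_eq_zero fun y hy => hD.orth g hg y ((hs y).1 hy).1 fun h2 => h1 (h2 ▸ hy)
    obtain ⟨D', hD', hD'Z, hD'M⟩ := exists_frame Z
      (fun x hx y hy => ((hZ y).1 hy).1 x fun d hd => ((hZ x).1 hx).1 d (hDD d hd)) (e := ∑ x ∈ s, x)
      ((hZ _).2 ⟨Subring.sum_mem _ fun x hx y hy => (hy x ((hs x).1 hx).1).symm, fun γ hγ => by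
        rw [map_sum]
        refine Finset.sum_equiv γ.toEquiv (fun z => ⟨hsQ γ hγ z, fun hz => ?_⟩) fun _ _ => rfl
        exact (ra_inv_apply γ z) ▸ hsQ _ (inv_mem hγ) _ hz⟩)
      (by rw [star_sum]; exact Finset.sum_congr rfl fun x hx => hD.symm x ((hs x).1 hx).1)
      (by rw [Finset.sum_mul]; exact Finset.sum_congr rfl fun x hx => by rw [hmul x ((hs x).1 hx).1, if_pos hx])
      (fun h0 => by
        have h1 := hmul e he
        rw [h0, mul_zero, if_pos ((hs e).2 ⟨he, 1, one_mem _, by rw [map_one, ra_one]⟩)] at h1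
        exact hD.ne e he h1.symm)
      (fun h0 => by
        have h1 := hmul f hf
        rw [h0, mul_one, if_neg fun h2 => by
          obtain ⟨-, u, hu, e'⟩ := (hs f).1 h2
          exact hef u hu e'] at h1
        exact hD.ne f hf h1)
    have hinv' : Inv M D' := hD'M M h.le_SAut fun γ hγ z hz => (hZ _).2
      ⟨inv_centralizer (inv_centralizer hinv) γ hγ z ((hZ z).1 hz).1, fun δ hδ => by
        have h1 := ((hZ z).1 hz).2 (γ⁻¹ * δ * γ⁻¹⁻¹) ⟨M.mul_mem (M.mul_mem (inv_mem hγ) hδ.1) (inv_mem (inv_mem hγ)),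
          FR.conj_mem_PI (inv_mem (h.le hγ)) hδ.2⟩
        rw [inv_inv, ra_mul, ra_mul] at h1
        rw [← ra_apply_inv γ (δ (γ z)), h1]⟩
    refine (ps_of_dS_fix (b := 2) (hker D' hD' hinv') fun γ hγ d hd => ?_).mono (by norm_num)
    exact ((hZ d).1 (hD'Z d hd)).2 γ ⟨dS_le _ _ hγ, FR.dS_two_le h.ss (dS_mono h.le 2 hγ)⟩

end Cfsg.Agent.DS.Cl
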