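import Cfsg.Agent.DS.Cl.Defs

/-!
# Star-simple rings: ideals, central elements, matrix units, Skolem-Noether
-/

set_option autoImplicit false

namespace Cfsg.Agent.DS.Cl

open Cfsg Cfsg.Agent.H936 Cfsg.Agent.DS

variable {A : Type} [Ring A] [StarRing A]

omit [StarRing A] in
/-- a two-sided ideal -/
def Two (I : Ideal A) : Prop := ∀ x ∈ I, ∀ a, x * a ∈ I

/-- the image of a two-sided ideal under `star` -/
def starI (I : Ideal A) (h : Two I) : Ideal A where
  carrier := {x | star x ∈ I}
  add_mem' := by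
    intro a b (ha : star a ∈ I) (hb : star b ∈ I)
    show star (a + b) ∈ I
    rw [star_add]; exact I.add_mem ha hb
  zero_mem' := by show star (0 : A) ∈ I; rw [star_zero]; exact I.zero_mem
  smul_mem' := by
    intro c x (hx : star x ∈ I)
    show star (c * x) ∈ I
    rw [star_mul]; exact h _ hx _

theorem mem_starI {I : Ideal A} {h : Two I} {x : A} : x ∈ starI I h ↔ star x ∈ I := Iff.rfl

theorem two_starI {I : Ideal A} (h : Two I) : Two (starI I h) := by
  intro x hx a
  rw [mem_starI, star_mul]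
  exact I.mul_mem_left _ hx

omit [StarRing A] in
theorem cen_comm {c : A} (hc : c ∈ Subring.center A) (a : A) : a * c = c * a := Subring.mem_center_iff.1 hc a

theorem star_cen {c : A} (hc : c ∈ Subring.center A) : star c ∈ Subring.center A := by
  rw [Subring.mem_center_iff]
  intro g
  have h := congrArg star (cen_comm hc (star g))
  rw [star_mul, star_mul, star_star] at h
  exact h.symm

omit [StarRing A] in
theorem map_cen (γ : RingAut A) {c : A} (hc : c ∈ Subring.center A) : γ c ∈ Subring.center A := by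
  rw [Subring.mem_center_iff]
  intro g
  obtain ⟨g, rfl⟩ := γ.surjective g
  rw [← map_mul, ← map_mul, cen_comm hc]

omit [StarRing A] in
theorem two_span_cen {c : A} (hc : c ∈ Subring.center A) : Two (Ideal.span {c}) := by
  intro x hx a
  obtain ⟨b, rfl⟩ := Ideal.mem_span_singleton'.1 hx
  exact Ideal.mem_span_singleton'.2 ⟨b * a, by rw [mul_assoc, mul_assoc, cen_comm hc]⟩

omit [StarRing A] in
theorem inv_cen {u : Aˣ} (hu : (u : A) ∈ Subring.center A) : ((u⁻¹ : Aˣ) : A) ∈ Subring.center A := by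
  rw [Subring.mem_center_iff]
  intro g
  have h := cen_comm hu g
  calc g * ((u⁻¹ : Aˣ) : A) = ((u⁻¹ : Aˣ) : A) * ((u : A) * g) * ((u⁻¹ : Aˣ) : A) := by simp [← mul_assoc]
    _ = ((u⁻¹ : Aˣ) : A) * g := by rw [← h]; simp [mul_assoc]

/-- a central idempotent interchanged with its complement -/
structure Eps (ε : A) : Prop where
  cen : ε ∈ Subring.center A
  idem : ε * ε = ε
  add : ε + star ε = 1

namespace Eps

variable {ε : A} (h : Eps ε)
include h

theorem star_eq : star ε = 1 - ε := by rw [← h.add]; abel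

theorem ms : ε * star ε = 0 := by rw [h.star_eq, mul_sub, mul_one, h.idem, sub_self]

theorem sm : star ε * ε = 0 := by rw [h.star_eq, sub_mul, one_mul, h.idem, sub_self]

theorem st : Eps (star ε) :=
  ⟨star_cen h.cen, by rw [← star_mul, h.idem], by rw [star_star, add_comm, h.add]⟩

theorem comm (a : A) : a * ε = ε * a := cen_comm h.cen a

theorem ne_zero [Nontrivial A] : ε ≠ 0 := by
  rintro rfl
  have := h.add
  simp at this

theorem ne_one [Nontrivial A] : ε ≠ 1 := by
  intro h1
  have h2 := h.st.ne_zero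
  rw [h.star_eq, h1, sub_self] at h2
  exact h2 rfl

theorem split (a : A) : a = ε * a + star ε * a := by rw [← add_mul, h.add, one_mul]

theorem map {γ : RingAut A} (hγ : γ ∈ SAut A) : Eps (γ ε) :=
  ⟨map_cen γ h.cen, by rw [← map_mul, h.idem], by rw [← hγ, ← map_add, h.add, map_one]⟩

end Eps

/-- with a central element of trace one the two form parameters agree -/
theorem Lmin_eq_Lmax {c : A} (hc : c ∈ Subring.center A) (h1 : c + star c = 1) : Lmin A = Lmax A := by
  refine le_antisymm Lmin_le_Lmax fun x hx => ?_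
  have hx' : star x = -x := hx
  refine ⟨c * x, ?_⟩
  rw [star_mul, hx', neg_mul, sub_neg_eq_add, cen_comm (star_cen hc), ← add_mul, h1, one_mul]

theorem FR.L_eq (F : FR A) {c : A} (hc : c ∈ Subring.center A) (h1 : c + star c = 1) : F.L = Lmax A := by
  rcases F.par with h | h
  · rw [h, Lmin_eq_Lmax hc h1]
  · exact h

namespace SS

variable (h : SS A)
include h

theorem nontrivial : Nontrivial A := h.1

theorem eq_bot_or_top {I : Ideal A} (hI : Two I) (hs : ∀ x ∈ I, star x ∈ I) : I = ⊥ ∨ I = ⊤ := h.2 I hI hs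

/-- `I + I*` -/
theorem sup_star {I : Ideal A} (hI : Two I) (hne : I ≠ ⊥) : ∃ x ∈ I, ∃ y ∈ I, x + star y = 1 := by
  have h1 : Two (I ⊔ starI I hI) := by
    intro x hx a
    obtain ⟨y, hy, z, hz, rfl⟩ := Submodule.mem_sup.1 hx
    rw [add_mul]
    exact Submodule.add_mem_sup (hI y hy a) (two_starI hI z hz a)
  have h2 : ∀ x ∈ I ⊔ starI I hI, star x ∈ I ⊔ starI I hI := by
    intro x hx
    obtain ⟨y, hy, z, hz, rfl⟩ := Submodule.mem_sup.1 hx
    rw [star_add, add_comm]
    exact Submodule.add_mem_sup hz (by rw [mem_starI, star_star]; exact hy)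
  rcases h.eq_bot_or_top h1 h2 with h3 | h3
  · exact absurd (eq_bot_iff.2 (h3 ▸ le_sup_left)) hne
  · have h4 : (1 : A) ∈ I ⊔ starI I hI := by rw [h3]; trivial
    obtain ⟨y, hy, z, hz, hyz⟩ := Submodule.mem_sup.1 h4
    exact ⟨y, hy, star z, hz, by rw [star_star, hyz]⟩

/-- nil two-sided ideals vanish -/
theorem nil_eq_bot {J : Ideal A} (hJ : Two J) (hn : ∀ x ∈ J, IsNilpotent x) : J = ⊥ := by
  by_contra hne
  have := h.nontrivial
  obtain ⟨x, hx, y, hy, hxy⟩ := h.sup_star hJ hne
  have h1 : IsUnit (1 - x) := (hn x hx).isUnit_one_sub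
  have h2 : star y = 1 - x := by rw [← hxy]; abel
  have h3 : IsUnit y := by
    have h4 := (h2 ▸ h1 : IsUnit (star y)).star
    rwa [star_star] at h4
  exact (hn y hy).not_isUnit h3

theorem isUnit_of_cen {c : A} (hc : c ∈ Subring.center A) (hs : star c = c) (hne : c ≠ 0) : IsUnit c := by
  have h1 : ∀ x ∈ Ideal.span {c}, star x ∈ Ideal.span {c} := by
    intro x hx
    obtain ⟨b, rfl⟩ := Ideal.mem_span_singleton'.1 hx
    exact Ideal.mem_span_singleton'.2 ⟨star b, by rw [star_mul, hs, cen_comm hc]⟩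
  rcases h.eq_bot_or_top (two_span_cen hc) h1 with h2 | h2
  · exact absurd (Ideal.span_singleton_eq_bot.1 h2) hne
  · have h3 : (1 : A) ∈ Ideal.span {c} := by rw [h2]; trivial
    obtain ⟨b, hb⟩ := Ideal.mem_span_singleton'.1 h3
    exact ⟨⟨c, b, by rw [← cen_comm hc, hb], hb⟩, rfl⟩

theorem idem_symm {e : A} (hc : e ∈ Subring.center A) (hs : star e = e) (he : e * e = e) : e = 0 ∨ e = 1 := by
  by_cases h0 : e = 0
  · exact Or.inl h0
  · right
    have h1 := h.isUnit_of_cen hc hs h0
    exact h1.mul_left_cancel (by rw [he, mul_one])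

/-- central idempotents -/
theorem idem_cases {e : A} (hc : e ∈ Subring.center A) (he : e * e = e) : e = 0 ∨ e = 1 ∨ Eps e := by
  have hc' := star_cen hc
  have he' : star e * star e = star e := by rw [← star_mul, he]
  have h1 := h.idem_symm (Subring.mul_mem _ hc hc') (by rw [star_mul, star_star])
    (by rw [mul_assoc, ← mul_assoc (star e), cen_comm hc, mul_assoc, he', ← mul_assoc, he])
  rcases h1 with h1 | h1
  · have h2 : star e * e = 0 := by rw [cen_comm hc, h1]
    rcases h.idem_symm (Subring.add_mem _ hc hc') (by rw [star_add, star_star, add_comm])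
      (by rw [add_mul, mul_add, mul_add, he, he', h1, h2, add_zero, zero_add]) with h3 | h3
    · left
      have h4 := congrArg (e * ·) h3
      simpa [mul_add, he, h1] using h4
    · exact Or.inr (Or.inr ⟨hc, he, h3⟩)
  · right; left
    have h2 := congrArg (e * ·) h1
    simp only [← mul_assoc, he, mul_one] at h2
    rw [← h2, h1]

/-- in the split case, `ε A` has no central idempotents except `0` and `ε` -/
theorem idem_eps {ε e : A} (hε : Eps ε) (hc : e ∈ Subring.center A) (he : e * e = e) : ε * e = 0 ∨ ε * e = ε := by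
  have := h.nontrivial
  have h1 : ε * e * (ε * e) = ε * e := by
    rw [mul_assoc, ← mul_assoc e, hε.comm e, mul_assoc, he, ← mul_assoc, hε.idem]
  rcases h.idem_cases (Subring.mul_mem _ hε.cen hc) h1 with h2 | h2 | h2
  · exact Or.inl h2
  · exfalso
    have h3 := congrArg (star ε * ·) h2
    simp only [← mul_assoc, hε.sm, zero_mul, mul_one] at h3
    exact hε.st.ne_zero h3.symm
  · right
    have h3 := congrArg (ε * ·) h2.add
    simp only [mul_add, star_mul, ← mul_assoc, hε.idem, mul_one] at h3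
    rw [← hε.comm (star e), mul_assoc, hε.ms, mul_zero, add_zero] at h3
    exact h3

theorem eps_unique {ε ε' : A} (hε : Eps ε) (hε' : Eps ε') : ε' = ε ∨ ε' = star ε := by
  have := h.nontrivial
  rcases h.idem_eps hε hε'.cen hε'.idem with h1 | h1 <;> rcases h.idem_eps hε.st hε'.cen hε'.idem with h2 | h2
  · exact absurd (by rw [hε.split ε', h1, h2, add_zero]) hε'.ne_zero
  · right; rw [hε.split ε', h1, h2, zero_add]
  · left; rw [hε.split ε', h1, h2, add_zero]
  · exact absurd (by rw [hε.split ε', h1, h2, hε.add]) hε'.ne_one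

theorem map_eps {ε : A} (hε : Eps ε) {γ : RingAut A} (hγ : γ ∈ SAut A) : γ ε = ε ∨ γ ε = star ε :=
  h.eps_unique hε (hε.map hγ)

variable [Finite A]

theorem semisimple : IsSemisimpleRing A := by
  rw [IsArtinianRing.isSemisimpleRing_iff_jacobson]
  refine h.nil_eq_bot (fun x hx a => Ideal.mul_mem_right a _ hx) fun x hx => ?_
  obtain ⟨n, hn⟩ := IsArtinianRing.isNilpotent_jacobson_bot (R := A)
  rw [Ideal.jacobson_bot] at hn
  refine ⟨n, ?_⟩
  have h1 : x ^ n ∈ Ring.jacobson A ^ n := Ideal.pow_mem_pow hx n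
  rw [hn] at h1
  exact h1

/-- every left ideal is generated by an idempotent -/
theorem exists_idem (I : Ideal A) : ∃ e ∈ I, e * e = e ∧ ∀ x ∈ I, x * e = x := by
  have := h.semisimple
  obtain ⟨e, he, hI⟩ := IsSemisimpleRing.ideal_eq_span_idempotent I
  refine ⟨e, by rw [hI]; exact Ideal.mem_span_singleton_self e, he.eq, fun x hx => ?_⟩
  rw [hI] at hx
  obtain ⟨b, rfl⟩ := Ideal.mem_span_singleton'.1 hx
  rw [mul_assoc, he.eq]

/-- von Neumann regularity -/
theorem regular (x : A) : ∃ y, x * y * x = x := by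
  obtain ⟨e, he, -, h2⟩ := h.exists_idem (Ideal.span {x})
  obtain ⟨y, rfl⟩ := Ideal.mem_span_singleton'.1 he
  exact ⟨y, by rw [mul_assoc]; exact h2 x (Ideal.mem_span_singleton_self x)⟩

/-- a two-sided ideal is generated by a central idempotent -/
theorem exists_cen_idem {I : Ideal A} (hI : Two I) :
    ∃ e ∈ I, e ∈ Subring.center A ∧ e * e = e ∧ ∀ x ∈ I, x * e = x := by
  obtain ⟨e, he, hee, h2⟩ := h.exists_idem I
  refine ⟨e, he, ?_, hee, h2⟩
  have h3 : ∀ a, e * a * e = e * a := fun a => h2 _ (hI e he a)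
  let N : Ideal A :=
    { carrier := {x | e * x = 0 ∧ x * e = x}
      add_mem' := by
        rintro a b ⟨ha, ha'⟩ ⟨hb, hb'⟩
        exact ⟨by rw [mul_add, ha, hb, add_zero], by rw [add_mul, ha', hb']⟩
      zero_mem' := ⟨by simp, by simp⟩
      smul_mem' := by
        rintro c x ⟨hx, hx'⟩
        refine ⟨?_, by rw [smul_eq_mul, mul_assoc, hx']⟩
        rw [smul_eq_mul, ← mul_assoc, ← h3 c, mul_assoc, hx, mul_zero] }
  have hN : N = ⊥ := by
    refine h.nil_eq_bot ?_ ?_
    · rintro x ⟨hx, hx'⟩ a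
      exact ⟨by rw [← mul_assoc, hx, zero_mul], by rw [← hx', mul_assoc x, mul_assoc x, h3]⟩
    · rintro x ⟨hx, hx'⟩
      exact ⟨2, by rw [pow_two, ← hx', mul_assoc, ← mul_assoc e, hx, zero_mul, mul_zero]⟩
  rw [Subring.mem_center_iff]
  intro g
  have h4 : g * e - e * g ∈ N := by
    refine ⟨by rw [mul_sub, ← mul_assoc, h3, ← mul_assoc, hee, sub_self], ?_⟩
    rw [sub_mul, mul_assoc, hee, h3]
  rw [hN, Ideal.mem_bot, sub_eq_zero] at h4
  exact h4

/-- two-sided ideals -/
theorem two_cases {I : Ideal A} (hI : Two I) : I = ⊥ ∨ I = ⊤ ∨ ∃ ε, Eps ε ∧ ∀ x, x ∈ I ↔ ε * x = x := by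
  obtain ⟨e, he, hc, hee, h2⟩ := h.exists_cen_idem hI
  rcases h.idem_cases hc hee with h3 | h3 | h3
  · left
    rw [eq_bot_iff]
    intro x hx
    rw [← h2 x hx, h3, mul_zero]
    exact Ideal.zero_mem _
  · right; left
    rw [Ideal.eq_top_iff_one, ← h3]
    exact he
  · refine Or.inr (Or.inr ⟨e, h3, fun x => ⟨fun hx => by rw [← h3.comm, h2 x hx], fun hx => ?_⟩⟩)
    rw [← hx]
    exact hI e he x

theorem simple_or_eps : IsSimpleRing A ∨ ∃ ε : A, Eps ε := by
  by_cases hε : ∃ ε : A, Eps ε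
  · exact Or.inr hε
  left
  have := h.nontrivial
  refine IsSimpleRing.of_eq_bot_or_eq_top fun I => ?_
  rcases h.two_cases (I := I.asIdeal) (fun x hx a => I.mul_mem_right _ _ hx) with h1 | h1 | ⟨ε, h1, -⟩
  · left
    rw [eq_bot_iff]
    intro x hx
    have h2 : x ∈ I.asIdeal := hx
    rw [h1] at h2
    exact h2
  · right
    rw [eq_top_iff]
    intro x _
    have h2 : x ∈ I.asIdeal := by rw [h1]; trivial
    exact h2
  · exact absurd ⟨ε, h1⟩ hε

/-- without `Eps`, two-sided ideals are trivial -/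
theorem two_of_not_eps (hε : ¬ ∃ ε : A, Eps ε) {I : Ideal A} (hI : Two I) : I = ⊥ ∨ I = ⊤ := by
  rcases h.two_cases hI with h1 | h1 | ⟨ε, h1, -⟩
  · exact Or.inl h1
  · exact Or.inr h1
  · exact absurd ⟨ε, h1⟩ hε

/-- without `Eps`, non-zero central elements are units -/
theorem isUnit_of_not_eps (hε : ¬ ∃ ε : A, Eps ε) {c : A} (hc : c ∈ Subring.center A) (hne : c ≠ 0) : IsUnit c := by
  rcases h.two_of_not_eps hε (two_span_cen hc) with h2 | h2
  · exact absurd (Ideal.span_singleton_eq_bot.1 h2) hne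
  · have h3 : (1 : A) ∈ Ideal.span {c} := by rw [h2]; trivial
    obtain ⟨b, hb⟩ := Ideal.mem_span_singleton'.1 h3
    exact ⟨⟨c, b, by rw [← cen_comm hc, hb], hb⟩, rfl⟩

omit [Finite A] in
/-- in the split case a non-zero two-sided ideal inside `ε A` contains `ε` -/
theorem eps_mem {ε : A} (hε : Eps ε) {I : Ideal A} (hI : Two I) (hne : I ≠ ⊥) (hle : ∀ x ∈ I, ε * x = x) : ε ∈ I := by
  obtain ⟨x, hx, y, hy, hxy⟩ := h.sup_star hI hne
  have h1 : ε * star y = 0 := by
    rw [← hle y hy, star_mul, ← mul_assoc, ← hε.comm, mul_assoc, hε.ms, mul_zero]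
  have h2 := congrArg (ε * ·) hxy
  simp only [mul_add, h1, hle x hx, add_zero, mul_one] at h2
  exact h2 ▸ hx

omit [Finite A] in
/-- in the split case a non-zero central element of `ε A` is invertible in `ε A` -/
theorem eps_inv {ε c : A} (hε : Eps ε) (hc : c ∈ Subring.center A) (hne : ε * c ≠ 0) :
    ∃ d ∈ Subring.center A, d * c = ε := by
  have h0 : ε * c ∈ Subring.center A := Subring.mul_mem _ hε.cen hc
  have h1 := h.isUnit_of_cen (c := ε * c + star (ε * c)) (Subring.add_mem _ h0 (star_cen h0))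
    (by rw [star_add, star_star, add_comm]) (by
      intro h2
      have h3 := congrArg (ε * ·) h2
      simp only [mul_add, star_mul, ← mul_assoc, hε.idem, mul_zero] at h3
      rw [← hε.comm (star c), mul_assoc, hε.ms, mul_zero, add_zero] at h3
      exact hne h3)
  obtain ⟨u, hu⟩ := h1
  have hu' : (u : A) ∈ Subring.center A := hu ▸ Subring.add_mem _ h0 (star_cen h0)
  refine ⟨ε * (u⁻¹ : Aˣ), Subring.mul_mem _ hε.cen (inv_cen hu'), ?_⟩
  have h2 : ε * (u : A) = ε * c := by
    rw [hu, mul_add, star_mul, ← mul_assoc, hε.idem, ← mul_assoc, ← hε.comm (star c), mul_assoc, hε.ms]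
    simp
  calc ε * ((u⁻¹ : Aˣ) : A) * c = ((u⁻¹ : Aˣ) : A) * (ε * c) := by rw [← hε.comm, mul_assoc]
    _ = ε := by rw [← h2, ← hε.comm, ← mul_assoc, Units.inv_mul, one_mul]

end SS

end Cfsg.Agent.DS.Cl
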