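import Cfsg.Agent.DS.Cl.Mod
import Cfsg.Agent.DS.Cl.Ring

/-!
# S5881, classical groups: non-central isometries (`BoxNC`, helper93)
-/

set_option autoImplicit false

namespace Cfsg.Agent.DS.Cl.NCTV

open Module Cfsg.Agent.DS.Cl

variable {A : Type} [Ring A] [StarRing A]

/-- `1 - s` is an isometry when `s l s* - s* ∈ L` -/
theorem iso_of [Finite A] (F : FR A) {s : A} (h : s * F.l * star s - star s ∈ F.L) :
    ∃ u ∈ F.Iso, (u : A) = 1 - s := by
  have h1 := F.star_eq_neg h
  rw [star_sub, star_star, star_mul, star_mul, star_star, ← mul_assoc] at h1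
  have hl : star F.l = 1 - F.l := eq_sub_of_add_eq' F.l_add
  have h2 : s * star s = s + star s := by
    rw [hl] at h1
    calc s * star s = (s * (1 - F.l) * star s - s) + (s * F.l * star s - star s) + (s + star s) := by noncomm_ring
      _ = s + star s := by rw [h1, neg_add_cancel, zero_add]
  have h3 : (1 - s) * star (1 - s) = 1 := by
    rw [star_sub, star_one]
    calc (1 - s) * (1 - star s) = 1 - (s + star s) + s * star s := by noncomm_ring
      _ = 1 := by rw [h2, sub_add_cancel]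
  obtain ⟨u, hu⟩ : IsUnit (1 - s) := IsUnit.of_mul_eq_one _ h3
  refine ⟨u, ⟨by rw [hu, h3], ?_⟩, hu⟩
  have h4 := F.L.sub_mem h (F.sub_star_mem (s * F.l))
  rw [star_mul, hl] at h4
  rw [hu, star_sub, star_one]
  convert h4 using 1
  noncomm_ring

section form

variable {K V : Type} [Field K] [AddCommGroup V] [Module K V] {σ : K →+* K}

/-- the rank one operator `w ↦ c * b v w • v` -/
def rk (b : V →ₛₗ[σ] V →ₗ[K] K) (c : K) (v : V) : End K V := c • (b v).smulRight v

theorem rk_apply (b : V →ₛₗ[σ] V →ₗ[K] K) (c : K) (v w : V) : rk b c v w = (c * b v w) • v := by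
  rw [rk, LinearMap.smul_apply, LinearMap.smulRight_apply, smul_smul]

theorem rk_mul (b : V →ₛₗ[σ] V →ₗ[K] K) (c d : K) (v : V) (x : End K V) :
    rk b c v * x * rk b d v = rk b (c * d * b v (x v)) v := by
  ext w
  simp only [Module.End.mul_apply, rk_apply, map_smul, smul_smul]
  congr 1
  ring

theorem ext_right {b : V →ₛₗ[σ] V →ₗ[K] K} (hb : b.SeparatingLeft) {ε : K} (hε : ε ≠ 0)
    (hs : ∀ v w, σ (b v w) = ε * b w v) {x y : V} (h : ∀ w, b w x = b w y) : x = y := by
  rw [← sub_eq_zero]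
  refine hb _ fun w => ?_
  have h1 := hs w (x - y)
  rw [map_sub, h, sub_self, map_zero] at h1
  exact (mul_eq_zero.1 h1.symm).resolve_left hε

theorem star_rk {b : V →ₛₗ[σ] V →ₗ[K] K} (hb : b.SeparatingLeft) {ε : K} (hε : ε ≠ 0)
    (hs : ∀ v w, σ (b v w) = ε * b w v) (e : A ≃+* End K V) (hadj : ∀ a v w, b (e a v) w = b v (e (star a) w))
    (c : K) (v : V) : star (e.symm (rk b c v)) = e.symm (rk b (σ c * ε) v) := by
  apply e.injective
  rw [e.apply_symm_apply]
  ext w
  refine ext_right hb hε hs fun x => ?_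
  rw [← hadj, e.apply_symm_apply, rk_apply, rk_apply, map_smulₛₗ, map_smul, LinearMap.smul_apply, map_mul, hs,
    smul_eq_mul, smul_eq_mul]
  ring

omit [StarRing A] in
theorem comm_of_rk {b : V →ₛₗ[σ] V →ₗ[K] K} (hb : b.SeparatingLeft) (e : A ≃+* End K V) {c : K} (hc : c ≠ 0) {v : V}
    (hv : v ≠ 0) (h : e.symm (rk b c v) ∈ Subring.center A) (x y : A) : x * y = y * x := by
  have h1 : ∃ w, b v w ≠ 0 := by
    by_contra hc
    push Not at hc
    exact hv (hb v hc)
  obtain ⟨w, hw⟩ := h1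
  have h2 : ∀ a : End K V, ∃ t : K, a v = t • v := by
    intro a
    have h3 := congrArg (fun z => e z w) (Subring.mem_center_iff.1 h (e.symm a))
    simp only [map_mul, e.apply_symm_apply, Module.End.mul_apply, rk_apply, map_smul] at h3
    refine ⟨(c * b v w)⁻¹ * (c * b v (a w)), ?_⟩
    rw [mul_smul, ← h3, smul_smul, inv_mul_cancel₀ (mul_ne_zero hc hw), one_smul]
  have h4 : ∀ z : V, ∃ t : K, z = t • v := by
    intro z
    obtain ⟨φ, hφ⟩ := Module.Projective.exists_dual_eq_one K hv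
    obtain ⟨t, ht⟩ := h2 (φ.smulRight z)
    rw [LinearMap.smulRight_apply, hφ, one_smul] at ht
    exact ⟨t, ht⟩
  apply e.injective
  ext z
  obtain ⟨t, rfl⟩ := h4 z
  obtain ⟨t1, h5⟩ := h2 (e x)
  obtain ⟨t2, h6⟩ := h2 (e y)
  simp only [map_mul, Module.End.mul_apply, map_smul, h5, h6, smul_smul]
  congr 1
  ring

omit [StarRing A] in
theorem sub_cen {s : A} (h : 1 - s ∈ Subring.center A) : s ∈ Subring.center A := by
  have := (Subring.center A).sub_mem (Subring.center A).one_mem h
  rwa [sub_sub_cancel] at this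

/-- reflections -/
theorem nc_refl [Finite A] (F : FR A) (hA : ∃ a b : A, a * b ≠ b * a) {b : V →ₛₗ[σ] V →ₗ[K] K}
    (hb : b.SeparatingLeft) {ε : K} (hε : ε ≠ 0) (hs : ∀ v w, σ (b v w) = ε * b w v) (e : A ≃+* End K V)
    (hadj : ∀ a v w, b (e a v) w = b v (e (star a) w)) {v : V} (hv : b v (e F.l v) ≠ 0) :
    ∃ u ∈ F.Iso, (u : A) ∉ Subring.center A := by
  have hv0 : v ≠ 0 := by
    rintro rfl
    exact hv (by simp)
  obtain ⟨u, hu, hu'⟩ := iso_of F (s := e.symm (rk b (b v (e F.l v))⁻¹ v)) (by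
    rw [star_rk hb hε hs e hadj]
    have h1 : e.symm (rk b (b v (e F.l v))⁻¹ v) * F.l * e.symm (rk b (σ (b v (e F.l v))⁻¹ * ε) v) =
        e.symm (rk b (σ (b v (e F.l v))⁻¹ * ε) v) := by
      apply e.injective
      rw [map_mul, map_mul, e.apply_symm_apply, e.apply_symm_apply, rk_mul, mul_right_comm, inv_mul_cancel₀ hv,
        one_mul]
    rw [h1, sub_self]
    exact F.L.zero_mem)
  obtain ⟨x, y, hxy⟩ := hA
  exact ⟨u, hu, fun h => hxy (comm_of_rk hb e (inv_ne_zero hv) hv0 (sub_cen (hu' ▸ h)) x y)⟩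

theorem polar {b : V →ₛₗ[σ] V →ₗ[K] K} {x : End K V} (h : ∀ v, b v (x v) = 0) (v w : V) :
    b v (x w) + b w (x v) = 0 := by
  have h1 := h (v + w)
  simp only [map_add, LinearMap.add_apply, h, zero_add, add_zero] at h1
  rwa [add_comm] at h1

end form

theorem nc_U [Finite A] [Nontrivial A] (F : FR A) (hA : ∃ a b : A, a * b ≠ b * a) (h : ModU A) :
    ∃ u ∈ F.Iso, (u : A) ∉ Subring.center A := by
  obtain ⟨K, _, _, n, e, σ, b, -, hσ, -, hs, hb, hadj⟩ := h
  have hs' : ∀ v w, σ (b v w) = 1 * b w v := fun v w => by rw [one_mul, hs.eq]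
  by_cases h1 : ∃ v, b v (e F.l v) ≠ 0
  · obtain ⟨v, hv⟩ := h1
    exact nc_refl F hA hb one_ne_zero hs' e hadj hv
  exfalso
  push Not at h1
  obtain ⟨a, ha⟩ : ∃ a, σ a ≠ a := by
    by_contra hc
    push Not at hc
    exact hσ (RingHom.ext hc)
  have h2 : F.l = 0 := by
    apply e.injective
    rw [map_zero]
    refine LinearMap.ext fun w => ?_
    refine ext_right hb one_ne_zero hs' fun v => ?_
    have h3 := polar h1 v w
    have h4 := polar h1 v (a • w)
    rw [map_smul, map_smul, map_smulₛₗ, LinearMap.smul_apply, smul_eq_mul, smul_eq_mul,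
      eq_neg_of_add_eq_zero_right h3] at h4
    have h5 : (a - σ a) * b v (e F.l w) = 0 := by rw [← h4]; ring
    rw [LinearMap.zero_apply, map_zero]
    exact (mul_eq_zero.1 h5).resolve_left (sub_ne_zero.2 ha.symm)
  have h3 := F.l_add
  rw [h2, star_zero, add_zero] at h3
  exact zero_ne_one h3

theorem nc_B [Finite A] [Nontrivial A] (F : FR A) (hA : ∃ a b : A, a * b ≠ b * a) (h : ModB A) :
    ∃ u ∈ F.Iso, (u : A) ∉ Subring.center A := by
  obtain ⟨K, _, _, n, e, b, hn, hs, hb, hadj⟩ := h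
  obtain ⟨ε, hε, hs'⟩ : ∃ ε : K, (ε = 1 ∨ ε = -1) ∧ ∀ v w, RingHom.id K (b v w) = ε * b w v := by
    rcases hs with hs | hs
    · exact ⟨1, Or.inl rfl, fun v w => by rw [one_mul, hs, RingHom.id_apply]⟩
    · exact ⟨-1, Or.inr rfl, fun v w => by rw [neg_one_mul, ← hs, RingHom.id_apply]⟩
  have hε0 : ε ≠ 0 := by
    rcases hε with rfl | rfl
    · exact one_ne_zero
    · exact neg_ne_zero.2 one_ne_zero
  by_cases h1 : ∃ v, b v (e F.l v) ≠ 0
  · obtain ⟨v, hv⟩ := h1
    exact nc_refl F hA hb hε0 hs' e hadj hv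
  push Not at h1
  have h2 : ∀ w, e F.l w = (-ε) • e (star F.l) w := by
    intro w
    refine ext_right hb hε0 hs' fun v => ?_
    have h3 := polar (σ := RingHom.id K) h1 v w
    have h4 := hadj (star F.l) w v
    rw [star_star] at h4
    have h5 := hs' (e (star F.l) w) v
    rw [RingHom.id_apply] at h5
    rw [← h4, h5] at h3
    rw [map_smul, smul_eq_mul, neg_mul]
    exact eq_neg_of_add_eq_zero_left h3
  rcases hε with rfl | rfl
  · exfalso
    have h3 : F.l + star F.l = 0 := by
      apply e.injective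
      refine LinearMap.ext fun w => ?_
      rw [map_add, LinearMap.add_apply, h2, neg_one_smul, neg_add_cancel, map_zero, LinearMap.zero_apply]
    exact one_ne_zero (F.l_add.symm.trans h3)
  have h3 : star F.l = F.l := by
    apply e.injective
    refine LinearMap.ext fun w => ?_
    rw [h2, neg_neg, one_smul]
  have h4 : F.l + F.l = 1 := by
    have := F.l_add
    rwa [h3] at this
  have h5 : F.l ∈ Subring.center A := by
    refine Subring.mem_center_iff.2 fun a => ?_
    calc a * F.l = (F.l + F.l) * a * F.l := by rw [h4, one_mul]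
      _ = F.l * a * (F.l + F.l) := by noncomm_ring
      _ = F.l * a := by rw [h4, mul_one]
  have : Nonempty (Fin n) := ⟨⟨0, hn⟩⟩
  obtain ⟨v, hv⟩ := exists_ne (0 : Fin n → K)
  have h6 : star (e.symm (rk b 1 v)) = -e.symm (rk b 1 v) := by
    rw [star_rk hb hε0 hs' e hadj, ← map_neg]
    congr 1
    refine LinearMap.ext fun w => ?_
    rw [LinearMap.neg_apply, rk_apply, rk_apply, map_one, one_mul, one_mul, neg_one_mul, neg_smul]
  obtain ⟨u, hu, hu'⟩ := iso_of F (s := e.symm (rk b 1 v)) (by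
    have h7 : e.symm (rk b 1 v) * F.l * e.symm (rk b 1 v) = 0 := by
      apply e.injective
      rw [map_mul, map_mul, e.apply_symm_apply, rk_mul, h1, mul_zero, map_zero, rk, zero_smul]
    rw [h6, mul_neg, h7, neg_zero, zero_sub, neg_neg, F.L_eq h5 F.l_add]
    exact h6)
  obtain ⟨x, y, hxy⟩ := hA
  exact ⟨u, hu, fun h => hxy (comm_of_rk hb e one_ne_zero hv (sub_cen (hu' ▸ h)) x y)⟩

/-- the central idempotent of the linear model -/
theorem eps_L {B : Type} [Ring B] (π : A →+* B) (hπ : Function.Bijective fun a => (π a, π (star a))) :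
    ∃ c ∈ Subring.center A, c + star c = 1 ∧ π c = 1 ∧ π (star c) = 0 := by
  obtain ⟨c, hc⟩ := hπ.2 (1, 0)
  have h1 : π c = 1 := congrArg Prod.fst hc
  have h2 : π (star c) = 0 := congrArg Prod.snd hc
  refine ⟨c, Subring.mem_center_iff.2 fun a => hπ.1 ?_, hπ.1 ?_, h1, h2⟩
  · simp only [star_mul, map_mul, h1, h2, mul_one, one_mul, mul_zero, zero_mul]
  · simp only [star_add, star_star, map_add, h1, h2, star_one, map_one, add_zero, zero_add]

theorem nc_L [Finite A] (F : FR A) (hA : ∃ a b : A, a * b ≠ b * a) (h : ModL A) :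
    ∃ u ∈ F.Iso, (u : A) ∉ Subring.center A := by
  obtain ⟨K, _, _, n, π, hn, hπ⟩ := h
  obtain ⟨c, hc, hc1, -, -⟩ := eps_L π hπ
  have h1 : ∃ x : End K (Fin n → K), x * x = 0 ∧ x ≠ 0 := by
    rcases Nat.lt_or_ge 1 n with h | h
    · refine ⟨(LinearMap.proj (⟨0, hn⟩ : Fin n)).smulRight (Pi.single (⟨1, h⟩ : Fin n) 1), ?_, fun h0 => ?_⟩
      · refine LinearMap.ext fun w => ?_
        simp
      · have h2 := congrFun (LinearMap.congr_fun h0 (Pi.single (⟨0, hn⟩ : Fin n) 1)) ⟨1, h⟩
        simp at h2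
    · exfalso
      obtain rfl : n = 1 := le_antisymm h hn
      have h2 : ∀ x y : End K (Fin 1 → K), x * y = y * x := by
        have h3 : ∀ (x : End K (Fin 1 → K)) (w : Fin 1 → K), x w = (x (fun _ => 1) 0) • w := by
          intro x w
          have h4 : w = w 0 • fun _ => (1 : K) := by
            funext i
            rw [Subsingleton.elim i 0, Pi.smul_apply, smul_eq_mul, mul_one]
          funext i
          rw [Subsingleton.elim i 0]
          conv_lhs => rw [h4]
          rw [map_smul, Pi.smul_apply, Pi.smul_apply, smul_eq_mul, smul_eq_mul, mul_comm]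
        intro x y
        refine LinearMap.ext fun w => ?_
        rw [Module.End.mul_apply, Module.End.mul_apply, h3 x (y w), h3 y (x w), h3 x w, h3 y w, smul_comm]
      obtain ⟨a, b, hab⟩ := hA
      exact hab (hπ.1 (by simp only [star_mul, map_mul, h2 (π a), h2 (π (star b))]))
  obtain ⟨x, hx, hx0⟩ := h1
  obtain ⟨s, hs⟩ := hπ.2 (x, -x)
  have h2 : π s = x := congrArg Prod.fst hs
  have h3 : π (star s) = -x := congrArg Prod.snd hs
  have hx' : x * -x = 0 := by rw [mul_neg x x, hx, neg_zero]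
  have h4 : s * star s = s + star s := hπ.1 (by
    simp only [star_mul, star_add, star_star, map_mul, map_add, h2, h3, hx', add_neg_cancel, neg_add_cancel])
  obtain ⟨u, hu, hu'⟩ := iso_of F (s := s) (by
    rw [F.L_eq hc hc1]
    have hl : star F.l = 1 - F.l := eq_sub_of_add_eq' F.l_add
    change star _ = -_
    rw [star_sub, star_star, star_mul, star_mul, star_star, hl]
    calc s * ((1 - F.l) * star s) - s = s * star s - s - s * F.l * star s := by noncomm_ring
      _ = -(s * F.l * star s - star s) := by rw [h4]; abel)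
  refine ⟨u, hu, fun h => hx0 ?_⟩
  have h5 := sub_cen (hu' ▸ h)
  have h6 : ∀ y, y * x = x * y := by
    intro y
    obtain ⟨a, ha⟩ := hπ.2 (y, 0)
    have h7 : π a = y := congrArg Prod.fst ha
    rw [← h7, ← h2, ← map_mul, ← map_mul, Subring.mem_center_iff.1 h5]
  refine LinearMap.ext fun w => ?_
  by_contra hw
  obtain ⟨φ, hφ⟩ := Module.Projective.exists_dual_eq_one K hw
  have h7 := LinearMap.congr_fun (h6 (φ.smulRight w)) (x w)
  have h8 : x (x w) = 0 := by rw [← Module.End.mul_apply, hx, LinearMap.zero_apply]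
  rw [Module.End.mul_apply, Module.End.mul_apply, h8, map_zero, LinearMap.smulRight_apply, hφ, one_smul] at h7
  exact hw h7.symm

theorem boxNC : BoxNC := by
  intro A _ _ _ h F hA
  have := h.1
  rcases exists_model h with h1 | h1 | h1
  · exact nc_L F hA h1
  · exact nc_U F hA h1
  · exact nc_B F hA h1

end Cfsg.Agent.DS.Cl.NCTV
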