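import Cfsg.Agent.DS.Cl.Basic
import Cfsg.Agent.DS.Cl.Mod
import Cfsg.Agent.DS.Cl.ModBase
import Cfsg.Agent.DS.Cl.Vec

/-!
# The box `BoxP5` (helper54)
-/

set_option autoImplicit false

namespace Cfsg.Agent.DS.Cl.P5

open Cfsg Cfsg.Agent.H936 Cfsg.Agent.DS Cfsg.Agent.DS.Gen Module

variable {A : Type} [Ring A] [StarRing A]

theorem mem_Iso_of_max {F : FR A} (hL : F.L = Lmax A) {u : Aˣ} (hu : (u : A) * star (u : A) = 1) : u ∈ F.Iso := by
  refine ⟨hu, ?_⟩
  rw [hL]
  change star ((u : A) * F.l * star (u : A) - F.l) = -((u : A) * F.l * star (u : A) - F.l)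
  have h1 : star F.l = 1 - F.l := by rw [← F.l_add]; abel
  rw [star_sub, star_mul, star_mul, star_star, h1, mul_assoc, sub_mul, mul_sub, one_mul, hu, ← mul_assoc]
  abel

/-- if the norm is onto, similitudes are isometries up to central elements -/
theorem inf_le_PI [Finite A] (h : SS A) (F : FR A)
    (hN : ∀ μ ∈ Subring.center A, star μ = μ → ∃ c ∈ Subring.center A, star c * c = μ) : F.Aut ⊓ Lin A ≤ F.PI := by
  rintro γ ⟨hγ, hγ'⟩
  obtain ⟨g, rfl⟩ := h.sn hγ'
  obtain ⟨c, hc, hcc⟩ := hN _ (cj_SAut_cen hγ.1) (by rw [star_mul, star_star])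
  have h1 : IsUnit c := by
    have h2 : IsUnit (star c * c) := by rw [hcc]; exact g.isUnit.star.mul g.isUnit
    exact ((Commute.isUnit_mul_iff (cen_comm hc _)).1 h2).2
  obtain ⟨z, rfl⟩ := h1
  have h2 : cj A (g * z⁻¹) = cj A g := cj_eq_iff.2 ⟨z⁻¹, inv_cen hc, rfl⟩
  refine ⟨g * z⁻¹, FR.mem_Iso_of_cj ?_ (h2 ▸ hγ), h2⟩
  rw [mul_eq_one_comm]
  have h3 : star (g * z⁻¹) * (g * z⁻¹) = 1 := by
    have h4 : star g * g = star z * z := Units.ext hcc.symm
    rw [star_mul, star_inv, mul_assoc, ← mul_assoc (star g), h4]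
    group
  exact congrArg Units.val h3

theorem ps_of_lin [Finite A] (h : SS A) (F : FR A) (h1 : F.Aut ⊓ Lin A ≤ F.PI) (h4 : PS 4 F.PI) : PS 5 F.Aut :=
  ps_up (a := 1) (b := 4) ((le_inf (dS_le _ _) (FR.dS_one_le h)).trans h1) F.PI_le_Aut h4

section model

variable {K V : Type} [Field K] [AddCommGroup V] [Module K V]

/-- units as linear automorphisms -/
noncomputable def toLE (e : A ≃+* End K V) : Aˣ ≃* (V ≃ₗ[K] V) :=
  (Units.mapEquiv e.toMulEquiv).trans (LinearMap.GeneralLinearGroup.generalLinearEquiv K V)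

omit [StarRing A] in
theorem toLE_apply (e : A ≃+* End K V) (u : Aˣ) (v : V) : toLE e u v = e u v := rfl

omit [StarRing A] in
theorem equiv_of (e : A ≃+* End K V) {U : Subgroup Aˣ} {X : Subgroup (V ≃ₗ[K] V)} (h : ∀ u, u ∈ U ↔ toLE e u ∈ X) :
    Nonempty (X ≃* U) := by
  have h1 : U.map (toLE e).toMonoidHom = X := by
    ext g
    constructor
    · rintro ⟨u, hu, rfl⟩
      exact (h u).1 hu
    · intro hg
      obtain ⟨u, rfl⟩ := (toLE e).surjective g
      exact ⟨u, (h u).2 hg, rfl⟩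
  exact ⟨(((toLE e).subgroupMap U).trans (MulEquiv.subgroupCongr h1)).symm⟩

omit [StarRing A] in
theorem cen_smul (e : A ≃+* End K V) (c : K) : e.symm (c • 1) ∈ Subring.center A := by
  rw [Subring.mem_center_iff]
  intro a
  apply e.injective
  rw [map_mul, map_mul, RingEquiv.apply_symm_apply, H277.FC.smul_one_comm]

omit [StarRing A] in
theorem exists_smul [Nontrivial V] (e : A ≃+* End K V) {z : A} (hz : z ∈ Subring.center A) :
    ∃ c : K, z = e.symm (c • 1) := by
  obtain ⟨c, hc⟩ := H277.FC.exists_smul_one (e z) fun Y => by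
    obtain ⟨y, rfl⟩ := e.surjective Y
    rw [← map_mul, ← map_mul, cen_comm hz]
  exact ⟨c, by rw [← hc, RingEquiv.symm_apply_apply]⟩

variable {σ : K →+* K} {b : V →ₛₗ[σ] V →ₗ[K] K} {e : A ≃+* End K V}

theorem star_smul_one (hr : ∀ x, (∀ v, b v x = 0) → x = 0) (hadj : ∀ a v w, b (e a v) w = b v (e (star a) w))
    (c : K) : star (e.symm (c • 1)) = e.symm (σ c • 1) := by
  apply e.injective
  ext w
  rw [← sub_eq_zero]
  refine hr _ fun v => ?_
  rw [map_sub, ← hadj]
  simp

theorem unitary_iff [Finite A] (hr : ∀ x, (∀ v, b v x = 0) → x = 0)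
    (hadj : ∀ a v w, b (e a v) w = b v (e (star a) w)) (u : Aˣ) :
    (u : A) * star (u : A) = 1 ↔ toLE e u ∈ Vec.Isom K fun v w => b v w := by
  rw [mul_eq_one_comm, Vec.mem_Isom]
  simp only [toLE_apply, hadj, ← End.mul_apply, ← map_mul]
  constructor
  · intro h v w
    rw [h, map_one, End.one_apply]
  · intro h
    apply e.injective
    ext w
    rw [← sub_eq_zero]
    refine hr _ fun v => ?_
    rw [map_sub, h, map_one, End.one_apply, sub_self]

end model

theorem p5_L [Finite A] (h : SS A) (F : FR A) (hM : ModL A) : PS 5 F.Aut := by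
  obtain ⟨K, _, _, n, π, -, hπ⟩ := hM
  have hinj : ∀ a a', π a = π a' → π (star a) = π (star a') → a = a' := fun a a' h1 h2 => hπ.1 (Prod.ext h1 h2)
  obtain ⟨ε, hε⟩ := hπ.2 (1, 0)
  have h1 : π ε = 1 := congrArg Prod.fst hε
  have h2 : π (star ε) = 0 := congrArg Prod.snd hε
  have hE : Eps ε := by
    refine ⟨Subring.mem_center_iff.2 fun a => hinj _ _ ?_ ?_, hinj _ _ ?_ ?_, hinj _ _ ?_ ?_⟩ <;>
      simp [h1, h2]
  have hL := F.L_eq hE.cen hE.add
  refine ps_of_lin h F (inf_le_PI h F fun μ hμ hμ' => ⟨ε * μ + star ε,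
    Subring.add_mem _ (Subring.mul_mem _ hE.cen hμ) hE.st.cen, hinj _ _ ?_ ?_⟩) (ps_map _ ?_)
  · simp [h1, h2]
  · simp [h1, h2, hμ']
  let f : F.Iso →* (End K (Fin n → K))ˣ := (Units.map (π : A →* End K (Fin n → K))).comp F.Iso.subtype
  have hf : Function.Bijective f := by
    constructor
    · rw [injective_iff_map_eq_one]
      intro u hu
      have h3 : π (u : Aˣ) = 1 := congrArg Units.val hu
      have h4 := congrArg π (FR.Iso.ms u.2)
      rw [map_mul, h3, one_mul] at h4
      exact Subtype.ext (Units.ext (hinj _ _ (by rw [h3, ← map_one π]; rfl) (by rw [h4]; simp)))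
    · intro x
      obtain ⟨u, hu⟩ := hπ.2 (x, (x⁻¹ : (End K (Fin n → K))ˣ))
      have h3 : π u = x := congrArg Prod.fst hu
      have h4 : π (star u) = (x⁻¹ : (End K (Fin n → K))ˣ) := congrArg Prod.snd hu
      have h5 : u * star u = 1 := hinj _ _ (by simp [h3, h4]) (by simp [h3, h4])
      exact ⟨⟨mkU u h5, mem_Iso_of_max hL h5⟩, Units.ext h3⟩
  exact PS.of_equiv ((MulEquiv.ofBijective f hf).trans
    (LinearMap.GeneralLinearGroup.generalLinearEquiv K (Fin n → K))).symm Vec.ps_linearEquiv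

theorem p5_U [Finite A] (h : SS A) (F : FR A) (hM : ModU A) : PS 5 F.Aut := by
  obtain ⟨K, _, _, n, e, σ, b, hn, hσ, hσ2, hb, hs, hadj⟩ := hM
  have : Nonempty (Fin n) := ⟨⟨0, hn⟩⟩
  have hr : ∀ x, (∀ v, b v x = 0) → x = 0 := fun x hx => hs x fun v => by rw [← hb.eq, hx, map_zero]
  have hst := star_smul_one hr hadj
  have hL : F.L = Lmax A := by
    obtain ⟨c, hc⟩ := ClassicalGeometry.InvolutiveNorm.exists_add_sigma_eq hσ hσ2 (map_one σ)
    refine F.L_eq (cen_smul e c) ?_
    rw [hst, ← map_add, ← add_smul, hc, one_smul, map_one]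
  refine ps_of_lin h F (inf_le_PI h F fun μ hμ hμ' => ?_) ?_
  · obtain ⟨c, rfl⟩ := exists_smul e hμ
    rw [hst] at hμ'
    obtain ⟨x, hx⟩ := ClassicalGeometry.InvolutiveNorm.exists_mul_sigma_eq hσ hσ2
      (H277.FC.smul_one_inj (e.symm.injective hμ'))
    refine ⟨_, cen_smul e x, ?_⟩
    rw [hst, ← map_mul, smul_mul_smul_comm, one_mul, mul_comm, hx]
  obtain ⟨φ⟩ := equiv_of e (U := F.Iso) (X := Vec.Isom K fun v w => b v w) fun u =>
    ⟨fun hu => (unitary_iff hr hadj u).1 hu.1, fun hu => mem_Iso_of_max hL ((unitary_iff hr hadj u).2 hu)⟩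
  rcases Vec.isom_herm hσ hσ2 b hb hs with h1 | ⟨h1, h2⟩
  · exact ps_map _ (PS.of_equiv φ h1)
  rw [Nat.card_congr φ.toEquiv] at h2
  obtain ⟨y, hy⟩ := ClassicalGeometry.InvolutiveNorm.exists_sigma_ne hσ
  have hy0 : y ≠ 0 := fun h0 => hy (by rw [h0, map_zero])
  have hy1 : σ y ≠ 0 := (map_ne_zero σ).2 hy0
  have h3 : e.symm ((y / σ y) • 1) * star (e.symm ((y / σ y) • 1)) = 1 := by
    rw [hst, ← map_mul, smul_mul_smul_comm, one_mul, map_div₀, hσ2, div_mul_div_cancel₀ hy1, div_self hy0, one_smul,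
      map_one]
  let f : F.Iso →* RingAut A := (cj A).comp F.Iso.subtype
  let z : f.ker := ⟨⟨mkU _ h3, mem_Iso_of_max hL h3⟩, cj_eq_one_iff.2 (cen_smul e _)⟩
  have h4 : orderOf z = 3 := by
    refine orderOf_eq_prime ?_ fun h5 => hy ?_
    · apply Subtype.ext
      apply Subtype.ext
      apply Units.ext
      change e.symm ((y / σ y) • 1) ^ 3 = 1
      have h5 := FiniteField.pow_card_sub_one_eq_one (y / σ y) (div_ne_zero hy0 hy1)
      rw [h1] at h5
      rw [← map_pow, smul_pow, one_pow, h5, one_smul, map_one]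
    · have h6 : e.symm ((y / σ y) • 1) = 1 := congrArg (fun t : f.ker => (((t : F.Iso) : Aˣ) : A)) h5
      rw [← map_one e.symm, ← one_smul K (1 : End K (Fin n → K))] at h6
      simp only [one_smul] at h6
      have h7 : y / σ y = 1 := H277.FC.smul_one_inj (V := Fin n → K) (by rw [e.symm.injective h6, one_smul])
      exact ((div_eq_one_iff_eq hy1).1 h7).symm
  have h5 : f.range = F.PI := by rw [MonoidHom.range_comp, Subgroup.range_subtype]; rfl
  have h6 := Subgroup.card_mul_index f.ker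
  rw [Subgroup.index_ker, h5, h2] at h6
  obtain ⟨c, hc⟩ := orderOf_dvd_natCard z
  have : Finite (RingAut A) := Finite.of_injective (fun γ : RingAut A => (γ : A → A)) DFunLike.coe_injective
  refine Vec.ps_of_23 3 3 ⟨c, ?_⟩ (by norm_num)
  rw [hc, h4] at h6
  rw [mul_comm _ c]
  nlinarith

theorem p5_B [Finite A] (h : SS A) (F : FR A) (hM : ModB A) : PS 5 F.Aut := by
  obtain ⟨K, _, _, n, e, b, hn, hb, hs, hadj⟩ := hM
  have : Nonempty (Fin n) := ⟨⟨0, hn⟩⟩
  have hr : ∀ x, (∀ v, b v x = 0) → x = 0 := fun x hx => hs x fun v => by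
    rcases hb with hb | hb
    · rw [hb, hx]
    · rw [hb, hx, neg_zero]
  have hst := star_smul_one hr hadj
  suffices H : PS 4 F.Iso ∧ (4 ≤ Fintype.card K → PS 3 F.Iso) by
    by_cases h4 : 4 ≤ Fintype.card K
    · exact ps_up (a := 2) (b := 3) (FR.dS_two_le h) F.PI_le_Aut (ps_map _ (H.2 h4))
    refine ps_up (a := 1) (b := 4) ?_ F.PI_le_Aut (ps_map _ H.1)
    have h1 : F.Aut ≤ F.Aut ⊓ Lin A := by
      refine le_inf le_rfl fun γ _ z hz => ?_
      obtain ⟨c, rfl⟩ := exists_smul e hz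
      by_cases h0 : c = 0
      · simp [h0]
      have h2 : c ^ 2 = 1 := by
        have h3 := FiniteField.pow_card_sub_one_eq_one c h0
        rcases Vec.card_cases K with h5 | h5 | h5
        · rw [h5, pow_one] at h3
          rw [h3, one_pow]
        · rwa [h5] at h3
        · exact absurd h5 h4
      rcases sq_eq_one_iff.1 h2 with rfl | rfl
      · rw [one_smul, map_one, map_one]
      · have h5 : (-1 : K) • (1 : End K (Fin n → K)) = -1 := LinearMap.ext fun v => by simp
        rw [h5, map_neg, map_one, map_neg, map_one]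
    exact (Subgroup.commutator_mono h1 h1).trans (FR.commutator_lin_le h)
  have hS : F.L = Lmax A → b.IsAlt → PS 4 F.Iso ∧ (4 ≤ Fintype.card K → PS 3 F.Iso) := by
    intro hL ha
    obtain ⟨φ⟩ := equiv_of e (U := F.Iso) (X := Vec.Isom K fun v w => b v w) fun u =>
      ⟨fun hu => (unitary_iff hr hadj u).1 hu.1, fun hu => mem_Iso_of_max hL ((unitary_iff hr hadj u).2 hu)⟩
    have h1 := PS.of_equiv φ (Vec.ps_isom_alt b ha hs)
    exact ⟨h1.mono (by norm_num), fun _ => h1⟩
  have hO : F.L = Lmin A → (∀ v w, b w v = b v w) → PS 4 F.Iso ∧ (4 ≤ Fintype.card K → PS 3 F.Iso) := by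
    intro hL hb
    let Q : QuadraticForm K (Fin n → K) := LinearMap.BilinMap.toQuadraticMap (b.compl₂ (e F.l))
    have hQ : ∀ v, Q v = b v (e F.l v) := fun _ => rfl
    have hpol : ∀ v w, QuadraticMap.polar Q v w = b v w := by
      intro v w
      rw [LinearMap.BilinMap.polar_toQuadraticMap, LinearMap.compl₂_apply, LinearMap.compl₂_apply, hb (e F.l v), hadj,
        ← map_add, ← LinearMap.add_apply, ← map_add, F.l_add, map_one, End.one_apply]
    have hmin : ∀ x, x ∈ Lmin A ↔ ∀ v, b v (e x v) = 0 := by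
      intro x
      constructor
      · rintro ⟨a, rfl⟩ v
        rw [map_sub, LinearMap.sub_apply, map_sub, ← hadj, hb, sub_self]
      · intro hx
        obtain ⟨β, hβ⟩ := Fwd.exists_half (b.compl₂ (e x)) hx
        have hnd : b.Nondegenerate := ⟨hs, hr⟩
        obtain ⟨a, ha⟩ := e.surjective ((b.toDual hnd).symm.toLinearMap.comp β.flip)
        have ha' : ∀ v w, b (e a w) v = β v w := fun v w => by
          rw [ha]
          exact LinearMap.BilinForm.apply_toDual_symm_apply (hB := hnd) (β.flip w) v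
        refine ⟨a, e.injective (LinearMap.ext fun w => ?_)⟩
        rw [← sub_eq_zero]
        refine hr _ fun v => ?_
        rw [map_sub, map_sub, LinearMap.sub_apply, map_sub, ← hadj, ha', hb (e a w), ha', hβ, LinearMap.compl₂_apply,
          sub_self]
    have hQu : ∀ (u : A) v, b v (e (u * F.l * star u - F.l) v) = Q (e (star u) v) - Q v := by
      intro u v
      rw [hQ, hQ, hadj, star_star, map_sub, LinearMap.sub_apply, map_sub, map_mul, map_mul]
      rfl
    obtain ⟨φ⟩ := equiv_of e (U := F.Iso) (X := LieClassical.OrthCore.O Q) fun u => by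
      rw [LieClassical.OrthCore.mem_O]
      constructor
      · intro hu v
        have h1 := hu.2
        rw [hL, hmin] at h1
        have h2 := h1 (e u v)
        rw [hQu, ← End.mul_apply, ← map_mul, FR.Iso.sm hu, map_one, End.one_apply, sub_eq_zero] at h2
        exact h2.symm
      · intro hu
        have h1 : (u : A) * star (u : A) = 1 := (unitary_iff hr hadj u).2 fun v w =>
          (hpol _ _).symm.trans ((LieClassical.OrthCore.polar_map hu v w).trans (hpol v w))
        refine ⟨h1, ?_⟩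
        rw [hL, hmin]
        intro v
        rw [hQu, ← hu, toLE_apply, ← End.mul_apply, ← map_mul, h1, map_one, End.one_apply, sub_self]
    obtain ⟨h1, h2⟩ := Vec.ps_O Q fun x hx => hs x fun y => by rw [← hpol, hx]
    exact ⟨PS.of_equiv φ h1, fun h4 => (PS.of_equiv φ (h2 h4)).mono (by norm_num)⟩
  by_cases h2 : (2 : K) = 0
  · have hb' : ∀ v w, b w v = b v w := by
      rcases hb with hb | hb
      · exact hb
      · intro v w
        linear_combination hb v w - b v w * h2
    rcases F.par with hL | hL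
    · exact hO hL hb'
    · refine hS hL fun v => ?_
      have h3 : b v v = b v (e (F.l + star F.l) v) := by rw [F.l_add, map_one, End.one_apply]
      rw [map_add, LinearMap.add_apply, map_add, ← hadj, hb' (e F.l v)] at h3
      linear_combination h3 + b (e F.l v) v * h2
  · have h3 : e.symm ((2 : K)⁻¹ • 1) + star (e.symm ((2 : K)⁻¹ • 1)) = 1 := by
      rw [hst, RingHom.id_apply, ← map_add, ← add_smul, ← two_mul, mul_inv_cancel₀ h2, one_smul, map_one]
    have hL := F.L_eq (cen_smul e _) h3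
    rcases hb with hb | hb
    · exact hO (hL.trans (Lmin_eq_Lmax (cen_smul e _) h3).symm) hb
    · refine hS hL fun v => ?_
      have h4 : 2 * b v v = 0 := by linear_combination hb v v
      exact (mul_eq_zero.1 h4).resolve_left h2

theorem boxP5 : BoxP5 := by
  intro A _ _ _ h F
  rcases exists_model h with hM | hM | hM
  · exact p5_L h F hM
  · exact p5_U h F hM
  · exact p5_B h F hM

end Cfsg.Agent.DS.Cl.P5
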