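import Cfsg.Agent.DS.Cl.Inv
import Cfsg.Agent.DS.Cl.Act

/-!
# Tensor decompositions
-/

set_option autoImplicit false

namespace Cfsg.Agent.DS.Cl

open Cfsg Cfsg.Agent.H936 Cfsg.Agent.DS
open scoped Pointwise

variable {A : Type} [Ring A] [StarRing A]

/-- a tensor decomposition -/
structure Tens (𝓑 : Set (Subring A)) : Prop where
  two : 𝓑.Nontrivial
  cen_le : ∀ B ∈ 𝓑, Subring.center A ≤ B
  not_le : ∀ B ∈ 𝓑, ¬ B ≤ Subring.center A
  star_mem : ∀ B ∈ 𝓑, ∀ x ∈ B, star x ∈ B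
  comm : ∀ B ∈ 𝓑, ∀ B' ∈ 𝓑, B ≠ B' → ∀ x ∈ B, ∀ y ∈ B', x * y = y * x
  gen : Subring.closure (⋃ B ∈ 𝓑, (B : Set A)) = ⊤

omit [StarRing A] in
theorem mem_smul_subring {γ : RingAut A} {B : Subring A} {x : A} : x ∈ γ • B ↔ γ⁻¹ x ∈ B :=
  Subring.mem_pointwise_smul_iff_inv_smul_mem

omit [StarRing A] in
theorem apply_mem_smul {γ : RingAut A} {B : Subring A} {x : A} : γ x ∈ γ • B ↔ x ∈ B := by
  rw [mem_smul_subring, ra_inv_apply]

omit [StarRing A] in
theorem coef_mem {n : ℕ} {E : Fin n → Fin n → A} {B : Subring A} (hE : ∀ i j, E i j ∈ B) {b : A} (hb : b ∈ B)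
    (i j : Fin n) : coef E b i j ∈ B :=
  B.sum_mem fun k _ => B.mul_mem (B.mul_mem (hE k i) hb) (hE j k)

/-- matrix units in a star-simple subring -/
theorem exists_mu_sub [Finite A] {B : Subring A} {hs : ∀ x ∈ B, star x ∈ B} (h : SS (Blk.ofSubring B hs).T) :
    ∃ (n : ℕ) (E : Fin n → Fin n → A), MU0 E ∧ (∀ i j, E i j ∈ B) ∧
      ∀ a ∈ B, (∀ i j, a * E i j = E i j * a) → ∀ b ∈ B, b * a = a * b := by
  obtain ⟨n, E, hE⟩ := h.exists_mu
  refine ⟨n, fun i j => (Blk.ofSubring B hs).val (E i j), ⟨fun i j k l => ?_, ?_⟩,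
    fun i j => (Blk.ofSubring B hs).val_mem _, fun a ha h1 => ?_⟩
  · have h1 := congrArg (Blk.ofSubring B hs).val (hE.mul i j k l)
    split_ifs at h1 ⊢ <;> exact h1
  · have h1 := congrArg (Blk.ofSubring B hs).val hE.sum
    rwa [map_sum] at h1
  · exact (Blk.ofSubring B hs).mem_center_iff.1
      (hE.cen ((Blk.ofSubring B hs).mk' a ha) fun i j => (Blk.ofSubring B hs).val_inj (h1 i j))

namespace Tens

variable {𝓑 : Set (Subring A)} (h : Tens 𝓑)
include h

theorem ind {T : Subring A} (hT : ∀ B ∈ 𝓑, B ≤ T) (a : A) : a ∈ T := by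
  have h1 : ⊤ ≤ T := by
    rw [← h.gen, Subring.closure_le]
    intro x hx
    simp only [Set.mem_iUnion] at hx
    obtain ⟨B, hB, hx⟩ := hx
    exact hT B hB hx
  exact h1 (Subring.mem_top a)

theorem cen_of {z : A} (hz : ∀ B ∈ 𝓑, ∀ y ∈ B, y * z = z * y) : z ∈ Subring.center A := by
  rw [Subring.mem_center_iff]
  intro g
  have h1 := h.ind (T := Subring.centralizer {z}) (fun B hB y hy w hw => by
    rw [Set.mem_singleton_iff.1 hw]; exact (hz B hB y hy).symm) g
  exact (h1 z rfl).symm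

theorem cen_blk {B : Subring A} (hB : B ∈ 𝓑) {z : A} (hz : z ∈ B) (hc : ∀ y ∈ B, y * z = z * y) :
    z ∈ Subring.center A := by
  refine h.cen_of fun B' hB' y hy => ?_
  by_cases e : B' = B
  · exact hc y (e ▸ hy)
  · exact h.comm B' hB' B hB e y hy z hz

/-- the member as a block -/
abbrev blk {B : Subring A} (hB : B ∈ 𝓑) : Blk A := Blk.ofSubring B (h.star_mem B hB)

theorem cen_iff {B : Subring A} (hB : B ∈ 𝓑) {z : (h.blk hB).T} :
    z ∈ Subring.center (h.blk hB).T ↔ (h.blk hB).val z ∈ Subring.center A := by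
  rw [Blk.mem_center_iff]
  exact ⟨h.cen_blk hB ((h.blk hB).val_mem z), fun hz y _ => cen_comm hz y⟩

theorem exists_ne {B : Subring A} (_ : B ∈ 𝓑) : ∃ B' ∈ 𝓑, B' ≠ B := h.two.exists_ne B

variable [Finite A]

theorem ss (hA : SS A) {B : Subring A} (hB : B ∈ 𝓑) : SS (h.blk hB).T := by
  have := hA.nontrivial
  set B' := h.blk hB
  have h1 : IsSemisimpleRing B'.T := by
    refine semisimple_of_two hA _ ?_
    set I := Ideal.span (B'.val '' (Ring.jacobson B'.T))
    let T : Subring A :=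
      { carrier := {a | ∀ x ∈ I, x * a ∈ I}
        mul_mem' := fun ha hb x hx => by rw [← mul_assoc]; exact hb _ (ha x hx)
        one_mem' := fun x hx => by rwa [mul_one]
        add_mem' := fun ha hb x hx => by rw [mul_add]; exact I.add_mem (ha x hx) (hb x hx)
        zero_mem' := fun x _ => by rw [mul_zero]; exact I.zero_mem
        neg_mem' := fun ha x hx => by rw [mul_neg]; exact I.neg_mem (ha x hx) }
    refine fun x hx a => h.ind (T := T) (fun B₁ hB₁ a ha x hx => ?_) a x hx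
    induction hx using Submodule.span_induction with
    | mem x hx =>
      obtain ⟨y, hy, rfl⟩ := hx
      by_cases e : B₁ = B
      · exact Ideal.subset_span ⟨y * B'.mk' a (show a ∈ B from e ▸ ha), Ideal.mul_mem_right _ _ hy, rfl⟩
      · rw [← h.comm B₁ hB₁ B hB e a ha _ (B'.val_mem y)]
        exact I.mul_mem_left _ (Ideal.subset_span ⟨y, hy, rfl⟩)
    | zero => rw [zero_mul]; exact I.zero_mem
    | add x y _ _ hx hy => rw [add_mul]; exact I.add_mem hx hy
    | smul b x _ hx => rw [smul_eq_mul, mul_assoc]; exact I.mul_mem_left _ hx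
  have hnt : Nontrivial B'.T := ⟨⟨1, 0, fun h1 => one_ne_zero (congrArg B'.val h1)⟩⟩
  refine ss_of_idem fun e hc h3 hee => ?_
  rcases hA.idem_symm ((h.cen_iff hB).1 hc) (congrArg B'.val h3) (congrArg B'.val hee) with h4 | h4
  · exact Or.inl (B'.val_inj h4)
  · exact Or.inr (B'.val_inj h4)

omit [Finite A] in
theorem noncomm {B : Subring A} (hB : B ∈ 𝓑) : ∃ a b : (h.blk hB).T, a * b ≠ b * a := by
  by_contra hcon
  push Not at hcon
  exact h.not_le B hB fun z hz => h.cen_blk hB hz fun y hy =>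
    congrArg (h.blk hB).val (hcon ((h.blk hB).mk' y hy) ((h.blk hB).mk' z hz))

/-- under an irreducible group every factor has an element of trace one -/
theorem exists_l (hA : SS A) {M : Subgroup (RingAut A)} (hM : M ≤ SAut A) (hI : Irr M)
    (hst : ∀ γ ∈ M, ∀ B ∈ 𝓑, γ • B ∈ 𝓑) {B₀ : Subring A} (hB₀ : B₀ ∈ 𝓑) : ∃ l ∈ B₀, l + star l = 1 := by
  classical
  have := hA.nontrivial
  by_cases hε : ∃ ε : A, Eps ε
  · obtain ⟨ε, hε⟩ := hε
    exact ⟨ε, h.cen_le _ hB₀ hε.cen, hε.add⟩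
  by_contra hcon
  let Tr : Subring A → A → Prop := fun B x => ∃ b ∈ B, x = b + star b
  let R : Subring A → A → Prop := fun B r => r ∈ B ∧ Tr B (r * star r)
  by_cases h2 : (2 : A) = 0
  swap
  · have h2c : (2 : A) ∈ Subring.center A := by
      rw [← one_add_one_eq_two]; exact Subring.add_mem _ (Subring.one_mem _) (Subring.one_mem _)
    obtain ⟨u, hu⟩ := hA.isUnit_of_not_eps hε h2c h2
    have h3 : ((u⁻¹ : Aˣ) : A) + (u⁻¹ : Aˣ) = 1 := by rw [← mul_two, ← hu, Units.inv_mul]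
    have h4 : star ((u⁻¹ : Aˣ) : A) = (u⁻¹ : Aˣ) := by
      have h5 := congrArg star h3
      rw [star_add, star_one, ← mul_two, ← hu] at h5
      rw [← mul_one (star _), ← u.mul_inv, ← mul_assoc, h5, one_mul]
    exact hcon ⟨_, h.cen_le _ hB₀ (inv_cen (hu ▸ h2c)), by rw [h4, h3]⟩
  have hneg : ∀ x : A, x + x = 0 := fun x => by rw [← two_mul, h2, zero_mul]
  have hTr : ∀ B x y, Tr B x → Tr B y → Tr B (x + y) := by
    rintro B _ _ ⟨a, ha, rfl⟩ ⟨b, hb, rfl⟩
    exact ⟨a + b, B.add_mem ha hb, by rw [star_add]; abel⟩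
  have hadd : ∀ B ∈ 𝓑, ∀ a ∈ B, ∀ b ∈ B, Tr B (a * star a + b * star b) → Tr B ((a + b) * star (a + b)) := by
    intro B hB a ha b hb h3
    have h4 := hTr B _ _ h3 ⟨a * star b, B.mul_mem ha (h.star_mem B hB b hb), rfl⟩
    convert h4 using 1
    rw [star_add, star_mul, star_star]
    noncomm_ring
  -- `R B` is non-zero
  have hR : ∀ B ∈ 𝓑, ∃ r, r ≠ 0 ∧ R B r := by
    intro B hB
    by_contra hcon'
    push Not at hcon'
    have h3 : Function.Injective fun a : (h.blk hB).T => a * star a := by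
      intro a b hab
      have hab' : (h.blk hB).val a * star ((h.blk hB).val a) = (h.blk hB).val b * star ((h.blk hB).val b) :=
        congrArg (h.blk hB).val hab
      have h4 : (h.blk hB).val a + (h.blk hB).val b = 0 := by
        by_contra h5
        refine hcon' _ h5 ⟨B.add_mem ((h.blk hB).val_mem a) ((h.blk hB).val_mem b),
          hadd B hB _ ((h.blk hB).val_mem a) _ ((h.blk hB).val_mem b) ⟨0, B.zero_mem, ?_⟩⟩
        rw [hab', hneg, star_zero, add_zero]
      apply (h.blk hB).val_inj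
      rw [← add_zero ((h.blk hB).val a), ← hneg ((h.blk hB).val b), ← add_assoc, h4, zero_add]
    have h4 : ∀ a : (h.blk hB).T, star a = a := fun a => by
      obtain ⟨b, rfl⟩ := Finite.surjective_of_injective h3 a
      simp only [star_mul, star_star]
    obtain ⟨a, b, hab⟩ := h.noncomm hB
    exact hab (by rw [← h4 (a * b), star_mul, h4, h4])
  -- a product of non-zero elements of different factors is non-zero
  have hmul : ∀ B ∈ 𝓑, ∀ r ∈ B, r ≠ 0 → ∀ y : A, (∀ b ∈ B, b * y = y * b) → r * y = 0 → y = 0 := by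
    intro B hB r hr hr0 y hy hry
    let J : Ideal (h.blk hB).T :=
      { carrier := {b | (h.blk hB).val b * y = 0}
        add_mem' := fun {a b} (ha : _ = _) (hb : _ = _) => by
          show (h.blk hB).val (a + b) * y = 0
          rw [map_add, add_mul, ha, hb, add_zero]
        zero_mem' := zero_mul y
        smul_mem' := fun c x (hx : _ = _) => by
          show (h.blk hB).val c * (h.blk hB).val x * y = 0
          rw [mul_assoc, hx, mul_zero] }
    have hε' : ¬ ∃ ε : (h.blk hB).T, Eps ε := by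
      rintro ⟨ε, h3⟩
      exact hε ⟨_, (h.cen_iff hB).1 h3.cen, congrArg (h.blk hB).val h3.idem, congrArg (h.blk hB).val h3.add⟩
    rcases (h.ss hA hB).two_of_not_eps hε' (I := J) (fun x (hx : _ = _) a => by
      show (h.blk hB).val x * (h.blk hB).val a * y = 0
      rw [mul_assoc, hy _ ((h.blk hB).val_mem a), ← mul_assoc, hx, zero_mul]) with h3 | h3
    · have h4 : (h.blk hB).mk' r hr ∈ J := hry
      rw [h3] at h4
      exact absurd (congrArg (h.blk hB).val h4) hr0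
    · have h4 : (1 : (h.blk hB).T) ∈ J := by rw [h3]; trivial
      have h5 : (1 : A) * y = 0 := h4
      rwa [one_mul] at h5
  have hy : ∀ s : Finset (Subring A), (∀ B ∈ s, B ∈ 𝓑) → ∃ y : A, y ≠ 0 ∧
      (∀ B ∈ 𝓑, B ∉ s → ∀ b ∈ B, b * y = y * b) ∧ ∀ B ∈ s, ∃ a r, R B r ∧ y = a * r := by
    intro s
    induction s using Finset.induction_on with
    | empty => exact fun _ => ⟨1, one_ne_zero, fun _ _ _ b _ => by simp, by simp⟩
    | insert B s hBs ih =>
      intro hs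
      obtain ⟨y, y0, y1, y2⟩ := ih fun B' hB' => hs B' (Finset.mem_insert_of_mem hB')
      have hB := hs B (Finset.mem_insert_self B s)
      obtain ⟨r, r0, hr⟩ := hR B hB
      refine ⟨r * y, fun e => y0 (hmul B hB r hr.1 r0 y (y1 B hB hBs) e), fun B' hB' hn b hb => ?_, fun B' hB' => ?_⟩
      · rw [Finset.mem_insert, not_or] at hn
        rw [← mul_assoc, h.comm B' hB' B hB hn.1 b hb r hr.1, mul_assoc, y1 B' hB' hn.2 b hb, mul_assoc]
      · rcases Finset.mem_insert.1 hB' with rfl | hB'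
        · exact ⟨y, r, hr, y1 B' hB hBs r hr.1⟩
        · obtain ⟨a, r', hr', e⟩ := y2 B' hB'
          exact ⟨r * a, r', hr', by rw [e, mul_assoc]⟩
  let Q : Ideal A :=
    { carrier := {a | ∀ B ∈ 𝓑, ∀ b, (∀ r, R B r → r * b = 0) → a * b = 0}
      add_mem' := fun ha hb B hB b h3 => by rw [add_mul, ha B hB b h3, hb B hB b h3, add_zero]
      zero_mem' := fun _ _ b _ => zero_mul b
      smul_mem' := fun c x hx B hB b h3 => by rw [smul_eq_mul, mul_assoc, hx B hB b h3, mul_zero] }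
  have hQ : Two Q := by
    refine hI Q fun γ hγ a ha B hB b h3 => ?_
    have h4 := ha _ (hst _ (inv_mem hγ) B hB) (γ⁻¹ b) fun r hr => by
      obtain ⟨r1, c, c1, c2⟩ := hr
      rw [mem_smul_subring, inv_inv] at r1 c1
      have h5 := h3 (γ r) ⟨r1, γ c, c1, by rw [← hM hγ, ← map_mul, c2, map_add, hM hγ]⟩
      apply γ.injective
      rw [map_mul, ra_apply_inv, h5, map_zero]
    rw [← ra_apply_inv γ b, ← map_mul, h4, map_zero]
  rcases hA.two_of_not_eps hε hQ with h3 | h3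
  · obtain ⟨y, y0, -, y2⟩ := hy (Set.toFinite 𝓑).toFinset (by simp)
    have h4 : y ∈ Q := fun B hB b hb => by
      obtain ⟨a, r, hr, rfl⟩ := y2 B (by simpa using hB)
      rw [mul_assoc, hb r hr, mul_zero]
    rw [h3] at h4
    exact y0 h4
  · let J : Ideal (h.blk hB₀).T :=
      { carrier := {r | R B₀ ((h.blk hB₀).val r)}
        add_mem' := fun {a b} ha hb => ⟨B₀.add_mem ha.1 hb.1, hadd B₀ hB₀ _ ha.1 _ hb.1 (hTr _ _ _ ha.2 hb.2)⟩
        zero_mem' := ⟨B₀.zero_mem, 0, B₀.zero_mem, by simp⟩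
        smul_mem' := by
          rintro c x ⟨x1, b, hb, e⟩
          have hc := (h.blk hB₀).val_mem c
          refine ⟨B₀.mul_mem hc x1, (h.blk hB₀).val c * b * star ((h.blk hB₀).val c),
            B₀.mul_mem (B₀.mul_mem hc hb) (h.star_mem _ hB₀ _ hc), ?_⟩
          change (h.blk hB₀).val c * (h.blk hB₀).val x * star ((h.blk hB₀).val c * (h.blk hB₀).val x) = _
          rw [star_mul, star_mul, star_mul, star_star, mul_assoc, ← mul_assoc ((h.blk hB₀).val x), e]
          noncomm_ring }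
    obtain ⟨f, hf, -, hf2⟩ := (h.ss hA hB₀).exists_idem J
    have h4 : (1 : A) ∈ Q := by rw [h3]; trivial
    have h5 := h4 B₀ hB₀ (1 - (h.blk hB₀).val f) fun r hr => by
      have h6 := congrArg (h.blk hB₀).val (hf2 ((h.blk hB₀).mk' r hr.1) hr)
      rw [mul_sub, mul_one, sub_eq_zero]
      exact h6.symm
    rw [one_mul, sub_eq_zero] at h5
    obtain ⟨-, b, hb, e⟩ := hf
    rw [← h5, star_one, mul_one] at e
    exact hcon ⟨b, hb, e.symm⟩

omit [Finite A] in
theorem l_sub_l (F : FR A) (hl : ∀ B ∈ 𝓑, ∃ l ∈ B, l + star l = 1) {B B' : Subring A} (hB : B ∈ 𝓑) (hB' : B' ∈ 𝓑)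
    {x y : A} (hx : x ∈ B) (hy : y ∈ B') (hx' : x + star x = 1) (hy' : y + star y = 1) : x - y ∈ F.L := by
  have key : ∀ B ∈ 𝓑, ∀ B' ∈ 𝓑, B ≠ B' → ∀ x ∈ B, ∀ y ∈ B', x + star x = 1 → y + star y = 1 → x - y ∈ F.L := by
    intro B hB B' hB' hne x hx y hy hx' hy'
    have h1 := F.sub_star_mem (x * star y)
    rw [star_mul, star_star, ← h.comm B hB B' hB' hne _ (h.star_mem B hB x hx) y hy] at h1
    convert h1 using 1
    have h2 : star x = 1 - x := by rw [← hx']; abel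
    have h3 : star y = 1 - y := by rw [← hy']; abel
    rw [h2, h3]
    noncomm_ring
  by_cases e : B = B'
  · subst e
    obtain ⟨B'', hB'', hne⟩ := h.exists_ne hB
    obtain ⟨z, hz, hz'⟩ := hl B'' hB''
    have h1 := F.L.sub_mem (key B hB B'' hB'' hne.symm x hx z hz hx' hz') (key B hB B'' hB'' hne.symm y hy z hz hy' hz')
    rwa [sub_sub_sub_cancel_right] at h1
  · exact key B hB B' hB' e x hx y hy hx' hy'

theorem l_cong (hA : SS A) (F : FR A) {M : Subgroup (RingAut A)} (hM : M ≤ F.Aut) (hI : Irr M)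
    (hst : ∀ γ ∈ M, ∀ B ∈ 𝓑, γ • B ∈ 𝓑) {B : Subring A} (hB : B ∈ 𝓑) {x : A} (hx : x ∈ B) (hx' : x + star x = 1) :
    F.l - x ∈ F.L := by
  have hM' : M ≤ SAut A := hM.trans F.Aut_le_SAut
  have hl : ∀ B ∈ 𝓑, ∃ l ∈ B, l + star l = 1 := fun B hB => h.exists_l hA hM' hI hst hB
  refine FR.mem_L_of_inv hA hM' hI ?_ fun γ hγ => ?_
  · have h1 : star F.l = 1 - F.l := by rw [← F.l_add]; abel
    have h2 : star x = 1 - x := by rw [← hx']; abel
    rw [star_sub, h1, h2]; abel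
  · have h1 := h.l_sub_l F hl (hst γ hγ B hB) hB (apply_mem_smul.2 hx) hx
      (by rw [← hM' hγ, ← map_add, hx', map_one]) hx'
    convert F.L.sub_mem (hM hγ).2 h1 using 1
    rw [map_sub]
    abel

/-- the flip interchanging two factors -/
theorem exists_flip (hA : SS A) {γ : RingAut A} (hl : γ ∈ Lin A) {B : Subring A} (hB : B ∈ 𝓑) (hB' : γ • B ∈ 𝓑)
    (hne : γ • B ≠ B) : ∃ w : Aˣ, (∀ b ∈ B, cj A w b = γ b) ∧ (∀ b ∈ B, cj A w (γ b) = b) ∧
      ∀ B'' ∈ 𝓑, B'' ≠ B → B'' ≠ γ • B → ∀ b ∈ B'', cj A w b = b := by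
  obtain ⟨n, E, hE, hEm, hEc⟩ := exists_mu_sub (h.ss hA hB)
  have hE' : MU0 fun i j => γ (E i j) := hE.map (γ : A →+* A)
  have hc : ∀ i j k l, γ (E i j) * E k l = E k l * γ (E i j) := fun i j k l =>
    h.comm _ hB' _ hB hne _ (apply_mem_smul.2 (hEm i j)) _ (hEm k l)
  let w : A := ∑ a, ∑ b, E a b * γ (E b a)
  have h1 : ∀ i j, w * E i j = ∑ a, E a j * γ (E i a) := by
    intro i j
    rw [Finset.sum_mul]
    refine Finset.sum_congr rfl fun a _ => ?_
    rw [Finset.sum_mul, Finset.sum_eq_single i]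
    · rw [mul_assoc, hc, ← mul_assoc, hE.mul_eq]
    · intro b _ hb
      rw [mul_assoc, hc, ← mul_assoc, hE.mul, if_neg hb, zero_mul]
    · intro hi; exact absurd (Finset.mem_univ i) hi
  have h2 : ∀ i j, γ (E i j) * w = ∑ a, E a j * γ (E i a) := by
    intro i j
    rw [Finset.mul_sum]
    refine Finset.sum_congr rfl fun a _ => ?_
    rw [Finset.mul_sum, Finset.sum_eq_single j]
    · rw [← mul_assoc, hc, mul_assoc, hE'.mul_eq]
    · intro b _ hb
      rw [← mul_assoc, hc, mul_assoc, hE'.mul, if_neg (Ne.symm hb), mul_zero]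
    · intro hi; exact absurd (Finset.mem_univ j) hi
  have h3 : w * w = 1 := by
    have e1 : w * w = ∑ c, ∑ d, w * E c d * γ (E d c) := by
      conv_lhs => rw [show w * w = w * ∑ a, ∑ b, E a b * γ (E b a) from rfl]
      simp only [Finset.mul_sum, mul_assoc]
    have e2 : ∀ c d, w * E c d * γ (E d c) = E d d * γ (E c c) := by
      intro c d
      rw [h1, Finset.sum_mul, Finset.sum_eq_single d]
      · rw [mul_assoc, hE'.mul_eq]
      · intro b _ hb
        rw [mul_assoc, hE'.mul, if_neg hb, mul_zero]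
      · intro hi; exact absurd (Finset.mem_univ d) hi
    rw [e1]
    simp only [e2]
    simp only [← Finset.sum_mul, hE.sum, one_mul]
    exact hE'.sum
  let u : Aˣ := ⟨w, w, h3, h3⟩
  have h4 : ∀ b ∈ B, cj A u b = γ b := by
    intro b hb
    have h6 : ∀ i j, coef E b i j ∈ Subring.center A := fun i j =>
      h.cen_blk hB (coef_mem hEm hb i j) (hEc _ (coef_mem hEm hb i j) (hE.coef_comm b i j))
    rw [hE.expand b]
    simp only [map_sum, map_mul, hl _ (h6 _ _), cj_mem_Lin u _ (h6 _ _)]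
    refine Finset.sum_congr rfl fun i _ => Finset.sum_congr rfl fun j _ => ?_
    rw [cj_eq_of_mul (u := u) ((h1 i j).trans (h2 i j).symm)]
  refine ⟨u, h4, fun b hb => ?_, fun B'' hB'' n1 n2 b hb => cj_eq_of_mul ?_⟩
  · rw [← h4 b hb, ← ra_mul, ← map_mul, show u * u = 1 from Units.ext h3, map_one, ra_one]
  · change w * b = b * w
    simp only [w, Finset.sum_mul, Finset.mul_sum]
    refine Finset.sum_congr rfl fun i _ => Finset.sum_congr rfl fun j _ => ?_
    rw [mul_assoc, ← h.comm _ hB'' _ hB' n2 b hb _ (apply_mem_smul.2 (hEm j i)), ← mul_assoc,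
      ← h.comm _ hB'' _ hB n1 b hb _ (hEm i j), mul_assoc]

end Tens

omit [StarRing A] in
theorem smul_eq_of_inv {γ : RingAut A} {B B' : Subring A} (h1 : ∀ x ∈ B, γ x ∈ B') (h2 : ∀ x ∈ B', γ⁻¹ x ∈ B) :
    γ • B = B' := by
  ext x
  rw [mem_smul_subring]
  exact ⟨fun hx => by simpa only [ra_apply_inv] using h1 _ hx, h2 x⟩

omit [StarRing A] in
theorem smul_eq_of_fix {γ : RingAut A} {B : Subring A} (h : ∀ x ∈ B, γ x = x) : γ • B = B :=
  smul_eq_of_inv (fun x hx => by rwa [h x hx]) fun x hx => by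
    rwa [show γ⁻¹ x = x from inv_mem (show γ ∈ Fix (B : Set A) from h) x hx]

theorem boxTen (hP5 : BoxP5) (hNC : BoxNC) : BoxTen := by
  intro A _ _ _ F M h hI 𝓑 t1 t2 t3 t4 t5 t6 hst
  have hT : Tens 𝓑 := ⟨t1, t2, t3, t4, t5, t6⟩
  replace hst : ∀ γ ∈ M, ∀ B ∈ 𝓑, γ • B ∈ 𝓑 := hst
  have hl : ∀ B ∈ 𝓑, ∃ l ∈ B, l + star l = 1 := fun B hB => hT.exists_l h.ss h.le_SAut hI hst hB
  have hcong : ∀ B ∈ 𝓑, ∀ x ∈ B, x + star x = 1 → F.l - x ∈ F.L := fun B hB x hx =>
    hT.l_cong h.ss F h.le hI hst hB hx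
  -- automorphisms permuting the factors preserve the form
  have hAut : ∀ δ ∈ SAut A, ∀ B ∈ 𝓑, ∀ B' ∈ 𝓑, (∀ x ∈ B, δ x ∈ B') → δ ∈ F.Aut := by
    intro δ hδ B hB B' hB' hBB
    obtain ⟨x, hx, hx'⟩ := hl B hB
    refine ⟨hδ, ?_⟩
    have h1 := F.L.sub_mem (F.map_mem hδ (hcong B hB x hx hx'))
      (hcong B' hB' _ (hBB x hx) (by rw [← hδ, ← map_add, hx', map_one]))
    rwa [map_sub, sub_sub_sub_cancel_right] at h1
  have hup : ∀ B ∈ 𝓑, ∀ u ∈ B, ∀ hu : u * star u = 1, cj A (mkU u hu) ∈ F.Aut ∧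
      (∀ x, cj A (mkU u hu) x = u * x * star u) ∧ (∀ B' ∈ 𝓑, B' ≠ B → ∀ x ∈ B', cj A (mkU u hu) x = x) ∧
      cj A (mkU u hu) ∈ ptStab (RingAut A) 𝓑 := by
    intro B hB u huB hu
    have h1 : ∀ B' ∈ 𝓑, B' ≠ B → ∀ x ∈ B', cj A (mkU u hu) x = x := fun B' hB' hne x hx =>
      cj_eq_of_mul (t5 B' hB' B hB hne x hx u huB).symm
    obtain ⟨B', hB', hne⟩ := hT.exists_ne hB
    refine ⟨hAut _ (cj_SAut_of_cen (by rw [mkU_val, mul_eq_one_comm.1 hu]; exact Subring.one_mem _)) B' hB' B' hB'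
      (fun x hx => by rwa [h1 B' hB' hne x hx]), fun _ => rfl, h1, fun B'' hB'' => ?_⟩
    by_cases e : B'' = B
    · subst e
      exact smul_eq_of_inv (fun x hx => B''.mul_mem (B''.mul_mem huB hx) (t4 _ hB u huB))
        fun x hx => B''.mul_mem (B''.mul_mem (t4 _ hB u huB) hx) huB
    · exact smul_eq_of_fix (h1 B'' hB'' e)
  let P := F.Aut ⊓ setStab (RingAut A) 𝓑
  have hpt : ptStab (RingAut A) 𝓑 ≤ setStab (RingAut A) 𝓑 := le_setStab fun g hg B hB => by rwa [hg B hB]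
  have hS : ¬ F.S ≤ P := by
    intro hS
    obtain ⟨B, hB⟩ := t1.nonempty
    obtain ⟨B', hB', hne⟩ := hT.exists_ne hB
    obtain ⟨x, hx, hx'⟩ := hl B hB
    obtain ⟨u, hu, huc⟩ := hNC _ (hT.ss h.ss hB) ⟨(hT.blk hB).mk' x hx, Lmax _, (hT.blk hB).val_inj hx', Or.inr rfl⟩
      (hT.noncomm hB)
    obtain ⟨u1, -, u3, u4⟩ := hup B hB _ ((hT.blk hB).val_mem u) (congrArg (hT.blk hB).val hu.1)
    apply huc
    rw [hT.cen_iff hB]
    refine (cj_eq_one_iff (u := mkU _ (congrArg (hT.blk hB).val hu.1))).1 ?_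
    by_cases hK : F.S ≤ ptStab (RingAut A) 𝓑
    · refine h.eq_one_of_norm (K := F.Aut ⊓ Lin A ⊓ Fix (B' : Set A)) inf_le_left (fun s hs k hk => ?_) (fun hle => ?_) _
        ⟨⟨u1, cj_mem_Lin _⟩, u3 B' hB' hne⟩
      · refine ⟨⟨F.Aut.mul_mem (F.Aut.mul_mem (F.S_le_Aut hs) hk.1.1) (F.Aut.inv_mem (F.S_le_Aut hs)), Lin_conj hk.1.2 s⟩,
          fun y hy => ?_⟩
        rw [ra_mul, ra_mul, hk.2 _ (mem_smul_subring.1 ((hK hs B' hB').symm ▸ hy)), ra_apply_inv]
      · exact t3 B' hB' fun z hz => FR.cen_of_S h.span fun s hs => (hle hs).2 z hz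
    · refine h.eq_one_of_norm (K := F.Aut ⊓ Lin A ⊓ ptStab (RingAut A) 𝓑) inf_le_left (fun s hs k hk => ?_)
        (fun hle => hK fun s hs => (hle hs).2) _ ⟨⟨u1, cj_mem_Lin _⟩, u4⟩
      exact ⟨⟨F.Aut.mul_mem (F.Aut.mul_mem (F.S_le_Aut hs) hk.1.1) (F.Aut.inv_mem (F.S_le_Aut hs)), Lin_conj hk.1.2 s⟩,
        conj_mem_ptStab (hS hs).2 hk.2⟩
  rw [h.eq_of_le (P := P) (le_inf h.le (le_setStab hst)) inf_le_left hS]
  refine ps_up (a := 1) (b := 5 + 3) (Q := P ⊓ Lin A)
    (le_inf (dS_le _ _) ((dS_mono inf_le_left 1).trans (FR.dS_one_le h.ss))) inf_le_left ?_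
  refine ps_of_flip (s := 𝓑) (inf_le_left.trans inf_le_right) ?_ ?_
  · choose! l hl1 hl2 using hl
    let B : 𝓑 → BD F.max := fun B =>
      ⟨hT.blk B.2, l B, hl1 B B.2, hl2 B B.2, Or.inl rfl, Or.inr (hT.ss h.ss B.2)⟩
    refine transfer hP5 B (a := 0) (K := P ⊓ Lin A ⊓ ptStab (RingAut A) 𝓑) (fun γ hγ => hγ.1.1.1.1) (fun i γ hγ x hx => ?_) (fun γ hγ i => ?_)
      (fun i u hu h1 _ _ => ?_) (ps_of_bot ?_)
    · have h1 : γ x ∈ γ • i.1 := apply_mem_smul.2 hx
      rwa [hγ.2 i i.2] at h1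
    · have h1 : star (l i) = 1 - l i := by rw [← hl2 i i.2]; abel
      show star (γ (l i) - l i) = -(γ (l i) - l i)
      rw [star_sub, ← hγ.1.1.1.1, h1, map_sub, map_one]
      abel
    · obtain ⟨u1, u2, u3, u4⟩ := hup i i.2 u hu h1
      exact ⟨_, ⟨⟨⟨u1, hpt u4⟩, cj_mem_Lin _⟩, u4⟩, fun x _ => u2 x,
        fun j hj x hx => u3 j j.2 (fun e => hj (Subtype.ext e)) x hx⟩
    · rw [dS_zero, eq_bot_iff]
      intro γ hγ
      rw [Subgroup.mem_bot]
      ext a
      exact hT.ind (T := (γ : A →+* A).eqLocus (RingHom.id A))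
        (fun B' hB' x hx => hγ.2 x (Set.mem_iUnion.2 ⟨⟨B', hB'⟩, hx⟩)) a
  · intro γ hγ B hB hne
    have hB' : γ • B ∈ 𝓑 := (hγ.1.2 B).1 hB
    obtain ⟨w, w1, w2, w3⟩ := hT.exists_flip h.ss hγ.2 hB hB' hne
    have w1' : ∀ b ∈ B, (cj A w)⁻¹ b = γ b := fun b hb => by
      apply (cj A w).injective
      rw [ra_apply_inv, w2 b hb]
    have e1 : cj A w • B = γ • B := smul_eq_of_inv (fun x hx => by rw [w1 x hx]; exact apply_mem_smul.2 hx)
      fun x hx => by
        rw [← ra_apply_inv γ x, ← w1 _ (mem_smul_subring.1 hx), ra_inv_apply]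
        exact mem_smul_subring.1 hx
    have e2 : cj A w • γ • B = B := smul_eq_of_inv
      (fun x hx => by rw [← ra_apply_inv γ x, w2 _ (mem_smul_subring.1 hx)]; exact mem_smul_subring.1 hx)
      fun x hx => by rw [w1' x hx]; exact apply_mem_smul.2 hx
    have e3 : ∀ B'' ∈ 𝓑, B'' ≠ B → B'' ≠ γ • B → cj A w • B'' = B'' := fun B'' hB'' n1 n2 =>
      smul_eq_of_fix (w3 B'' hB'' n1 n2)
    have hw : cj A w ∈ SAut A := by
      let T : Subring A :=
        { carrier := {a | cj A w (star a) = star (cj A w a)}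
          mul_mem' := fun {a b} (ha : _ = _) (hb : _ = _) => by
            show cj A w (star (a * b)) = star (cj A w (a * b))
            rw [star_mul, map_mul, map_mul, star_mul, ha, hb]
          one_mem' := by simp
          add_mem' := fun {a b} (ha : _ = _) (hb : _ = _) => by
            show cj A w (star (a + b)) = star (cj A w (a + b))
            rw [star_add, map_add, map_add, star_add, ha, hb]
          zero_mem' := by simp
          neg_mem' := fun {a} (ha : _ = _) => by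
            show cj A w (star (-a)) = star (cj A w (-a))
            rw [star_neg, map_neg, map_neg, star_neg, ha] }
      refine hT.ind (T := T) fun B'' hB'' x hx => ?_
      show cj A w (star x) = star (cj A w x)
      by_cases n1 : B'' = B
      · subst n1
        rw [w1 _ (t4 _ hB x hx), w1 x hx, hγ.1.1.1]
      by_cases n2 : B'' = γ • B
      · subst n2
        have hx' := mem_smul_subring.1 hx
        rw [← ra_apply_inv γ x, ← hγ.1.1.1, w2 _ (t4 _ hB _ hx'), w2 _ hx']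
      · rw [w3 _ hB'' n1 n2 _ (t4 _ hB'' x hx), w3 _ hB'' n1 n2 x hx]
    refine ⟨cj A w, ⟨⟨hAut _ hw B hB _ hB' fun x hx => by rw [w1 x hx]; exact apply_mem_smul.2 hx, fun B'' => ?_⟩,
      cj_mem_Lin _⟩, e1, e2, e3⟩
    by_cases n1 : B'' = B
    · rw [n1, e1]; exact iff_of_true hB hB'
    by_cases n2 : B'' = γ • B
    · rw [n2, e2]; exact iff_of_true hB' hB
    refine ⟨fun h1 => by rwa [e3 _ h1 n1 n2], fun h1 => ?_⟩
    have n3 : cj A w • B'' ≠ B := fun e => n2 (smul_left_cancel (cj A w) (e.trans e2.symm))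
    have n4 : cj A w • B'' ≠ γ • B := fun e => n1 (smul_left_cancel (cj A w) (e.trans e1.symm))
    exact smul_left_cancel (cj A w) (e3 _ h1 n3 n4) ▸ h1

end Cfsg.Agent.DS.Cl
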