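import Cfsg.Agent.DS.Cl.MainG
import Cfsg.Agent.DS.Cl.P5
import Cfsg.Agent.DS.Cl.NC
import Cfsg.Agent.DS.Cl.Idem
import Cfsg.Agent.DS.Cl.Fld
import Cfsg.Agent.DS.Cl.Ten
import Cfsg.Agent.DS.Cl.Ext

/-!
# The box `BoxMain` from `BoxPar` and `BoxNS` (helper54)
-/

set_option autoImplicit false

namespace Cfsg.Agent.DS.Cl.Main

open Cfsg Cfsg.Agent.H936 Cfsg.Agent.DS

variable {A : Type} [Ring A] [StarRing A]

/-! ### The reducible case -/

/-- the orthogonal complement -/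
def perp (R : Ideal A) : Ideal A where
  carrier := {y | ∀ x ∈ R, x * star y = 0}
  add_mem' := fun ha hb x hx => by rw [star_add, mul_add, ha x hx, hb x hx, add_zero]
  zero_mem' := fun x _ => by rw [star_zero, mul_zero]
  smul_mem' := fun c y hy x hx => by rw [smul_eq_mul, star_mul, ← mul_assoc, hy x hx, zero_mul]

theorem inv_perp {M : Subgroup (RingAut A)} (hM : M ≤ SAut A) {R : Ideal A} (hR : Inv M R) : Inv M (perp R) := by
  intro γ hγ y hy x hx
  have h1 := congrArg γ (hy _ (hR _ (inv_mem hγ) x hx))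
  rwa [map_mul, ra_apply_inv, hM hγ, map_zero] at h1

theorem exists_symm_idem [Finite A] (h : SS A) {R : Ideal A} (hR : R ⊓ perp R = ⊥) :
    ∃ f ∈ R, star f = f ∧ f * f = f ∧ ∀ x ∈ R, x * f = x := by
  obtain ⟨e, he, -, h1⟩ := h.exists_idem R
  obtain ⟨k, hk⟩ := h.regular (e * star e)
  have h2 : e * star e * k * e = e := by
    have h3 : e * star e * k * e - e ∈ R ⊓ perp R := by
      refine ⟨R.sub_mem (R.mul_mem_left _ he) he, fun y hy => ?_⟩
      have h4 : e * star (e * star e * k * e - e) = star ((e * star e * k * e - e) * star e) := by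
        rw [star_mul (_ - _), star_star]
      rw [← h1 y hy, mul_assoc, h4, sub_mul, mul_assoc _ e, hk, sub_self, star_zero, mul_zero]
    rwa [hR, Ideal.mem_bot, sub_eq_zero] at h3
  have h3 := congrArg star h2
  simp only [star_mul, star_star] at h3
  have h4 : e * (star e * k * e) = e := by simpa only [mul_assoc] using h2
  refine ⟨star e * k * e, R.mul_mem_left _ he, ?_, by rw [mul_assoc _ e, h4], fun x hx => by
    rw [← h1 x hx, mul_assoc, h4]⟩
  calc star (star e * k * e) = star e * (star k * (e * (star e * k * e))) := by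
        rw [h4, star_mul, star_mul, star_star]
    _ = star e * (star k * (e * star e)) * k * e := by simp only [mul_assoc]
    _ = star e * k * e := by rw [h3]

/-- the singular elements of a totally isotropic left ideal -/
def sing (F : FR A) (T : Ideal A) (hT : ∀ x ∈ T, ∀ y ∈ T, x * star y = 0) : Ideal A where
  carrier := {x | x ∈ T ∧ x * F.l * star x ∈ F.L}
  add_mem' := by
    rintro x y ⟨hx, hx'⟩ ⟨hy, hy'⟩
    refine ⟨T.add_mem hx hy, ?_⟩
    have h1 : y * F.l * star x = -star (x * F.l * star y) := by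
      rw [star_mul, star_mul, star_star, eq_neg_iff_add_eq_zero, mul_assoc, ← mul_add, ← add_mul, F.l_add, one_mul,
        hT y hy x hx]
    have h2 := F.L.add_mem (F.L.add_mem hx' hy') (F.sub_star_mem (x * F.l * star y))
    rw [sub_eq_add_neg, ← h1] at h2
    convert h2 using 1
    rw [star_add]
    noncomm_ring
  zero_mem' := ⟨T.zero_mem, by simp⟩
  smul_mem' := by
    rintro c x ⟨hx, hx'⟩
    refine ⟨T.mul_mem_left c hx, ?_⟩
    have h1 := F.conj_mem hx' c
    simpa only [smul_eq_mul, star_mul, mul_assoc] using h1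

theorem red [Finite A] (hPar : BoxPar) (hNS : BoxNS) {F : FR A} {M : Subgroup (RingAut A)} (h : Ctx F M)
    (hD : ∀ D : Finset A, Fr D → ¬ Inv M D) (hI : ¬ Irr M) : PS 9 M := by
  classical
  have := h.ss.nontrivial
  obtain ⟨R, hR, hR2⟩ : ∃ R : Ideal A, Inv M R ∧ ¬ Two R := by
    by_contra hcon
    exact hI fun R hR => not_not.1 fun h1 => hcon ⟨R, hR, h1⟩
  have hT : ∀ x ∈ R ⊓ perp R, ∀ y ∈ R ⊓ perp R, x * star y = 0 := fun x hx y hy => hy.2 x hx.1
  have hTi : Inv M (R ⊓ perp R : Ideal A) := fun γ hγ x hx => ⟨hR γ hγ x hx.1, inv_perp h.le_SAut hR γ hγ x hx.2⟩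
  by_cases h0 : R ⊓ perp R = ⊥
  · obtain ⟨f, hf, hs, hi, h1⟩ := exists_symm_idem h.ss h0
    have hf0 : f ≠ 0 := fun e => hR2 fun x hx a => by
      rw [← h1 x hx, e, mul_zero, zero_mul]
      exact R.zero_mem
    have hf1 : 1 - f ≠ 0 := fun e => hR2 fun x _ a => by
      rw [← mul_one (x * a), sub_eq_zero.1 e]
      exact R.mul_mem_left _ hf
    have h2 : f * (1 - f) = 0 := by rw [mul_sub, mul_one, hi, sub_self]
    have h3 : (1 - f) * f = 0 := by rw [sub_mul, one_mul, hi, sub_self]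
    have hne : f ≠ 1 - f := fun e => hf0 (by rw [← hi]; nth_rewrite 2 [e]; exact h2)
    have hfix : ∀ γ ∈ M, γ f = f := by
      intro γ hγ
      have h4 := congrArg γ (h1 _ (hR _ (inv_mem hγ) f hf))
      rw [map_mul, ra_apply_inv] at h4
      have h5 := congrArg star h4
      rw [star_mul, ← h.le_SAut hγ, hs, h1 _ (hR γ hγ f hf)] at h5
      exact h5
    refine absurd ?_ (hD {f, 1 - f} ⟨by rw [Finset.card_pair hne], ?_, ?_, ?_, ?_, by
      rw [Finset.sum_pair hne, add_sub_cancel]⟩)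
    · intro γ hγ x hx
      simp only [Finset.coe_insert, Finset.coe_singleton, Set.mem_insert_iff, Set.mem_singleton_iff] at hx ⊢
      rcases hx with rfl | rfl
      · exact Or.inl (hfix γ hγ)
      · exact Or.inr (by rw [map_sub, map_one, hfix γ hγ])
    · simp [hf0, hf1]
    · simp only [Finset.mem_insert, Finset.mem_singleton, forall_eq_or_imp, forall_eq]
      exact ⟨hi, by rw [mul_sub, mul_one, h3, sub_zero]⟩
    · simp [hs]
    · simp [h2, h3]
  by_cases h1 : sing F _ hT = ⊥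
  · refine hNS A F M h _ h0 hTi hT fun x hx hx' => ?_
    have h2 : x ∈ sing F _ hT := ⟨hx, hx'⟩
    rwa [h1] at h2
  refine hPar A F M h _ h1 (fun γ hγ x hx => ⟨hTi γ hγ x hx.1, ?_⟩) (fun x hx y hy => hT x hx.1 y hy.1)
    (fun x hx => hx.2) fun h2 => ?_
  · have h2 := F.L.sub_mem (F.map_mem (h.le_SAut hγ) hx.2) (F.conj_mem (h.le hγ).2 (γ x))
    convert h2 using 1
    rw [map_mul, map_mul, h.le_SAut hγ]
    noncomm_ring
  · rcases h.ss.two_cases (I := sing F _ hT) h2 with h3 | h3 | ⟨ε, hε, h3⟩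
    · exact h1 h3
    · have h4 : (1 : A) ∈ sing F _ hT := by rw [h3]; trivial
      simpa using hT 1 h4.1 1 h4.1
    · have h4 := ((h3 ε).2 hε.idem).1
      refine hR2 fun x hx a => ?_
      have h5 := h4.2 x hx
      rw [hε.star_eq, mul_sub, mul_one, sub_eq_zero] at h5
      rw [h5, mul_assoc, ← hε.comm, ← mul_assoc]
      exact R.mul_mem_left _ h4.1

/-! ### The subring spanned by the lifts of a group -/

/-- the subring generated by the centre and the lifts of `T` -/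
def alg (F : FR A) (T : Subgroup (RingAut A)) : Subring A :=
  Subring.closure ((Subring.center A : Set A) ∪ {a | ∃ u ∈ F.Iso, cj A u ∈ T ∧ (u : A) = a})

variable {F : FR A} {M N T T' : Subgroup (RingAut A)}

theorem cen_le_alg : Subring.center A ≤ alg F T := fun _ hx => Subring.subset_closure (Or.inl hx)

theorem mem_alg {u : Aˣ} (hu : u ∈ F.Iso) (hT : cj A u ∈ T) : (u : A) ∈ alg F T :=
  Subring.subset_closure (Or.inr ⟨u, hu, hT, rfl⟩)

theorem alg_le {B : Subring A} (h1 : Subring.center A ≤ B) (h2 : ∀ u ∈ F.Iso, cj A u ∈ T → (u : A) ∈ B) :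
    alg F T ≤ B := by
  refine Subring.closure_le.2 ?_
  rintro x (hx | ⟨u, hu, hT, rfl⟩)
  · exact h1 hx
  · exact h2 u hu hT

theorem star_alg : ∀ x ∈ alg F T, star x ∈ alg F T := by
  intro x hx
  induction hx using Subring.closure_induction with
  | mem x hx =>
    rcases hx with hx | ⟨u, hu, hT, rfl⟩
    · exact cen_le_alg (star_cen hx)
    · rw [← FR.Iso.inv_eq hu]
      exact mem_alg (inv_mem hu) (by rw [map_inv]; exact inv_mem hT)
  | zero => rw [star_zero]; exact Subring.zero_mem _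
  | one => rw [star_one]; exact Subring.one_mem _
  | add x y _ _ hx hy => rw [star_add]; exact Subring.add_mem _ hx hy
  | neg x _ hx => rw [star_neg]; exact Subring.neg_mem _ hx
  | mul x y _ _ hx hy => rw [star_mul]; exact Subring.mul_mem _ hy hx

theorem apply_mem_alg {γ : RingAut A} (hγ : γ ∈ F.Aut) (h : ∀ t ∈ T, γ * t * γ⁻¹ ∈ T') :
    ∀ x ∈ alg F T, γ x ∈ alg F T' :=
  alg_le (B := (alg F T').comap (γ : A →+* A)) (fun _ hx => cen_le_alg (map_cen γ hx)) fun u hu hT =>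
    mem_alg (u := um γ u) (FR.um_mem_Iso hγ hu) (conj_cj γ u ▸ h _ hT)

omit [StarRing A] in
theorem map_eq_of {γ : RingAut A} {B B' : Subring A} (h1 : ∀ x ∈ B, γ x ∈ B') (h2 : ∀ x ∈ B', γ⁻¹ x ∈ B) :
    B.map (γ : A →+* A) = B' := smul_eq_of_inv h1 h2

theorem map_alg {γ : RingAut A} (hγ : γ ∈ F.Aut) : (alg F T).map (γ : A →+* A) = alg F (cT γ T) :=
  map_eq_of (apply_mem_alg hγ fun _ ht => conj_mem_cT.2 ht)
    (apply_mem_alg (inv_mem hγ) fun _ ht => by rw [inv_inv]; exact mem_cT.1 ht)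

theorem comm_of_alg (hT : T ≤ F.PI) (h : ∀ x ∈ alg F T, ∀ y ∈ alg F T, x * y = y * x) : IsMulCommutative T := by
  refine ⟨⟨fun s t => Subtype.ext ?_⟩⟩
  obtain ⟨u, hu, e⟩ := hT s.2
  obtain ⟨v, hv, e'⟩ := hT t.2
  rw [Subgroup.coe_mul, Subgroup.coe_mul, ← e, ← e', ← map_mul, ← map_mul,
    show u * v = v * u from Units.ext (h _ (mem_alg hu (e ▸ s.2)) _ (mem_alg hv (e' ▸ t.2)))]

theorem alg_not_le (hT : T ≤ F.PI) (h0 : T ≠ ⊥) : ¬ alg F T ≤ Subring.center A := fun h => h0 (eq_bot_iff.2 fun t ht => by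
  obtain ⟨u, hu, rfl⟩ := hT ht
  exact cj_eq_one_iff.2 (h (mem_alg hu ht)))

/-- a linear automorphism centralizing a perfect group fixes its lifts -/
theorem fix_lifts (hT : T ≤ F.PI) (hp : T ≤ ⁅T, T⁆) {γ : RingAut A} (hl : γ ∈ Lin A) (hγ : ∀ t ∈ T, γ * t = t * γ) :
    ∀ u ∈ F.Iso, cj A u ∈ T → γ u = u := by
  have h1 : (F.Iso ⊓ T.comap (cj A)).map (cj A) = T := by
    refine le_antisymm ?_ fun t ht => ?_
    · rintro _ ⟨u, hu, rfl⟩
      exact hu.2
    · obtain ⟨u, hu, rfl⟩ := hT ht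
      exact ⟨u, ⟨hu, ht⟩, rfl⟩
  exact fun u hu hu' => fix_of_comm (W := F.Iso ⊓ T.comap (cj A)) (by rwa [h1]) hl (fun w hw => hγ _ hw.2) u ⟨hu, hu'⟩

theorem alg_comm (hT : T ≤ F.PI) (hp : T ≤ ⁅T, T⁆) (h : ∀ s ∈ T', ∀ t ∈ T, s * t = t * s) :
    ∀ x ∈ alg F T', ∀ y ∈ alg F T, x * y = y * x := by
  have h1 : alg F T' ≤ Subring.centralizer (alg F T : Set A) := by
    refine alg_le (fun x hx y _ => cen_comm hx y) fun u _ hu y hy => ?_
    have h2 : alg F T ≤ Subring.centralizer {(u : A)} := by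
      refine alg_le (fun x hx y _ => cen_comm hx y) fun w hw hw' y hy => ?_
      rw [Set.mem_singleton_iff.1 hy, ← cj_mul_eq, fix_lifts hT hp (cj_mem_Lin u) (h _ hu) w hw hw']
    exact (h2 hy _ rfl).symm
  exact fun x hx y hy => (h1 hx y hy).symm

/-! ### The irreducible case -/

/-- a proper invariant subring with the same centre -/
theorem ps_central [Finite A] (h : Ctx F M) (hI : Irr M) (hD : ∀ D : Finset A, Fr D → ¬ Inv M D) {B : Subring A}
    (h1 : Subring.center A ≤ B) (h2 : ¬ B ≤ Subring.center A) (hs : ∀ x ∈ B, star x ∈ B) (hB : Inv M B)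
    (hZ : cenOf B ≤ Subring.center A) (hne : B ≠ ⊤) : PS 9 M := by
  obtain ⟨n, E, hE, hEm, hEc⟩ := exists_mu_sub (ss_of_inv h.ss h.le_SAut hI hD hs hB)
  let C := Subring.centralizer (B : Set A)
  have hcoef : ∀ a i j, coef E a i j ∈ C := by
    intro a i j b hb
    rw [hE.expand b, Finset.sum_mul, Finset.mul_sum]
    refine Finset.sum_congr rfl fun p _ => ?_
    rw [Finset.sum_mul, Finset.mul_sum]
    refine Finset.sum_congr rfl fun q _ => ?_
    have h3 : coef E b p q ∈ Subring.center A :=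
      hZ ⟨coef_mem hEm hb p q, hEc _ (coef_mem hEm hb p q) (hE.coef_comm b p q)⟩
    rw [mul_assoc, ← hE.coef_comm, ← mul_assoc, ← mul_assoc, cen_comm h3]
  have hgen : ∀ X : Subring A, B ≤ X → C ≤ X → X = ⊤ := fun X h3 h4 => eq_top_iff.2 fun a _ => by
    rw [hE.expand a]
    exact X.sum_mem fun i _ => X.sum_mem fun j _ => X.mul_mem (h4 (hcoef a i j)) (h3 (hEm i j))
  have hC := inv_centralizer hB
  refine boxTen P5.boxP5 NCTV.boxNC A F M h hI {B, C} ⟨B, Or.inl rfl, C, Or.inr rfl, fun e => h2 fun x hx =>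
    hZ ⟨hx, e.le hx⟩⟩ ?_ ?_ ?_ ?_ (hgen _ (fun x hx => Subring.subset_closure (Set.mem_biUnion (Or.inl rfl) hx))
      fun x hx => Subring.subset_closure (Set.mem_biUnion (Or.inr rfl) hx)) ?_
  · rintro _ (rfl | rfl)
    · exact h1
    · exact fun x hx y _ => cen_comm hx y
  · rintro _ (rfl | rfl)
    · exact h2
    · exact fun h3 => hne (hgen _ le_rfl (h3.trans h1))
  · rintro _ (rfl | rfl)
    · exact hs
    · exact star_centralizer hs
  · rintro _ (rfl | rfl) _ (rfl | rfl) e x hx y hy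
    · exact absurd rfl e
    · exact hy x hx
    · exact (hx y hy).symm
    · exact absurd rfl e
  · rintro γ hγ _ (rfl | rfl)
    · exact Or.inl (map_eq_of (hB γ hγ) (hB _ (inv_mem hγ)))
    · exact Or.inr (map_eq_of (hC γ hγ) (hC _ (inv_mem hγ)))

/-- an absolutely irreducible non-abelian minimal normal subgroup -/
theorem ps_comp [Finite A] (big : Big) (h : Ctx F M) (hI : Irr M) (hNM : N ≤ M) (hN : N ≤ F.PI) (hn : Nrm M N)
    (h0 : N ≠ ⊥) (htop : alg F N = ⊤) {𝓣 : Set (Subgroup (RingAut A))} (hT : Comp M N 𝓣) : PS 9 M := by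
  have : Finite (RingAut A) := Finite.of_injective (fun γ : RingAut A => (γ : A → A)) DFunLike.coe_injective
  have hp : ∀ T ∈ 𝓣, T ≤ ⁅T, T⁆ := fun T hT' => perfect_of_simple (hT.simple T hT') (hT.noncomm T hT')
  by_cases h1 : N ∈ 𝓣
  · have h2 : PS 3 ↥(M ⊓ Lin A) := by
      refine ps_three big (le_inf hNM (hN.trans F.PI_le_Lin)) (fun γ hγ => hn γ hγ.1) (hT.simple N h1)
        (hT.noncomm N h1) fun γ hγ hc => eq_one_of_fix htop hγ.2 ?_
      rintro _ ⟨u, hu, hu', rfl⟩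
      exact fix_lifts hN (hp N h1) hγ.2 hc u hu hu'
    exact (ps_up (a := 1) (b := 3) (le_inf (dS_le _ _) ((dS_mono h.le 1).trans (FR.dS_one_le h.ss))) inf_le_left
      h2).mono (by norm_num)
  have hcomm : ∀ T ∈ 𝓣, ∀ T' ∈ 𝓣, T ≠ T' → ∀ x ∈ alg F T, ∀ y ∈ alg F T', x * y = y * x := fun T h2 T' h3 e =>
    alg_comm ((hT.le T' h3).trans hN) (hp T' h3) (hT.comm T h2 T' h3 e)
  refine boxTen P5.boxP5 NCTV.boxNC A F M h hI (alg F '' 𝓣) ?_ ?_ ?_ ?_ ?_ ?_ ?_
  · obtain ⟨T, h2⟩ : 𝓣.Nonempty := by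
      by_contra hcon
      exact h0 (eq_bot_iff.2 (hT.gen ⊥ fun T h2 => absurd ⟨T, h2⟩ hcon))
    obtain ⟨T', h3, e⟩ : ∃ T' ∈ 𝓣, T' ≠ T := by
      by_contra hcon
      push Not at hcon
      exact h1 (le_antisymm (hT.le T h2) (hT.gen T fun T' h3 => (hcon T' h3).le) ▸ h2)
    refine ⟨_, ⟨T', h3, rfl⟩, _, ⟨T, h2, rfl⟩, fun e' => hT.noncomm T h2 (comm_of_alg ((hT.le T h2).trans hN) ?_)⟩
    exact fun x hx => hcomm T' h3 T h2 e x (e' ▸ hx)
  · rintro _ ⟨T, -, rfl⟩
    exact cen_le_alg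
  · rintro _ ⟨T, h2, rfl⟩
    have := hT.simple T h2
    exact alg_not_le ((hT.le T h2).trans hN) ((Subgroup.nontrivial_iff_ne_bot T).1 inferInstance)
  · rintro _ ⟨T, -, rfl⟩
    exact star_alg
  · rintro _ ⟨T, h2, rfl⟩ _ ⟨T', h3, rfl⟩ e
    exact hcomm T h2 T' h3 fun e' => e (by rw [e'])
  · set X := Subring.closure (⋃ B ∈ alg F '' 𝓣, (B : Set A))
    have hX : ∀ T ∈ 𝓣, alg F T ≤ X := fun T h2 x hx => Subring.subset_closure (Set.mem_biUnion ⟨T, h2, rfl⟩ hx)
    obtain ⟨T, h2⟩ : 𝓣.Nonempty := by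
      by_contra hcon
      exact h0 (eq_bot_iff.2 (hT.gen ⊥ fun T h2 => absurd ⟨T, h2⟩ hcon))
    have hc : Subring.center A ≤ X := cen_le_alg.trans (hX T h2)
    let W : Subgroup Aˣ :=
      { carrier := {u | (u : A) ∈ X ∧ ((u⁻¹ : Aˣ) : A) ∈ X}
        mul_mem' := fun ha hb => ⟨X.mul_mem ha.1 hb.1, by rw [mul_inv_rev]; exact X.mul_mem hb.2 ha.2⟩
        one_mem' := ⟨X.one_mem, X.one_mem⟩
        inv_mem' := fun ha => ⟨ha.2, ha.1⟩ }
    have h3 : N ≤ W.map (cj A) := hT.gen _ fun T h3 t ht => by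
      obtain ⟨u, hu, rfl⟩ := hN (hT.le T h3 ht)
      exact ⟨u, ⟨hX T h3 (mem_alg hu ht), hX T h3 (mem_alg (inv_mem hu) (by rw [map_inv]; exact inv_mem ht))⟩, rfl⟩
    rw [eq_top_iff, ← htop]
    refine alg_le hc fun u _ hu => ?_
    obtain ⟨w, hw, e⟩ := h3 hu
    obtain ⟨z, hz, rfl⟩ := cj_eq_iff.1 e.symm
    exact X.mul_mem hw.1 (hc hz)
  · rintro γ hγ _ ⟨T, h2, rfl⟩
    exact ⟨_, hT.inv γ hγ T h2, (map_alg (h.le hγ)).symm⟩

theorem boxMain (hPar : BoxPar) (hNS : BoxNS) : BoxMain := by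
  intro big A _ _ _ F M h
  have : Finite (RingAut A) := Finite.of_injective (fun γ : RingAut A => (γ : A → A)) DFunLike.coe_injective
  by_cases hD : ∃ D : Finset A, Fr D ∧ Inv M D
  · obtain ⟨D, h1, h2⟩ := hD
    exact boxIdem P5.boxP5 NCTV.boxNC A F M h D h1 h2
  replace hD : ∀ D : Finset A, Fr D → ¬ Inv M D := fun D h1 h2 => hD ⟨D, h1, h2⟩
  by_cases hI : ¬ Irr M
  · exact red hPar hNS h hD hI
  replace hI := not_not.1 hI
  by_cases h0 : M ⊓ F.S = ⊥
  · refine (ps_of_bot (k := 3) (eq_bot_iff.2 ?_)).mono (by norm_num)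
    rw [← h0]
    exact le_inf (dS_le _ _) ((dS_mono h.le 3).trans (FR.dS_three_le h.ss))
  obtain ⟨N, hN, hmin⟩ := exists_minN (M := M) ((nrm_self M).inf fun γ hγ s hs => FR.conj_mem_S (h.le hγ) hs) h0
  have hNM : N ≤ M := hN.trans inf_le_left
  have hNS : N ≤ F.S := hN.trans inf_le_right
  have hNP : N ≤ F.PI := hNS.trans F.S_le_PI
  have hB : Inv M (alg F N) := fun γ hγ => apply_mem_alg (h.le hγ) (hmin.nrm γ hγ)
  by_cases hZ : ¬ cenOf (alg F N) ≤ Subring.center A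
  · exact boxFld P5.boxP5 A F M h hI hD (cenOf (alg F N)) (fun x hx => ⟨cen_le_alg hx, fun y _ => cen_comm hx y⟩) hZ
      (fun x hx => ⟨star_alg x hx.1, star_centralizer star_alg x hx.2⟩) (fun x hx y hy => hy.2 x hx.1) (inv_cenOf hB)
  by_cases htop : alg F N ≠ ⊤
  · exact ps_central h hI hD cen_le_alg (alg_not_le hNP hmin.ne) star_alg hB (not_not.1 hZ) htop
  replace htop := not_not.1 htop
  by_cases hc : ∀ x ∈ N, ∀ y ∈ N, x * y = y * x
  · refine Ext.boxExt A F M N h.ss h.le hNM hNP hmin.ne hc (fun γ hγ => ⟨hmin.nrm γ, fun h1 => ?_⟩) hmin.min htop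
    refine h.max (F.Aut ⊓ nz N) (le_inf h.le hmin.nrm.le_nz) inf_le_left (fun h2 => ?_) ⟨hγ, mem_nz_of h1⟩
    refine hmin.ne (eq_bot_iff.2 fun x hx => inf_eq_bot_of_simple h.simple (nrm_of_le (h2.trans inf_le_right))
      (fun h3 => h.not_le (h3.trans hNM)) x (hNS hx) hx)
  · obtain ⟨𝓣, hT⟩ := hmin.exists_comp hc
    exact ps_comp big h hI hNM hNP hmin.nrm hmin.ne htop hT

end Cfsg.Agent.DS.Cl.Main
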