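import Cfsg.Agent.DS.Cl.Grp
import Cfsg.Agent.DS.Gen.SD

/-!
# Minimal invariant subgroups (helper54)
-/

set_option autoImplicit false

namespace Cfsg.Agent.DS.Cl.Main

open Cfsg Cfsg.Agent.H936 Cfsg.Agent.DS

variable {G : Type} [Group G]

/-- `M` normalizes `K` -/
def Nrm (M K : Subgroup G) : Prop := ∀ γ ∈ M, ∀ x ∈ K, γ * x * γ⁻¹ ∈ K

/-- `N` is a minimal non-trivial subgroup normalized by `M` -/
structure MinN (M N : Subgroup G) : Prop where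
  nrm : Nrm M N
  ne : N ≠ ⊥
  min : ∀ N' : Subgroup G, N' ≤ N → Nrm M N' → N' = ⊥ ∨ N' = N

theorem exists_minN [Finite G] {M K : Subgroup G} (hK : Nrm M K) (h0 : K ≠ ⊥) : ∃ N, N ≤ K ∧ MinN M N := by
  obtain ⟨N, ⟨h1, h2, h3⟩, hmin⟩ := WellFounded.has_min (wellFounded_lt (α := Subgroup G))
    {N : Subgroup G | N ≤ K ∧ Nrm M N ∧ N ≠ ⊥} ⟨K, le_rfl, hK, h0⟩
  refine ⟨N, h1, h2, h3, fun N' h4 h5 => ?_⟩
  by_cases h6 : N' = ⊥
  · exact Or.inl h6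
  · exact Or.inr (eq_of_le_of_not_lt h4 (hmin N' ⟨h4.trans h1, h5, h6⟩))

theorem nrm_self (N : Subgroup G) : Nrm N N := fun _ hγ _ hx => mul_mem (mul_mem hγ hx) (inv_mem hγ)

theorem Nrm.inf {M K K' : Subgroup G} (h : Nrm M K) (h' : Nrm M K') : Nrm M (K ⊓ K') := fun γ hγ x hx =>
  ⟨h γ hγ x hx.1, h' γ hγ x hx.2⟩

theorem Nrm.inv {M K : Subgroup G} (h : Nrm M K) {γ x : G} (hγ : γ ∈ M) (hx : x ∈ K) : γ⁻¹ * x * γ ∈ K := by
  simpa only [inv_inv] using h _ (inv_mem hγ) x hx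

/-- the elements normalizing `K` -/
def nz (K : Subgroup G) : Subgroup G := Subgroup.normalizer (K : Set G)

theorem mem_nz {K : Subgroup G} {γ : G} : γ ∈ nz K ↔ ∀ x, x ∈ K ↔ γ * x * γ⁻¹ ∈ K := Subgroup.mem_normalizer_iff

theorem Nrm.le_nz {M K : Subgroup G} (h : Nrm M K) : M ≤ nz K := fun γ hγ => mem_nz.2 fun x =>
  ⟨h γ hγ x, fun hx => by simpa [mul_assoc] using h.inv hγ hx⟩

theorem nrm_of_le {M K : Subgroup G} (h : M ≤ nz K) : Nrm M K := fun _ hγ x hx => (mem_nz.1 (h hγ) x).1 hx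

theorem mem_nz_of [Finite G] {K : Subgroup G} {γ : G} (h : ∀ x ∈ K, γ * x * γ⁻¹ ∈ K) : γ ∈ nz K :=
  Subgroup.mem_normalizer_fintype h

/-- the conjugate subgroup -/
def cT (γ : G) (T : Subgroup G) : Subgroup G := T.comap (MulAut.conj γ⁻¹).toMonoidHom

theorem mem_cT {γ x : G} {T : Subgroup G} : x ∈ cT γ T ↔ γ⁻¹ * x * γ ∈ T := by
  change γ⁻¹ * x * γ⁻¹⁻¹ ∈ T ↔ _
  rw [inv_inv]

theorem conj_mem_cT {γ x : G} {T : Subgroup G} : γ * x * γ⁻¹ ∈ cT γ T ↔ x ∈ T := by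
  rw [mem_cT]
  simp [mul_assoc]

theorem cT_cT (γ : G) (T : Subgroup G) : cT γ (cT γ⁻¹ T) = T := by
  ext x
  rw [mem_cT, mem_cT]
  simp [mul_assoc]

theorem cT_bot (γ : G) : cT γ (⊥ : Subgroup G) = ⊥ := by
  ext x
  rw [mem_cT, Subgroup.mem_bot, Subgroup.mem_bot, mul_assoc, inv_mul_eq_one, eq_comm, mul_eq_right]

theorem MinN.conj {N T : Subgroup G} (h : MinN N T) {γ : G} (hγ : γ ∈ nz N) : MinN N (cT γ T) := by
  have key : ∀ {T : Subgroup G} {γ : G}, γ ∈ nz N → Nrm N T → Nrm N (cT γ T) := by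
    intro T γ hγ h n hn x hx
    have h1 := h _ ((nrm_of_le (le_refl (nz N))).inv hγ hn) _ (mem_cT.1 hx)
    rw [mem_cT]
    simpa [mul_assoc] using h1
  refine ⟨key hγ h.nrm, fun h0 => h.ne ?_, fun N' h1 h2 => ?_⟩
  · have h1 := cT_cT γ⁻¹ T
    rw [inv_inv, h0, cT_bot] at h1
    exact h1.symm
  · rcases h.min (cT γ⁻¹ N') (fun x hx => conj_mem_cT.1 (h1 (by simpa using mem_cT.1 hx))) (key (inv_mem hγ) h2)
      with h3 | h3
    · left
      rw [← cT_cT γ N', h3, cT_bot]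
    · right
      rw [← cT_cT γ N', h3]

theorem MinN.comm {N T T' : Subgroup G} (h : MinN N T) (h' : MinN N T') (h1 : T ≤ N) (h1' : T' ≤ N) (hne : T ≠ T') :
    ∀ x ∈ T, ∀ y ∈ T', x * y = y * x := by
  intro x hx y hy
  have h2 : T ⊓ T' = ⊥ := by
    rcases h.min _ inf_le_left (h.nrm.inf h'.nrm) with h2 | h2
    · exact h2
    · rcases h'.min T (h2 ▸ inf_le_right) h.nrm with h3 | h3
      · exact absurd h3 h.ne
      · exact absurd h3 hne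
  have h3 : x * y * x⁻¹ * y⁻¹ ∈ T ⊓ T' := by
    refine ⟨?_, T'.mul_mem (h'.nrm x (h1 hx) y hy) (T'.inv_mem hy)⟩
    have h4 := mul_mem hx (h.nrm y (h1' hy) _ (inv_mem hx))
    simpa [mul_assoc] using h4
  rw [h2, Subgroup.mem_bot, mul_inv_eq_one, mul_inv_eq_iff_eq_mul] at h3
  exact h3

/-- the components of a non-abelian minimal invariant subgroup -/
structure Comp (M N : Subgroup G) (𝓣 : Set (Subgroup G)) : Prop where
  le : ∀ T ∈ 𝓣, T ≤ N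
  simple : ∀ T ∈ 𝓣, IsSimpleGroup T
  noncomm : ∀ T ∈ 𝓣, ¬ IsMulCommutative T
  comm : ∀ T ∈ 𝓣, ∀ T' ∈ 𝓣, T ≠ T' → ∀ x ∈ T, ∀ y ∈ T', x * y = y * x
  gen : ∀ P : Subgroup G, (∀ T ∈ 𝓣, T ≤ P) → N ≤ P
  inv : ∀ γ ∈ M, ∀ T ∈ 𝓣, cT γ T ∈ 𝓣

theorem MinN.exists_comp [Finite G] {M N : Subgroup G} (h : MinN M N) (hc : ¬ ∀ x ∈ N, ∀ y ∈ N, x * y = y * x) :
    ∃ 𝓣, Comp M N 𝓣 := by
  let 𝓣 : Set (Subgroup G) := {T | T ≤ N ∧ MinN N T}
  have hinv : ∀ γ ∈ M, ∀ T ∈ 𝓣, cT γ T ∈ 𝓣 := fun γ hγ T hT =>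
    ⟨fun x hx => by simpa [mul_assoc] using h.nrm γ hγ _ (hT.1 (mem_cT.1 hx)), hT.2.conj (h.nrm.le_nz hγ)⟩
  have hcomm : ∀ T ∈ 𝓣, ∀ T' ∈ 𝓣, T ≠ T' → ∀ x ∈ T, ∀ y ∈ T', x * y = y * x := fun T hT T' hT' =>
    hT.2.comm hT'.2 hT.1 hT'.1
  have hgen : ∀ P : Subgroup G, (∀ T ∈ 𝓣, T ≤ P) → N ≤ P := by
    intro P hP
    have h1 : Nrm M (sSup 𝓣) := by
      intro γ hγ x hx
      have h2 : sSup 𝓣 ≤ cT γ⁻¹ (sSup 𝓣) := sSup_le fun T hT y hy => by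
        rw [mem_cT, inv_inv]
        exact le_sSup (hinv γ hγ T hT) (conj_mem_cT.2 hy)
      simpa using mem_cT.1 (h2 hx)
    rcases h.min _ (sSup_le fun T hT => hT.1) h1 with h2 | h2
    · obtain ⟨T, hT, hT'⟩ := exists_minN (nrm_self N) h.ne
      exact absurd (eq_bot_iff.2 (h2 ▸ le_sSup (show T ∈ 𝓣 from ⟨hT, hT'⟩))) hT'.ne
    · rw [← h2]
      exact sSup_le hP
  have hZ : N ⊓ Subgroup.centralizer (N : Set G) = ⊥ := by
    have h0 : Nrm M (Subgroup.centralizer (N : Set G)) := by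
      intro γ hγ x hx y hy
      have h1 := hx _ (h.nrm.inv hγ hy)
      calc y * (γ * x * γ⁻¹) = γ * (γ⁻¹ * y * γ * x) * γ⁻¹ := by group
        _ = γ * x * γ⁻¹ * y := by rw [h1]; group
    exact (h.min _ inf_le_left (h.nrm.inf h0)).resolve_right fun h1 => hc fun x hx y hy => (h1.ge hy).2 x hx
  refine ⟨𝓣, fun T hT => hT.1, fun T hT => ?_, fun T hT hT' => hT.2.ne ?_, hcomm, hgen, hinv⟩
  · have : Nontrivial T := (Subgroup.nontrivial_iff_ne_bot T).2 hT.2.ne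
    refine ⟨fun K hK => ?_⟩
    have h1 : N ≤ nz (K.map T.subtype) := by
      refine hgen _ fun T' hT' γ hγ => mem_nz_of ?_
      rintro _ ⟨x, hx, rfl⟩
      by_cases e : T' = T
      · exact ⟨_, hK.conj_mem x hx ⟨γ, e ▸ hγ⟩, rfl⟩
      · refine ⟨x, hx, ?_⟩
        rw [Subgroup.coe_subtype, hcomm T' hT' T hT e γ hγ _ x.2, mul_inv_cancel_right]
    rcases hT.2.min _ (Subgroup.map_subtype_le K) (nrm_of_le h1) with h2 | h2
    · exact Or.inl ((Subgroup.map_eq_bot_iff_of_injective K T.subtype_injective).1 h2)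
    · right
      apply Subgroup.map_injective T.subtype_injective
      rw [h2, ← MonoidHom.range_eq_map, Subgroup.range_subtype]
  · rw [eq_bot_iff, ← hZ]
    refine le_inf hT.1 fun x hx y hy => ?_
    have h1 : N ≤ Subgroup.centralizer {x} := by
      refine hgen _ fun T' hT'' z hz w hw => ?_
      rw [Set.mem_singleton_iff.1 hw]
      by_cases e : T' = T
      · exact congrArg Subtype.val (hT'.is_comm.comm (⟨x, hx⟩ : T) ⟨z, e ▸ hz⟩)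
      · exact (hcomm T' hT'' T hT e z hz x hx).symm
    exact (h1 hy x rfl).symm

/-- a simple normal subgroup with trivial centralizer -/
theorem ps_three (big : Big) [Finite G] {X T : Subgroup G} (hT : T ≤ X) (hn : Nrm X T) (hs : IsSimpleGroup T)
    (hc : ¬ IsMulCommutative T) (hC : ∀ γ ∈ X, (∀ t ∈ T, γ * t = t * γ) → γ = 1) : PS 3 X := by
  let e := Subgroup.subgroupOfEquivOfLe hT
  rw [← ps_top]
  refine Gen.boxTop big X (T.subgroupOf X) ⟨fun t ht g => hn g g.2 t ht⟩ e.isSimpleGroup (fun h => hc ⟨⟨fun a b => ?_⟩⟩)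
    ?_ ⊤ le_top
  · apply e.symm.injective
    rw [map_mul, map_mul]
    exact h.is_comm.comm _ _
  · rw [eq_bot_iff]
    intro γ hγ
    rw [Subgroup.mem_bot]
    exact Subtype.ext (hC γ γ.2 fun t ht => (congrArg Subtype.val (hγ ⟨t, hT ht⟩ ht)).symm)

end Cfsg.Agent.DS.Cl.Main
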