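import Cfsg.Agent.DS.Cl.ModBase
import Cfsg.Agent.LieClassical.SympPerfect

/-!
# S5881, classical groups: the model of the symplectic groups (helper12)
-/

set_option autoImplicit false

namespace Cfsg.Agent.DS.Cl.Fwd

open Cfsg Cfsg.Agent.DS.Cl Cfsg.Agent.ClassicalGeometry.SympBasic Cfsg.Agent.ClassicalGeometry.SympAutSemi
open scoped Matrix

/-- matrices as elements of the ring of a form -/
def matHom {K ι : Type} [Field K] [Fintype ι] [DecidableEq ι] (h : HF K (ι → K)) : Matrix ι ι K →* h.EB where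
  toFun A := h.eb (Matrix.toLin' A)
  map_one' := h.ap_ext fun v => Matrix.one_mulVec v
  map_mul' A B := h.ap_ext fun v => (Matrix.mulVec_mulVec v A B).symm

theorem ap_matHom {K ι : Type} [Field K] [Fintype ι] [DecidableEq ι] (h : HF K (ι → K)) (A : Matrix ι ι K)
    (v : ι → K) : h.ap (matHom h A) v = A *ᵥ v := rfl

theorem matHom_inj {K ι : Type} [Field K] [Fintype ι] [DecidableEq ι] (h : HF K (ι → K)) :
    Function.Injective (matHom h) := fun A B H => by
  rw [← Matrix.mulVec_injective.eq_iff]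
  funext v
  rw [← ap_matHom h, ← ap_matHom h, H]

theorem matHom_surj {K ι : Type} [Field K] [Fintype ι] [DecidableEq ι] (h : HF K (ι → K)) (a : h.EB) :
    matHom h (LinearMap.toMatrix' (h.ap a)) = a :=
  h.ap_ext fun v => by rw [ap_matHom, LinearMap.toMatrix'_mulVec]

/-- the symplectic form -/
def spH (m : ℕ) (F : Type) [Field F] : HF F (Fin m ⊕ Fin m → F) where
  τ := RingHom.id F
  ε := -1
  b := sympForm m F
  add_left := sympForm_add_left
  smul_left := sympForm_smul_left
  swap u v := by rw [sympForm_swap, neg_one_mul, RingHom.id_apply]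
  τ_τ _ := rfl
  nondeg _ := eq_zero_of_forall_sympForm_left

theorem boxModSp : BoxModSp := by
  intro F _ _ m hm hm2
  have hnt : Nontrivial (Fin m ⊕ Fin m → F) := by
    have : Nonempty (Fin m ⊕ Fin m) := ⟨Sum.inl ⟨0, by omega⟩⟩
    infer_instance
  let h := spH m F
  obtain ⟨β, hβ⟩ := exists_half (sympBilin m F) (fun v => sympForm_self v)
  obtain ⟨l, hl⟩ := h.exists_op (fun _ => rfl) β
  have hll : l + star l = 1 := h.ap_ext fun v => h.ext_right fun u => by
    rw [h.ap_add, h.add_right, h.b_star, hl, h.swap v (h.ap l u), hl, h.ap_one]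
    change β u v + -1 * β v u = sympBilin m F u v
    rw [← hβ]
    ring
  let R : FR h.EB := ⟨l, Lmax h.EB, hll, Or.inr rfl⟩
  let φ : Matrix.symplecticGroup (Fin m) F →* h.EBˣ :=
    ((matHom h).comp (Matrix.symplecticGroup (Fin m) F).subtype).toHomUnits
  have hφ : ∀ A v, h.ap (φ A) v = (A : Matrix _ _ F) *ᵥ v := fun A v => rfl
  have hinj : Function.Injective φ := fun A B H => Subtype.ext (matHom_inj h (congrArg Units.val H))
  have hr : φ.range = R.Iso := by
    ext u
    constructor
    · rintro ⟨A, rfl⟩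
      exact mem_Iso_max rfl ((h.unit_iff _).2 fun x y => sympForm_mulVec A.2 x y)
    · intro hu
      have h1 := (h.unit_iff u).1 hu.1
      refine ⟨⟨LinearMap.toMatrix' (h.ap u), mem_symplecticGroup_iff.2 fun x y => ?_⟩, Units.ext (matHom_surj h u)⟩
      rw [LinearMap.toMatrix'_mulVec, LinearMap.toMatrix'_mulVec]
      exact h1 x y
  have hperf : commutator (Matrix.symplecticGroup (Fin m) F) = ⊤ := by
    refine Cfsg.Agent.LieClassical.SympPerfect.commutator_eq_top ?_
    rcases (by omega : m = 2 ∨ 3 ≤ m) with h | h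
    · exact Or.inr (Or.inl ⟨h, hm2 h⟩)
    · exact Or.inl h
  have hc : φ.range = ⁅R.Iso, R.Iso⁆ := by
    rw [← hr, comm_range, hperf, ← MonoidHom.range_eq_map]
  have hspan : R.Span := by
    refine h.span_top _ (fun c => Subring.subset_closure (Or.inl (h.smul_mem_center c))) {x | x ≠ 0}
      (exists_ne 0) (fun x hx => hx) (fun x _ => ?_) (fun x _ v hv => ⟨0, ?_, by rwa [zero_smul, add_zero]⟩)
    · have e : h.eb (h.ro x x) = (φ (transv x 1) : h.EB) - 1 := h.ap_ext fun v => by
        rw [h.ap_sub, hφ, h.ap_one, h.ap_eb, h.ro_apply]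
        change _ = sympTransvection m x 1 *ᵥ v - v
        rw [sympTransvection_mulVec, one_mul, add_sub_cancel_left]
        rfl
      rw [e]
      refine Subring.sub_mem _ (Subring.subset_closure (Or.inr ⟨φ (transv x 1), ?_, rfl⟩)) (Subring.one_mem _)
      rw [← hc]
      exact ⟨_, rfl⟩
    · rw [zero_smul, add_zero]
      rintro rfl
      exact hv (h.zero_left x)
  refine model_of R h.ss hspan φ hinj hc _ ?_
  rintro _ ⟨g, rfl⟩
  obtain ⟨σ, c, -, hg⟩ := g.2
  refine ⟨h.semiAut g.1 σ hg.1 hg.2.1, mem_Aut_max rfl (h.semiAut_mem g.1 σ hg.1 hg.2.1 hg.2.2),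
    fun A => ⟨Cfsg.Agent.ClassicalGeometry.SympAutSemi.conjHom m F g A, Psi_mk g A, h.ap_ext fun v => ?_⟩⟩
  obtain ⟨v, rfl⟩ := g.1.surjective v
  rw [h.ap_semiAut, hφ, hφ, ← rho_apply, ← rho_apply, rho_conjHom, Equiv.Perm.mul_apply, Equiv.Perm.mul_apply,
    perm_inv_apply_self]

end Cfsg.Agent.DS.Cl.Fwd
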