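import Cfsg.Agent.DS.Cl.Basic

/-!
# S5881, classical groups: from form rings to almost simple groups (helper12)
-/

set_option autoImplicit false

namespace Cfsg.Agent.DS.Cl.Fwd

open Cfsg Cfsg.Agent.H936 Cfsg.Agent.DS Cfsg.Agent.DS.Cl

theorem boxRow (hM : BoxMain) : BoxRow := by
  intro big G _ _ S H hs hmod
  obtain ⟨A, _, _, _, F, e, hss, hspan, hΓ⟩ := hmod
  have hN := hs.normal
  have hfin : Finite (RingAut A) := Finite.of_injective (fun γ : RingAut A => (γ : A → A)) DFunLike.coe_injective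
  have hle : F.Aut ≤ Subgroup.normalizer (F.S : Set (RingAut A)) := fun γ hγ => by
    rw [Subgroup.mem_normalizer_iff]
    refine fun s => ⟨FR.conj_mem_S hγ, fun h => ?_⟩
    have h1 := FR.conj_mem_S (inv_mem hγ) h
    simpa [mul_assoc] using h1
  let θ : F.Aut →* MulAut S :=
    (MulAut.congr e).toMonoidHom.comp (F.S.normalizerMonoidHom.comp (Subgroup.inclusion hle))
  have hθ : ∀ (γ : F.Aut) (s t : F.S), (t : RingAut A) = γ * s * (γ : RingAut A)⁻¹ → θ γ (e s) = e t := by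
    intro γ s t h
    change e (F.S.normalizerMonoidHom (Subgroup.inclusion hle γ) (e.symm (e s))) = e t
    rw [e.symm_apply_apply]
    exact congrArg e (Subtype.ext h.symm)
  let ι : G →* MulAut S := MulAut.conjNormal
  have hι : Function.Injective ι := by
    rw [injective_iff_map_eq_one]
    intro g hg
    rw [← Subgroup.mem_bot, ← hs.cent, Subgroup.mem_centralizer_iff]
    intro s hsS
    have h1 : ((ι g ⟨s, hsS⟩ : S) : G) = s := by rw [hg]; rfl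
    have h2 : g * s * g⁻¹ = s := h1
    rw [← mul_inv_eq_iff_eq_mul.1 h2]
  have hsurj : ∀ g : G, ∃ γ : F.Aut, θ γ = ι g := fun g => by
    obtain ⟨γ, hγ, h⟩ := hΓ (ι g) ⟨g, fun s => rfl⟩
    refine ⟨⟨γ, hγ⟩, MulEquiv.ext fun x => ?_⟩
    obtain ⟨s, rfl⟩ := e.surjective x
    rw [hθ ⟨γ, hγ⟩ s ⟨_, FR.conj_mem_S hγ s.2⟩ rfl]
    exact h s _ rfl
  have hS : ∀ s : F.S, θ ⟨s, F.S_le_Aut s.2⟩ = ι (e s) := fun s => by
    refine MulEquiv.ext fun x => ?_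
    obtain ⟨t, rfl⟩ := e.surjective x
    rw [hθ ⟨s, F.S_le_Aut s.2⟩ t (s * t * s⁻¹) rfl, map_mul, map_mul, map_inv]
    rfl
  let Q : Subgroup (RingAut A) := ((H.map ι).comap θ).map F.Aut.subtype
  have hQ : ¬ F.S ≤ Q := fun h => hs.not_le fun x hx => by
    obtain ⟨s, hs'⟩ := e.surjective ⟨x, hx⟩
    obtain ⟨γ, ⟨y, hy, hyγ⟩, hγ⟩ := h s.2
    have h1 : γ = ⟨s, F.S_le_Aut s.2⟩ := Subtype.ext hγ
    rw [h1, hS, hs'] at hyγ
    rw [hι hyγ] at hy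
    exact hy
  obtain ⟨M, hQM, hMx⟩ := Finite.exists_le_maximal (p := fun M : Subgroup (RingAut A) => M ≤ F.Aut ∧ ¬ F.S ≤ M)
    (a := Q) ⟨Subgroup.map_subtype_le _, hQ⟩
  have hsimple := hs.simple
  have hctx : Ctx F M := ⟨hss, hspan, e.isSimpleGroup, fun h => hs.noncomm ⟨⟨fun a b => by
      obtain ⟨a, rfl⟩ := e.surjective a
      obtain ⟨b, rfl⟩ := e.surjective b
      rw [← map_mul, ← map_mul, h.1.1 a b]⟩⟩, hMx.1.1, hMx.1.2,
    fun M' h1 h2 h3 => hMx.2 ⟨h2, h3⟩ h1⟩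
  have h9 := hM big A F M hctx
  let K : Subgroup G := ((M.subgroupOf F.Aut).map θ).comap ι
  have hHK : H ≤ K := fun x hx => by
    obtain ⟨γ, hγ⟩ := hsurj x
    exact ⟨γ, hQM ⟨γ, ⟨x, hx, hγ.symm⟩, rfl⟩, hγ⟩
  have hK : K = H := by
    by_contra hne
    have h1 : K = ⊤ := hs.coatom.2 K (lt_of_le_of_ne hHK (Ne.symm hne))
    refine hMx.1.2 fun s hs' => ?_
    have h2 : ((e ⟨s, hs'⟩ : S) : G) ∈ K := h1 ▸ Subgroup.mem_top _
    obtain ⟨γ, hγ, h3⟩ := h2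
    rw [← hS] at h3
    have h4 : ((γ⁻¹ * ⟨s, F.S_le_Aut hs'⟩ : F.Aut) : RingAut A) ∈ M :=
      hQM ⟨γ⁻¹ * ⟨s, F.S_le_Aut hs'⟩, ⟨1, one_mem _, by rw [map_one, map_mul, map_inv, h3, inv_mul_cancel]⟩, rfl⟩
    have h5 := M.mul_mem (Subgroup.mem_subgroupOf.1 hγ) h4
    simpa using h5
  have hQ9 : PS 9 Q := by
    refine ps_down h9 (fun s hs' => ?_) hQM
    have h1 : s ∈ F.S := FR.dS_three_le hss (dS_mono hMx.1.1 3 (dS_anti M (by norm_num) hs'))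
    have h2 : ((e ⟨s, h1⟩ : S) : G) ∈ K := ⟨⟨s, F.S_le_Aut h1⟩, dS_le M 9 hs', hS ⟨s, h1⟩⟩
    rw [hK] at h2
    exact ⟨⟨s, F.S_le_Aut h1⟩, ⟨_, h2, (hS ⟨s, h1⟩).symm⟩, rfl⟩
  have h3 := ps_map θ (ps_of_map_inj F.Aut.subtype_injective hQ9)
  rw [Subgroup.map_comap_eq_self] at h3
  · exact ps_of_map_inj hι h3
  · rintro _ ⟨x, -, rfl⟩
    exact hsurj x

/-- transport of models -/
theorem model_congr {T T' : Type} [Group T] [Group T'] (e : T' ≃* T) {Γ : Set (MulAut T)} (h : Model T Γ)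
    {Γ' : Set (MulAut T')} (hΓ : ∀ α ∈ Γ', MulAut.congr e α ∈ Γ) : Model T' Γ' := by
  obtain ⟨A, _, _, _, F, f, hss, hspan, h⟩ := h
  refine ⟨A, inferInstance, inferInstance, inferInstance, F, f.trans e.symm, hss, hspan, fun α hα => ?_⟩
  obtain ⟨γ, hγ, h1⟩ := h _ (hΓ α hα)
  refine ⟨γ, hγ, fun s t hst => ?_⟩
  rw [MulEquiv.trans_apply, MulEquiv.trans_apply, h1 s t hst]
  exact e.symm_apply_apply _

/-- a row from a model with all automorphisms -/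
theorem row_of (hR : BoxRow) (big : Big) {G : Type} [Group G] [Finite G] {S H : Subgroup G} (hs : Setup S H)
    {T : Type} [Group T] (e : S ≃* T) {Γ : Set (MulAut T)} (h : Model T Γ) (hΓ : ∀ α, α ∈ Γ) : PS 9 H :=
  hR big G S H hs (model_congr e h fun _ _ => hΓ _)

end Cfsg.Agent.DS.Cl.Fwd
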