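import Cfsg.Agent.DS.Cl.Ring

/-!
# Matrix units and the Skolem-Noether theorem for finite star-simple rings
-/

set_option autoImplicit false

namespace Cfsg.Agent.DS.Cl

open Cfsg Cfsg.Agent.H936 Cfsg.Agent.DS

section mu

variable {A : Type} [Ring A] {n : ℕ}

/-- a system of matrix units -/
structure MU0 (E : Fin n → Fin n → A) : Prop where
  mul : ∀ i j k l, E i j * E k l = if j = k then E i l else 0
  sum : ∑ i, E i i = 1

/-- a system of matrix units whose centralizer is the centre -/
structure MU (E : Fin n → Fin n → A) : Prop extends MU0 E where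
  cen : ∀ a, (∀ i j, a * E i j = E i j * a) → a ∈ Subring.center A

/-- the coefficients of an element with respect to matrix units -/
def coef (E : Fin n → Fin n → A) (a : A) (i j : Fin n) : A := ∑ k, E k i * a * E j k

namespace MU0

variable {E : Fin n → Fin n → A} (h : MU0 E)
include h

theorem mul_eq (i j l : Fin n) : E i j * E j l = E i l := by rw [h.mul, if_pos rfl]

theorem coef_mul (a : A) (i j p q : Fin n) : coef E a i j * E p q = E p i * a * E j q := by
  unfold coef
  rw [Finset.sum_mul, Finset.sum_eq_single p]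
  · rw [mul_assoc _ (E j p), h.mul_eq]
  · intro k _ hk
    rw [mul_assoc _ (E j k), h.mul, if_neg hk, mul_zero]
  · intro hp; exact absurd (Finset.mem_univ p) hp

theorem mul_coef (a : A) (i j p q : Fin n) : E p q * coef E a i j = E p i * a * E j q := by
  unfold coef
  rw [Finset.mul_sum, Finset.sum_eq_single q]
  · rw [← mul_assoc, ← mul_assoc, h.mul_eq]
  · intro k _ hk
    rw [← mul_assoc, ← mul_assoc, h.mul, if_neg (Ne.symm hk), zero_mul, zero_mul]
  · intro hp; exact absurd (Finset.mem_univ q) hp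

theorem coef_comm (a : A) (i j p q : Fin n) : coef E a i j * E p q = E p q * coef E a i j := by
  rw [h.coef_mul, h.mul_coef]

theorem expand (a : A) : a = ∑ i, ∑ j, coef E a i j * E i j := by
  simp only [h.coef_mul]
  simp only [← Finset.mul_sum, h.sum, mul_one]
  rw [← Finset.sum_mul, h.sum, one_mul]

theorem map {B : Type} [Ring B] (f : A →+* B) : MU0 fun i j => f (E i j) where
  mul i j k l := by rw [← map_mul, h.mul]; split_ifs <;> simp
  sum := by rw [← map_sum, h.sum, map_one]

theorem eq_zero {c : A} (hc : ∀ i j, c * E i j = E i j * c) {i j : Fin n} (h0 : c * E i j = 0) : c = 0 := by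
  have h1 : ∀ k, c * E k k = 0 := by
    intro k
    rw [← h.mul_eq k i k, ← h.mul_eq i j k, ← mul_assoc, hc, mul_assoc, ← mul_assoc c, h0, zero_mul, mul_zero]
  rw [← mul_one c, ← h.sum, Finset.mul_sum]
  exact Finset.sum_eq_zero fun k _ => h1 k

theorem pos [Nontrivial A] : 0 < n := by
  rcases Nat.eq_zero_or_pos n with rfl | h1
  · have h2 := h.sum
    simp at h2
  · exact h1

theorem ne_zero [Nontrivial A] (i j : Fin n) : E i j ≠ 0 := by
  intro h0
  have := h.eq_zero (c := 1) (by simp) (i := i) (j := j) (by rw [one_mul, h0])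
  exact one_ne_zero this

end MU0

namespace MU

variable {E : Fin n → Fin n → A} (h : MU E)
include h

theorem coef_cen (a : A) (i j : Fin n) : coef E a i j ∈ Subring.center A := h.cen _ fun p q => h.coef_comm a i j p q

theorem map (γ : RingAut A) : MU fun i j => γ (E i j) where
  toMU0 := h.toMU0.map (γ : A →+* A)
  cen a ha := by
    obtain ⟨a, rfl⟩ := γ.surjective a
    refine map_cen γ (h.cen a fun i j => γ.injective ?_)
    rw [map_mul, map_mul]
    exact ha i j

theorem ext {f g : A →+* A} (hc : ∀ c ∈ Subring.center A, f c = g c) (hE : ∀ i j, f (E i j) = g (E i j)) : f = g := by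
  ext a
  rw [h.expand a]
  simp only [map_sum, map_mul, hE, hc _ (h.coef_cen a _ _)]

end MU

theorem exists_mu_simple (B : Type) [Ring B] [Finite B] [IsSimpleRing B] :
    ∃ (n : ℕ) (E : Fin n → Fin n → B), MU E := by
  obtain ⟨n, hn, D, _, ⟨e⟩⟩ := IsSimpleRing.exists_ringEquiv_matrix_divisionRing B
  have hD : Finite D := by
    have h1 : Finite (Matrix (Fin n) (Fin n) D) := Finite.of_equiv _ e.toEquiv
    exact Finite.of_injective (fun d : D => (Matrix.scalar (Fin n) d)) fun _ _ hab => Matrix.scalar_inj.1 hab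
  refine ⟨n, fun i j => e.symm (Matrix.single i j 1), ⟨fun i j k l => ?_, ?_⟩, fun a ha => ?_⟩
  · rw [← map_mul]
    split_ifs with hjk
    · subst hjk
      rw [Matrix.single_mul_single_same, mul_one]
    · rw [Matrix.single_mul_single_of_ne _ _ _ _ hjk, map_zero]
  · rw [← map_sum, ← map_one e.symm]
    congr 1
    exact Matrix.sum_single_one
  · have h1 : e a ∈ Set.range (Matrix.scalar (Fin n)) := by
      refine Matrix.mem_range_scalar_iff_commute_single'.2 fun i j => ?_
      have h2 := congrArg e (ha i j)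
      simp only [map_mul, RingEquiv.apply_symm_apply] at h2
      exact h2.symm
    obtain ⟨d, hd⟩ := h1
    rw [Subring.mem_center_iff]
    intro g
    apply e.injective
    rw [map_mul, map_mul, ← hd]
    have hc : ∀ x y : D, x * y = y * x := fun x y => (littleWedderburn D).mul_comm x y
    exact ((Matrix.scalar_commute d (fun r => hc d r) (e g)).eq).symm

end mu

variable {A : Type} [Ring A] [StarRing A] [Finite A]

theorem SS.exists_mu (h : SS A) : ∃ (n : ℕ) (E : Fin n → Fin n → A), MU E := by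
  rcases h.simple_or_eps with h1 | ⟨ε, hε⟩
  · exact exists_mu_simple A
  have := h.nontrivial
  have hi : IsIdempotentElem ε := hε.idem
  have hmem : ∀ x : hi.Corner, ε * x.1 = x.1 := fun x => ((Subsemigroup.mem_corner_iff hi).1 x.2).1
  have hmk : ∀ x : A, ε * x ∈ Subsemigroup.corner ε := fun x =>
    (Subsemigroup.mem_corner_iff hi).2 ⟨by rw [← mul_assoc, hε.idem], by rw [hε.comm, ← mul_assoc, hε.idem]⟩
  let pr : A → hi.Corner := fun x => ⟨ε * x, hmk x⟩
  have hfin : Finite hi.Corner := inferInstanceAs (Finite (Subsemigroup.corner ε))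
  have hnt : Nontrivial hi.Corner := ⟨⟨1, 0, fun h0 => hε.ne_zero (congrArg Subtype.val h0)⟩⟩
  have hs : IsSimpleRing hi.Corner := by
    refine IsSimpleRing.of_eq_bot_or_eq_top fun I => ?_
    let J : Ideal A :=
      { carrier := {x | ∃ y ∈ I, y.1 = x}
        add_mem' := by
          rintro _ _ ⟨a, ha, rfl⟩ ⟨b, hb, rfl⟩
          exact ⟨a + b, I.add_mem ha hb, rfl⟩
        zero_mem' := ⟨0, I.zero_mem, rfl⟩
        smul_mem' := by
          rintro c _ ⟨a, ha, rfl⟩
          refine ⟨pr c * a, I.mul_mem_left _ _ ha, ?_⟩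
          change ε * c * a.1 = c * a.1
          rw [← hε.comm, mul_assoc, hmem] }
    have hJ : Two J := by
      rintro _ ⟨a, ha, rfl⟩ c
      refine ⟨a * pr c, I.mul_mem_right _ _ ha, ?_⟩
      change a.1 * (ε * c) = a.1 * c
      rw [← mul_assoc, hε.comm, hmem]
    by_cases hb : J = ⊥
    · left
      rw [eq_bot_iff]
      intro x hx
      have h2 : x.1 ∈ J := ⟨x, hx, rfl⟩
      rw [hb] at h2
      exact Subtype.ext h2
    · right
      obtain ⟨y, hy, hy'⟩ := h.eps_mem hε hJ hb (by rintro _ ⟨a, -, rfl⟩; exact hmem a)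
      have h2 : y = 1 := Subtype.ext hy'
      exact (TwoSidedIdeal.one_mem_iff I).1 (h2 ▸ hy)
  obtain ⟨n, e, he⟩ := exists_mu_simple hi.Corner
  have hmul : ∀ i j k l, (e i j).1 * (e k l).1 = if j = k then (e i l).1 else 0 := by
    intro i j k l
    have h2 := congrArg Subtype.val (he.mul i j k l)
    split_ifs at h2 ⊢ <;> exact h2
  have hsum : ∑ i, (e i i).1 = ε := by
    let f : hi.Corner →+ A := { toFun := Subtype.val, map_zero' := rfl, map_add' := fun _ _ => rfl }
    have h2 := congrArg f he.sum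
    rw [map_sum] at h2
    exact h2
  have hx1 : ∀ x y : hi.Corner, x.1 * star y.1 = 0 := by
    intro x y
    rw [← hmem x, ← hmem y, star_mul, ← hε.comm, mul_assoc, ← mul_assoc ε, ← hε.comm, mul_assoc, hε.ms]
    simp
  have hx2 : ∀ x y : hi.Corner, star x.1 * y.1 = 0 := by
    intro x y
    rw [← hmem x, ← hmem y, star_mul, mul_assoc, ← mul_assoc (star ε), hε.sm]
    simp
  have hcen : ∀ a : A, (∀ i j, a * (e i j).1 = (e i j).1 * a) → ε * a ∈ Subring.center A := by
    intro a ha
    have h2 := he.cen (pr a) fun i j => Subtype.ext (by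
      change ε * a * (e i j).1 = (e i j).1 * (ε * a)
      rw [mul_assoc, ha, ← mul_assoc, ← mul_assoc, hε.comm])
    rw [Subring.mem_center_iff]
    intro g
    have h3 := congrArg Subtype.val (Subring.mem_center_iff.1 h2 (pr g))
    change ε * g * (ε * a) = ε * a * (ε * g) at h3
    have e1 : ε * g * (ε * a) = g * (ε * a) := by rw [← hε.comm g, mul_assoc, ← mul_assoc ε ε, hε.idem]
    have e2 : ε * a * (ε * g) = ε * a * g := by
      rw [← mul_assoc, mul_assoc ε a ε, hε.comm a, ← mul_assoc, hε.idem]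
    rw [← e1, h3, e2]
  refine ⟨n, fun i j => (e i j).1 + star (e j i).1, ⟨fun i j k l => ?_, ?_⟩, fun a ha => ?_⟩
  · rw [add_mul, mul_add, mul_add, hx1, hx2, ← star_mul, hmul, hmul, add_zero, zero_add]
    by_cases hjk : j = k
    · subst hjk; simp
    · simp [hjk, Ne.symm hjk]
  · rw [Finset.sum_add_distrib, ← star_sum, hsum, hε.add]
  · have h0 : ∀ x : hi.Corner, ε * star x.1 = 0 := fun x => hx1 1 x
    have h1 : ∀ i j, a * (e i j).1 = (e i j).1 * a := by
      intro i j
      have h2 := congrArg (ε * ·) (ha i j)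
      simp only [← mul_assoc, mul_add, hmem, h0, add_zero] at h2
      rw [← hε.comm a, mul_assoc, mul_assoc, hmem, h0, mul_zero, add_zero] at h2
      exact h2
    have h3 : ∀ i j, star a * (e i j).1 = (e i j).1 * star a := by
      intro i j
      have h2 := congrArg star (ha j i)
      rw [star_mul, star_mul, star_add, star_star] at h2
      have h4 := congrArg (ε * ·) h2
      simp only [← mul_assoc, mul_add, hmem, h0, zero_add] at h4
      rw [← hε.comm (star a), mul_assoc, mul_assoc, hmem, h0, mul_zero, zero_add] at h4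
      exact h4.symm
    have h5 := star_cen (hcen _ h3)
    rw [star_mul, star_star, hε.st.comm] at h5
    rw [hε.split a]
    exact Subring.add_mem _ (hcen a h1) h5

theorem boxMU : BoxMU := by
  intro A _ _ _ h
  obtain ⟨n, E, hE⟩ := h.exists_mu
  exact ⟨n, E, hE.mul, hE.sum, hE.cen⟩

omit [StarRing A] [Finite A] in
theorem exists_part {n m : ℕ} {E : Fin n → Fin n → A} {E' : Fin m → Fin m → A} (hE : MU0 E) (hE' : MU E')
    (o : Fin n) (o' : Fin m) {η : A}
    (hc : η ∈ Subring.center A) (hi : η * η = η) (h0 : η ≠ 0)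
    (hu : ∀ c ∈ Subring.center A, η * c ≠ 0 → ∃ d ∈ Subring.center A, d * c = η) :
    ∃ x y, η * x = x ∧ η * y = y ∧ x * E o o = x ∧ E' o' o' * x = x ∧ E o o * y = y ∧ y * E' o' o' = y ∧
      x * y = η * E' o' o' := by
  have h1 : ∃ i, η * coef E' (E i i) o' o' ≠ 0 := by
    by_contra hcon
    push Not at hcon
    apply h0
    refine hE'.eq_zero (fun i j => (cen_comm hc _).symm) (i := o') (j := o') ?_
    have h2 : E' o' o' = ∑ i, coef E' (E i i) o' o' * E' o' o' := by
      simp only [hE'.coef_mul]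
      rw [← Finset.sum_mul, ← Finset.mul_sum, hE.sum, mul_one, hE'.mul_eq]
    rw [h2, Finset.mul_sum]
    exact Finset.sum_eq_zero fun i _ => by rw [← mul_assoc, hcon, zero_mul]
  obtain ⟨i, hi'⟩ := h1
  obtain ⟨d, hd, hdc⟩ := hu _ (hE'.coef_cen _ _ _) hi'
  refine ⟨η * (E' o' o' * E i o), η * d * (E o i * E' o' o'), by rw [← mul_assoc, hi], by
    rw [← mul_assoc, ← mul_assoc η η, hi], ?_, ?_, ?_, ?_, ?_⟩
  · rw [mul_assoc, mul_assoc, hE.mul_eq]
  · rw [← mul_assoc, cen_comm hc, mul_assoc, ← mul_assoc (E' o' o'), hE'.mul_eq]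
  · rw [← mul_assoc, cen_comm (Subring.mul_mem _ hc hd), mul_assoc, ← mul_assoc (E o o), hE.mul_eq]
  · rw [mul_assoc, mul_assoc (E o i), hE'.mul_eq]
  · have h3 : E' o' o' * E i o * (E o i * E' o' o') = coef E' (E i i) o' o' * E' o' o' := by
      rw [hE'.coef_mul, mul_assoc, ← mul_assoc (E i o), hE.mul_eq, mul_assoc]
    calc η * (E' o' o' * E i o) * (η * d * (E o i * E' o' o'))
        = η * ((E' o' o' * E i o) * (η * d)) * (E o i * E' o' o') := by simp only [mul_assoc]
      _ = η * η * d * (E' o' o' * E i o * (E o i * E' o' o')) := by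
        rw [cen_comm (Subring.mul_mem _ hc hd)]; simp only [mul_assoc]
      _ = η * E' o' o' := by rw [h3, hi, mul_assoc, ← mul_assoc d, hdc, ← mul_assoc, hi]

/-- two systems of matrix units of the same size are conjugate -/
theorem SS.conj_mu (h : SS A) {n : ℕ} {E E' : Fin n → Fin n → A} (hE : MU E) (hE' : MU E') :
    ∃ u : Aˣ, ∀ i j, (u : A) * E i j = E' i j * u := by
  have := h.nontrivial
  let o : Fin n := ⟨0, hE.pos⟩
  have h1 : ∃ x y, x * E o o = x ∧ E' o o * x = x ∧ E o o * y = y ∧ y * E' o o = y ∧ x * y = E' o o := by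
    by_cases hε : ∃ ε : A, Eps ε
    · obtain ⟨ε, hε⟩ := hε
      obtain ⟨x, y, a1, a2, a3, a4, a5, a6, a7⟩ := exists_part hE.toMU0 hE' o o hε.cen hε.idem hε.ne_zero
        fun c hc => h.eps_inv hε hc
      obtain ⟨x', y', b1, b2, b3, b4, b5, b6, b7⟩ := exists_part hE.toMU0 hE' o o hε.st.cen hε.st.idem hε.st.ne_zero
        fun c hc => h.eps_inv hε.st hc
      refine ⟨x + x', y + y', by rw [add_mul, a3, b3], by rw [mul_add, a4, b4], by rw [mul_add, a5, b5],
        by rw [add_mul, a6, b6], ?_⟩
      have c1 : x * y' = 0 := by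
        rw [← a1, ← b2, ← hε.comm, mul_assoc, ← mul_assoc ε, hε.ms, zero_mul, mul_zero]
      have c2 : x' * y = 0 := by
        rw [← b1, ← a2, ← hε.st.comm, mul_assoc, ← mul_assoc (star ε), hε.sm, zero_mul, mul_zero]
      rw [add_mul, mul_add, mul_add, c1, c2, a7, b7, add_zero, zero_add, ← add_mul, hε.add, one_mul]
    · obtain ⟨x, y, -, -, a3, a4, a5, a6, a7⟩ := exists_part hE.toMU0 hE' o o (Subring.one_mem _) (one_mul 1)
        one_ne_zero fun c hc h0 => by
          rw [one_mul] at h0
          obtain ⟨u, rfl⟩ := h.isUnit_of_not_eps hε hc h0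
          exact ⟨_, inv_cen hc, u.inv_mul⟩
      exact ⟨x, y, a3, a4, a5, a6, by rw [a7, one_mul]⟩
  obtain ⟨x, y, a3, a4, a5, a6, a7⟩ := h1
  have h2 : (∑ i, E' i o * x * E o i) * (∑ i, E i o * y * E' o i) = 1 := by
    rw [Finset.sum_mul, ← hE'.sum]
    refine Finset.sum_congr rfl fun i _ => ?_
    rw [Finset.mul_sum, Finset.sum_eq_single i]
    · calc E' i o * x * E o i * (E i o * y * E' o i) = E' i o * (x * (E o i * E i o) * y) * E' o i := by
            simp only [mul_assoc]
        _ = E' i i := by rw [hE.mul_eq, a3, a7, hE'.mul_eq, hE'.mul_eq]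
    · intro k _ hk
      calc E' i o * x * E o i * (E k o * y * E' o k) = E' i o * (x * (E o i * E k o) * y) * E' o k := by
            simp only [mul_assoc]
        _ = 0 := by rw [hE.mul, if_neg (Ne.symm hk)]; simp
    · intro hp; exact absurd (Finset.mem_univ i) hp
  refine ⟨⟨_, _, h2, mul_eq_one_comm.1 h2⟩, fun i j => ?_⟩
  change (∑ i, E' i o * x * E o i) * E i j = E' i j * ∑ i, E' i o * x * E o i
  rw [Finset.sum_mul, Finset.mul_sum, Finset.sum_eq_single i, Finset.sum_eq_single j]
  · rw [mul_assoc _ (E o i), hE.mul_eq, ← mul_assoc, ← mul_assoc, hE'.mul_eq]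
  · intro k _ hk
    rw [← mul_assoc, ← mul_assoc, hE'.mul, if_neg (Ne.symm hk)]; simp
  · intro hp; exact absurd (Finset.mem_univ j) hp
  · intro k _ hk
    rw [mul_assoc _ (E o k), hE.mul, if_neg hk, mul_zero]
  · intro hp; exact absurd (Finset.mem_univ i) hp

/-- **Skolem-Noether** -/
theorem SS.sn (h : SS A) {γ : RingAut A} (hγ : γ ∈ Lin A) : ∃ u : Aˣ, γ = cj A u := by
  obtain ⟨n, E, hE⟩ := h.exists_mu
  obtain ⟨u, hu⟩ := h.conj_mu hE (hE.map γ)
  refine ⟨u, ?_⟩
  have h1 : (γ : A →+* A) = (cj A u : A →+* A) := by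
    refine hE.ext (fun c hc => ?_) fun i j => ?_
    · change γ c = u * c * (u⁻¹ : Aˣ)
      rw [hγ c hc, cen_comm hc, mul_assoc, Units.mul_inv, mul_one]
    · change γ (E i j) = u * E i j * (u⁻¹ : Aˣ)
      rw [hu, mul_assoc, Units.mul_inv, mul_one]
  ext a
  exact congrArg (fun f : A →+* A => f a) h1

theorem boxSN : BoxSN := fun _ _ _ _ h _ hγ => h.sn hγ

end Cfsg.Agent.DS.Cl
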